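import Cfsg.Agent.Lib.PrimeDim.Algebra

/-!
# Gram matrices and invariant forms

* `sesq σ G` and the dictionary with `IsBilinearForm`, `IsUnitaryForm`, quadratic forms;
* `sesq_invariant_iff` : `g` is a similarity iff `gᵀ G g^σ = c G`;
* `similar_of_normalizes`, `quadSimilar_of_normalizes` : normalisers of absolutely irreducible isometry groups
  consist of similarities;
* `det_skew_eq_zero` : alternating matrices of odd size are singular.
-/

set_option autoImplicit false

namespace Cfsg.Agent.PrimeDim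

open Matrix

variable {ι : Type} [Fintype ι] [DecidableEq ι] {F : Type*} [Field F]

/-- The form with Gram matrix `G`, semilinear by `σ` in the second argument. -/
def sesq (σ : F →+* F) (G : Matrix ι ι F) (u v : ι → F) : F := u ⬝ᵥ G *ᵥ (σ ∘ v)

theorem comp_single (σ : F →+* F) (j : ι) : σ ∘ (Pi.single j 1 : ι → F) = Pi.single j 1 := by
  ext k
  by_cases h : k = j
  · subst h; simp
  · simp [h]

theorem sesq_single (σ : F →+* F) (G : Matrix ι ι F) (i j : ι) :
    sesq σ G (Pi.single i 1) (Pi.single j 1) = G i j := by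
  simp [sesq, comp_single]

theorem sesq_mulVec (σ : F →+* F) (G A : Matrix ι ι F) (u v : ι → F) :
    sesq σ G (A *ᵥ u) (A *ᵥ v) = sesq σ (Aᵀ * G * A.map σ) u v := by
  have h : σ ∘ (A *ᵥ v) = A.map σ *ᵥ (σ ∘ v) := by
    ext i; exact RingHom.map_mulVec σ A v i
  simp only [sesq, h, ← Matrix.mulVec_mulVec, Matrix.dotProduct_mulVec, Matrix.vecMul_transpose]

theorem sesq_ext {σ : F →+* F} {G G' : Matrix ι ι F} (h : ∀ u v, sesq σ G u v = sesq σ G' u v) : G = G' := by
  ext i j
  rw [← sesq_single σ G, ← sesq_single σ G', h]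

theorem sesq_smul_matrix (σ : F →+* F) (c : F) (G : Matrix ι ι F) (u v : ι → F) :
    sesq σ (c • G) u v = c * sesq σ G u v := by
  simp [sesq, Matrix.smul_mulVec]

theorem sesq_invariant_iff (σ : F →+* F) (G A : Matrix ι ι F) (c : F) :
    (∀ u v, sesq σ G (A *ᵥ u) (A *ᵥ v) = c * sesq σ G u v) ↔ Aᵀ * G * A.map σ = c • G := by
  simp only [sesq_mulVec, ← sesq_smul_matrix]
  exact ⟨sesq_ext, fun h u v => by rw [h]⟩

theorem eq_sesq (σ : F →+* F) {f : (ι → F) → (ι → F) → F}
    (hal : ∀ x y v, f (x + y) v = f x v + f y v) (hsl : ∀ (c : F) x v, f (c • x) v = c * f x v)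
    (har : ∀ v x y, f v (x + y) = f v x + f v y) (hsr : ∀ (c : F) v x, f v (c • x) = σ c * f v x) :
    f = sesq σ (Geo.gramMatrix f) := by
  funext u v
  let L : (ι → F) → (ι → F) →ₗ[F] F := fun w =>
    { toFun := fun x => f x w, map_add' := fun x y => hal x y w, map_smul' := fun c x => hsl c x w }
  let R : (ι → F) → (ι → F) →ₛₗ[σ] F := fun x =>
    { toFun := fun w => f x w, map_add' := har x, map_smul' := fun c w => hsr c x w }
  have h1 : f u v = ∑ i, u i * f (Pi.single i 1) v := by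
    show L v u = _
    conv_lhs => rw [pi_eq_sum_univ' u, map_sum]
    simp [L, hsl]
  have h2 : ∀ i, f (Pi.single i 1) v = ∑ j, σ (v j) * f (Pi.single i 1) (Pi.single j 1) := by
    intro i
    show R (Pi.single i 1) v = _
    conv_lhs => rw [pi_eq_sum_univ' v, map_sum]
    simp [R, hsr]
  rw [h1]
  simp only [h2, sesq, dotProduct, Matrix.mulVec, Geo.gramMatrix, Function.comp_apply]
  refine Finset.sum_congr rfl fun i _ => ?_
  refine congrArg _ (Finset.sum_congr rfl fun j _ => ?_)
  ring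

theorem det_ne_zero_of_nondegenerate [Finite F] (σ : F →+* F) {G : Matrix ι ι F}
    (h : Geo.IsNondegenerateForm (sesq σ G)) : G.det ≠ 0 := by
  intro h0
  obtain ⟨w, hw, hGw⟩ := Matrix.exists_mulVec_eq_zero_iff.mpr h0
  have hbij : Function.Bijective σ := Finite.injective_iff_bijective.mp σ.injective
  choose v hv using fun i => hbij.2 (w i)
  have hv0 : v ≠ 0 := fun h' => hw (funext fun i => by rw [← hv i, h']; simp)
  obtain ⟨x, hx⟩ := (h v hv0).1
  refine hx ?_
  rw [sesq, show σ ∘ v = w from funext hv, hGw, dotProduct_zero]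

theorem nondegenerate_of_det_ne_zero (σ : F →+* F) {G : Matrix ι ι F} (h : G.det ≠ 0) :
    Geo.IsNondegenerateForm (sesq σ G) := by
  intro v hv
  constructor
  · have h1 : G *ᵥ (σ ∘ v) ≠ 0 := fun h0 => by
      have : σ ∘ v = 0 := Matrix.eq_zero_of_mulVec_eq_zero h h0
      exact hv (funext fun i => σ.injective (by simpa using congrFun this i))
    obtain ⟨i, hi⟩ := Function.ne_iff.mp h1
    exact ⟨Pi.single i 1, by simpa [sesq] using hi⟩
  · have h1 : v ᵥ* G ≠ 0 := fun h0 => hv (Matrix.eq_zero_of_vecMul_eq_zero h h0)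
    obtain ⟨i, hi⟩ := Function.ne_iff.mp h1
    refine ⟨Pi.single i 1, ?_⟩
    rw [sesq, comp_single, Matrix.dotProduct_mulVec, dotProduct_single_one]
    exact hi

theorem unitaryForm_eq_sesq {σ : F ≃+* F} {f : (ι → F) → (ι → F) → F} (hf : Geo.IsUnitaryForm σ f) :
    f = sesq (σ : F →+* F) (Geo.gramMatrix f) :=
  eq_sesq _ hf.add_left hf.smul_left (fun v x y => by rw [hf.herm, hf.add_left, map_add, ← hf.herm, ← hf.herm])
    (fun c v x => by rw [hf.herm, hf.smul_left, map_mul, ← hf.herm]; rfl)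

theorem bilinForm_eq_sesq {f : (ι → F) → (ι → F) → F} (hf : Geo.IsBilinearForm f) :
    f = sesq (RingHom.id F) (Geo.gramMatrix f) :=
  eq_sesq _ hf.add_left hf.smul_left hf.add_right hf.smul_right

theorem unitaryForm_of_gram [Finite F] {σ : F ≃+* F} (hne : σ ≠ RingEquiv.refl F) (hinv : ∀ a, σ (σ a) = a)
    {G : Matrix ι ι F} (hG : (G.map σ)ᵀ = G) (hdet : G.det ≠ 0) :
    Geo.IsUnitaryForm σ (sesq (σ : F →+* F) G) := by
  refine ⟨hne, hinv, fun x y v => by simp [sesq, add_dotProduct], fun c x v => by simp [sesq, smul_dotProduct],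
    fun v w => ?_, nondegenerate_of_det_ne_zero _ hdet⟩
  simp only [sesq, dotProduct, Matrix.mulVec, Finset.mul_sum, map_sum, map_mul, Function.comp_apply,
    RingHom.coe_coe, hinv]
  rw [Finset.sum_comm]
  refine Finset.sum_congr rfl fun j _ => Finset.sum_congr rfl fun i _ => ?_
  have := congrFun (congrFun hG i) j
  rw [Matrix.transpose_apply, Matrix.map_apply] at this
  rw [← this]
  ring

theorem polar_self {Q : (ι → F) → F} (hQ : Geo.IsNondegenerateQuadraticForm Q) (v : ι → F) :
    QuadraticMap.polar Q v v = 2 * Q v := by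
  have : Q (v + v) = 4 * Q v := by rw [← two_smul F v, hQ.smul]; ring
  rw [QuadraticMap.polar, this]
  ring

theorem mem_quadSimilarityGroup_of_polar {Q : (ι → F) → F} (hQ : Geo.IsNondegenerateQuadraticForm Q)
    (h2 : (2 : F) ≠ 0) {g : GL ι F} (hg : g ∈ Geo.similarityGroup (QuadraticMap.polar Q)) :
    g ∈ Geo.quadSimilarityGroup Q := by
  obtain ⟨c, hc⟩ := hg
  refine ⟨c, fun v => ?_⟩
  have := hc v v
  rw [polar_self hQ, polar_self hQ] at this
  exact mul_left_cancel₀ h2 (by linear_combination this)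

theorem mem_similarity_sesq {σ : F →+* F} {G : Matrix ι ι F} {h : GL ι F} {c : F} (hc : c ≠ 0)
    (he : (h : Matrix ι ι F)ᵀ * G * (h : Matrix ι ι F).map σ = c • G) :
    h ∈ Geo.similarityGroup (sesq σ G) :=
  ⟨Units.mk0 c hc, (sesq_invariant_iff σ G _ c).mpr he⟩

theorem isUnit_det_map (σ : F →+* F) (x : GL ι F) : IsUnit ((x : Matrix ι ι F).map σ).det := by
  rw [← RingHom.mapMatrix_apply, ← RingHom.map_det]
  exact (Matrix.GeneralLinearGroup.det x).isUnit.map σ

/-- The normaliser of an absolutely irreducible isometry group consists of similarities. -/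
theorem similar_of_normalizes [Nonempty ι] {P : Subgroup (GL ι F)}
    (hcomm : ∀ M : Matrix ι ι F, (∀ s ∈ Geo.matrixSet P, M * s = s * M) → ∃ c : F, M = c • 1)
    (σ : F →+* F) {G : Matrix ι ι F} (hG : G.det ≠ 0)
    (hinv : ∀ x ∈ P, (x : Matrix ι ι F)ᵀ * G * (x : Matrix ι ι F).map σ = G) {h : GL ι F}
    (hn : ∀ x ∈ P, h * x * h⁻¹ ∈ P) : h ∈ Geo.similarityGroup (sesq σ G) := by
  set H : Matrix ι ι F := (h : Matrix ι ι F) with hH
  obtain ⟨c, hc⟩ := invariant_unique hcomm σ (isUnit_iff_ne_zero.mpr hG) hinv (G' := Hᵀ * G * H.map σ) (by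
    intro x hx
    have hW : H * (x : Matrix ι ι F) = ((h * x * h⁻¹ : GL ι F) : Matrix ι ι F) * H := by
      rw [hH, ← Units.val_mul, ← Units.val_mul]; congr 1; group
    have h6 := hinv _ (hn x hx)
    calc (x : Matrix ι ι F)ᵀ * (Hᵀ * G * H.map σ) * (x : Matrix ι ι F).map σ
        = (H * (x : Matrix ι ι F))ᵀ * G * (H * (x : Matrix ι ι F)).map σ := by
          simp [Matrix.transpose_mul, Matrix.map_mul, mul_assoc]
      _ = Hᵀ * (((h * x * h⁻¹ : GL ι F) : Matrix ι ι F)ᵀ * G *
            ((h * x * h⁻¹ : GL ι F) : Matrix ι ι F).map σ) * H.map σ := by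
          rw [hW]; simp [Matrix.transpose_mul, Matrix.map_mul, mul_assoc]
      _ = Hᵀ * G * H.map σ := by rw [h6])
  refine mem_similarity_sesq ?_ hc
  intro h0
  rw [h0, zero_smul] at hc
  have := congrArg Matrix.det hc
  rw [Matrix.det_mul, Matrix.det_mul, Matrix.det_transpose, Matrix.det_zero] at this
  rcases mul_eq_zero.mp this with h1 | h1
  · rcases mul_eq_zero.mp h1 with h2 | h2
    · exact (Matrix.GeneralLinearGroup.det h).ne_zero h2
    · exact hG h2
  · exact (isUnit_det_map σ h).ne_zero h1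

theorem det_skew_eq_zero (G : Matrix ι ι F) (hs : ∀ i j, G i j = -G j i) (hd : ∀ i, G i i = 0)
    (hodd : Odd (Fintype.card ι)) : G.det = 0 := by
  classical
  let φ := Fintype.equivFin ι
  let X : Matrix ι ι (MvPolynomial (ι × ι) ℤ) := fun i j => MvPolynomial.X (i, j)
  have h0 : (X - Xᵀ).det = 0 := by
    have h1 : (X - Xᵀ).det = -(X - Xᵀ).det := by
      conv_lhs => rw [← Matrix.det_transpose, Matrix.transpose_sub, Matrix.transpose_transpose, ← neg_sub,
        Matrix.det_neg, hodd.neg_one_pow, neg_one_mul]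
    exact CharZero.eq_neg_self_iff.mp h1
  let g : ι × ι → F := fun p => if φ p.1 < φ p.2 then G p.1 p.2 else 0
  let ev : MvPolynomial (ι × ι) ℤ →+* F := MvPolynomial.eval₂Hom (Int.castRingHom F) g
  have hG : ev.mapMatrix (X - Xᵀ) = G := by
    ext i j
    show ev (MvPolynomial.X (i, j) - MvPolynomial.X (j, i)) = G i j
    simp only [map_sub, ev, MvPolynomial.eval₂Hom_X', g]
    rcases lt_trichotomy (φ i) (φ j) with h | h | h
    · simp [h, not_lt.mpr h.le]
    · rw [φ.injective h]; simp [hd]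
    · simp [h, not_lt.mpr h.le, hs i j]
  rw [← hG, ← RingHom.map_det, h0, map_zero]

/-- Odd dimension: no non-degenerate alternating bilinear forms. -/
theorem not_isSymplecticForm [Finite F] (hodd : Odd (Fintype.card ι)) {f : (ι → F) → (ι → F) → F}
    (hf : Geo.IsSymplecticForm f) : False := by
  have he := bilinForm_eq_sesq hf.bilinear
  refine det_ne_zero_of_nondegenerate (RingHom.id F) (he ▸ hf.nondegenerate) ?_
  exact det_skew_eq_zero _ (fun i j => hf.skew _ _) (fun i => hf.alternating _) hodd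

/-- Odd dimension, characteristic two: no non-degenerate quadratic forms. -/
theorem two_ne_zero_of_quadratic [Finite F] (hodd : Odd (Fintype.card ι)) {Q : (ι → F) → F}
    (hQ : Geo.IsNondegenerateQuadraticForm Q) : (2 : F) ≠ 0 := by
  intro h2
  refine not_isSymplecticForm hodd (f := QuadraticMap.polar Q) ⟨hQ.polar_bilinear, fun v w => ?_, fun v => ?_,
    hQ.nondegenerate⟩
  · rw [QuadraticMap.polar_comm]
    have : ∀ a : F, a = -a := fun a => by linear_combination a * h2
    exact this _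
  · rw [polar_self hQ, h2, zero_mul]

theorem quadSimilar_of_normalizes [Nonempty ι] [Finite F] {P : Subgroup (GL ι F)}
    (hcomm : ∀ M : Matrix ι ι F, (∀ s ∈ Geo.matrixSet P, M * s = s * M) → ∃ c : F, M = c • 1)
    {Q : (ι → F) → F} (hQ : Geo.IsNondegenerateQuadraticForm Q) (h2 : (2 : F) ≠ 0)
    (hfix : Geo.FixesQuadForm (Geo.matrixSet P) Q) {h : GL ι F} (hn : ∀ x ∈ P, h * x * h⁻¹ ∈ P) :
    h ∈ Geo.quadSimilarityGroup Q := by
  refine mem_quadSimilarityGroup_of_polar hQ h2 ?_
  have he := bilinForm_eq_sesq hQ.polar_bilinear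
  rw [he]
  refine similar_of_normalizes hcomm _ (det_ne_zero_of_nondegenerate _ (he ▸ hQ.nondegenerate)) ?_ hn
  intro x hx
  refine Eq.trans ((sesq_invariant_iff (RingHom.id F) _ (x : Matrix ι ι F) 1).mp fun u v => ?_) (one_smul F _)
  rw [← he, one_mul, QuadraticMap.polar, QuadraticMap.polar, ← Matrix.mulVec_add,
    hfix _ (mem_matrixSet hx), hfix _ (mem_matrixSet hx), hfix _ (mem_matrixSet hx)]

end Cfsg.Agent.PrimeDim
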