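import Cfsg.Agent.Lib.PrimeDim.SLProper
import Cfsg.Agent.Lib.Orth.Geo

/-!
# `Ω` in odd dimension is in no geometric class

* `exists_orbit_injection` : every `Ω`-orbit of a non-zero vector has at least `q ^ (n - 2)` members;
* `omega_le_sl`, `not_omega_le_*`.
-/

set_option autoImplicit false
set_option linter.unusedSectionVars false

namespace Cfsg.Agent.PrimeDim

open Matrix Module
open QuadraticMap (polar)
open Orth (HPair perp eich ap IsoGrp)

variable {ι : Type} [Fintype ι] [DecidableEq ι] {F : Type*} [Field F] [Fintype F]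
variable {Q : QuadraticForm F (ι → F)}

theorem omega_le_sl : Geo.omegaGL ⇑Q ≤ Geo.specialLinear ι F := by
  rintro g ⟨h, hh, rfl⟩
  have := Abelianization.commutator_subset_ker
    ((Matrix.GeneralLinearGroup.det (n := ι) (R := F)).comp (Cfsg.isometryGroup F ⇑Q).subtype) hh
  exact this

variable (hQ : Q.polarBilin.Nondegenerate) (h2 : (2 : F) ≠ 0) (hn : 5 ≤ Fintype.card ι)
include hQ h2 hn

theorem omega_eq_pair {e f : ι → F} (hp : HPair Q e f) : Cfsg.Omega F ⇑Q = Orth.eichPair Q e f :=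
  Orth.omega_eq_eichPair (Orth.Good.of_two_ne_zero hQ h2) (by omega) (.inr hn) hp

theorem eich_mem (u w : ι → F) : eich Q u w ∈ Cfsg.Omega F ⇑Q :=
  Orth.eichGen_le_omega hQ (by omega) (.inr hn) (Orth.eich_mem_eichGen u w)

theorem exists_singular_transitive {u v : ι → F} (hu : u ≠ 0) (hu0 : Q u = 0) (hv : v ≠ 0) (hv0 : Q v = 0) :
    ∃ g ∈ Cfsg.Omega F ⇑Q, ∃ c : F, c ≠ 0 ∧ ap g u = c • v := by
  obtain ⟨e, f, hp⟩ := Orth.exists_hpair hQ (by omega)
  rw [omega_eq_pair hQ h2 hn hp]
  obtain ⟨g1, hg1, c1, hc1, h1⟩ := hp.exists_move_singular hQ (by omega) hu hu0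
  obtain ⟨g2, hg2, c2, hc2, h2'⟩ := hp.exists_move_singular hQ (by omega) hv hv0
  refine ⟨g2⁻¹ * g1, mul_mem (inv_mem hg2) hg1, c1 / c2, div_ne_zero hc1 hc2, ?_⟩
  rw [Orth.ap_mul, h1, show c1 • f = (c1 / c2) • (c2 • f) by rw [smul_smul, div_mul_cancel₀ _ hc2], ← h2',
    map_smul, Orth.ap_inv_ap]

/-- Every orbit of a non-zero vector contains an injective image of `perp e f`. -/
theorem exists_orbit_injection {e f : ι → F} (hp : HPair Q e f) {x : ι → F} (hx : x ≠ 0) :
    ∃ Ψ : perp Q e f → (ι → F), Function.Injective Ψ ∧ ∀ w, ∃ g ∈ Cfsg.Omega F ⇑Q, ap g x = Ψ w := by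
  have hfe : polar ⇑Q f e = 1 := by rw [Orth.pl_comm]; exact hp.pf
  have hff : polar ⇑Q f f = 0 := by rw [Orth.pl_self, hp.qf, mul_zero]
  have hee : polar ⇑Q e e = 0 := by rw [Orth.pl_self, hp.qe, mul_zero]
  let v : perp Q e f → (ι → F) := fun w => (Q x - Q (w : ι → F)) • e + (1 : F) • f + (w : ι → F)
  have hQv : ∀ w, Q (v w) = Q x := fun w => by
    rw [hp.Q_comb w.2]; ring
  have hfv : ∀ w, polar ⇑Q f (v w) = Q x - Q (w : ι → F) := fun w => by
    simp only [v, Orth.pl_add_right, Orth.pl_smul_right, hfe, hff, (Orth.mem_perp.1 w.2).2]; ring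
  have hev : ∀ w, polar ⇑Q e (v w) = 1 := fun w => by
    simp only [v, Orth.pl_add_right, Orth.pl_smul_right, hp.pf, hee, (Orth.mem_perp.1 w.2).1]; ring
  have hvinj : Function.Injective v := fun w w' h => by
    have h1 := (hfv w).symm.trans ((congrArg _ h).trans (hfv w'))
    refine Subtype.ext ?_
    have h' := h
    simp only [v] at h'
    rw [h1] at h'
    exact add_left_cancel h'
  have hΩ := omega_eq_pair hQ h2 hn hp
  by_cases hQx : Q x = 0
  · have hv0 : ∀ w, v w ≠ 0 := fun w h => by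
      have := hev w
      rw [h, Orth.pl_zero_right] at this
      exact zero_ne_one this
    choose g hg c hc hgv using fun w => exists_singular_transitive hQ h2 hn hx hQx (hv0 w) ((hQv w).trans hQx)
    refine ⟨fun w => c w • v w, fun w w' h => hvinj ?_, fun w => ⟨g w, hg w, hgv w⟩⟩
    have h1 : c w = c w' := by
      have := congrArg (polar ⇑Q e) h
      simpa [Orth.pl_smul_right, hev] using this
    simp only [h1] at h
    exact smul_right_injective _ (hc w') h
  · choose g hg hgv using fun w => hp.exists_move_norm hQ (by omega) (x := v w) (by rw [hQv]; exact hQx)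
    obtain ⟨g0, hg0, hg0x⟩ := hp.exists_move_norm hQ (by omega) hQx
    refine ⟨v, hvinj, fun w => ⟨(g w)⁻¹ * g0, hΩ ▸ mul_mem (inv_mem (hg w)) hg0, ?_⟩⟩
    rw [Orth.ap_mul, hg0x, show e + Q x • f = e + Q (v w) • f by rw [hQv], ← hgv, Orth.ap_inv_ap]

/-- A set stable under `Ω` with a non-zero vector is large. -/
theorem card_lower {e f : ι → F} (hp : HPair Q e f) {x : ι → F} (hx : x ≠ 0) {S : Type*} [Finite S]
    (π : S → (ι → F)) (hS : ∀ g ∈ Cfsg.Omega F ⇑Q, ∃ s, π s = ap g x) :
    Fintype.card F ^ (Fintype.card ι - 2) ≤ Nat.card S := by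
  obtain ⟨Ψ, hinj, hΨ⟩ := exists_orbit_injection hQ h2 hn hp hx
  have hex : ∀ w, ∃ s, π s = Ψ w := fun w => by
    obtain ⟨g, hg, h⟩ := hΨ w
    rw [← h]
    exact hS g hg
  choose s hs using hex
  have h1 : Nat.card (perp Q e f) ≤ Nat.card S :=
    Nat.card_le_card_of_injective s fun a b h => hinj (by rw [← hs, ← hs, h])
  refine le_trans ?_ h1
  rw [Module.natCard_eq_pow_finrank (K := F) (V := perp Q e f), Nat.card_eq_fintype_card]
  have := Orth.card_le_finrank_perp (Q := Q) e f
  exact Nat.pow_le_pow_right Fintype.card_pos (by omega)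

theorem not_omega_le_subspaceStabilizer {U : Submodule F (ι → F)} (hb : U ≠ ⊥) (ht : U ≠ ⊤) :
    ¬ Geo.omegaGL ⇑Q ≤ Geo.subspaceStabilizer U := by
  intro hle
  have hU : ∀ g ∈ Cfsg.Omega F ⇑Q, ∀ x ∈ U, ap g x ∈ U := fun g hg =>
    Orth.coe_mem_stabilizer.1 (hle (Orth.coe_mem_omegaGL.2 hg))
  by_cases hin : ∃ u ∈ U, u ≠ 0 ∧ Q u = 0
  · obtain ⟨u, huU, hu, hu0⟩ := hin
    have hall : ∀ v, Q v = 0 → v ∈ U := by
      intro v hv
      by_cases hv0 : v = 0
      · rw [hv0]; exact zero_mem _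
      obtain ⟨g, hg, c, hc, h⟩ := exists_singular_transitive hQ h2 hn hu hu0 hv0 hv
      have := U.smul_mem c⁻¹ (hU g hg u huU)
      rwa [h, smul_smul, inv_mul_cancel₀ hc, one_smul] at this
    obtain ⟨e, f, hp⟩ := Orth.exists_hpair hQ (by omega)
    refine ht (Submodule.eq_top_iff'.mpr fun x => ?_)
    have hperp : ∀ z ∈ perp Q e f, z ∈ U := fun z hz => by
      have h1 := hall ((-Q z) • e + (1 : F) • f + z) (by rw [hp.Q_comb hz]; ring)
      exact (U.add_mem_iff_right (U.add_mem (U.smul_mem _ (hall e hp.qe)) (U.smul_mem _ (hall f hp.qf)))).mp h1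
    rw [Orth.decomp (Q := Q) e f x]
    exact U.add_mem (U.add_mem (U.smul_mem _ (hall e hp.qe)) (U.smul_mem _ (hall f hp.qf)))
      (hperp _ (hp.wPart_mem x))
  · obtain ⟨x, hxU, hx⟩ := U.exists_mem_ne_zero_of_ne_bot hb
    obtain ⟨u, hu, hu0⟩ := Forms.exists_singular_of_three_le (Q.comp (Orth.orthFam Q ![x]).subtype)
      (by have := Orth.card_le_finrank_orthFam (Q := Q) ![x]; omega)
    have hu' : (u : ι → F) ≠ 0 := fun h => hu (Subtype.ext h)
    replace hu0 : Q (u : ι → F) = 0 := hu0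
    have hxu : polar ⇑Q x (u : ι → F) = 0 := Orth.mem_orthFam.1 u.2 0
    have hperp : ∀ w, polar ⇑Q (u : ι → F) w = 0 → polar ⇑Q w x = 0 := by
      intro w hw
      by_contra hne
      have h1 := U.sub_mem (hU _ (eich_mem hQ h2 hn (u : ι → F) w) x hxU) hxU
      rw [Orth.eich_ap hu0 hw, Orth.pl_comm Q (u : ι → F) x, hxu, zero_smul, add_zero, mul_zero, add_zero,
        sub_sub_cancel_left, ← neg_smul, U.smul_mem_iff (neg_ne_zero.mpr hne)] at h1
      exact hin ⟨u, h1, hu', hu0⟩
    have hxmem : x ∈ Submodule.span F {(u : ι → F)} := by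
      rw [← Orth.perpSub_perpSub hQ (Submodule.span F {(u : ι → F)})]
      intro w hw
      exact hperp w (hw _ (Submodule.mem_span_singleton_self _))
    obtain ⟨c, hc⟩ := Submodule.mem_span_singleton.1 hxmem
    exact hin ⟨x, hxU, hx, by rw [← hc, QuadraticMap.map_smul, hu0, smul_zero]⟩

theorem not_omega_le_decompositionStabilizer {t : ℕ} (ht : t = Fintype.card ι)
    {D : Fin t → Submodule F (ι → F)} (hD : Geo.IsMDecomposition 1 D) :
    ¬ Geo.omegaGL ⇑Q ≤ Geo.decompositionStabilizer D := by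
  intro hle
  obtain ⟨e, f, hp⟩ := Orth.exists_hpair hQ (by omega)
  obtain ⟨i⟩ : Nonempty (Fin t) := ⟨⟨0, by omega⟩⟩
  choose d hd using fun i => finrank_eq_one_iff'.mp (hD.finrank_eq i)
  have hne : ((d i : D i) : ι → F) ≠ 0 := fun h => (hd i).1 (Subtype.ext h)
  have h1 := card_lower hQ h2 hn hp hne (S := Fin t × F) (fun s => s.2 • ((d s.1 : D s.1) : ι → F)) fun g hg => by
    obtain ⟨π, hπ⟩ := hle (Orth.coe_mem_omegaGL.2 hg)
    have hmem : ap g ((d i : D i) : ι → F) ∈ D (π i) := by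
      rw [← hπ i]; exact ⟨_, (d i).2, rfl⟩
    obtain ⟨c, hc⟩ := (hd (π i)).2 ⟨_, hmem⟩
    exact ⟨(π i, c), congrArg Subtype.val hc⟩
  rw [Nat.card_prod, Nat.card_eq_fintype_card, Nat.card_eq_fintype_card, Fintype.card_fin, ht] at h1
  have hq : 3 ≤ Fintype.card F := by
    have := Fintype.one_lt_card (α := F)
    by_contra hlt
    have h22 : Fintype.card F = 2 := by omega
    exact h2 (by have := FiniteField.cast_card_eq_zero F; rw [h22] at this; exact_mod_cast this)
  set q := Fintype.card F with hqd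
  obtain ⟨k, hk⟩ : ∃ k, Fintype.card ι = k + 5 := ⟨Fintype.card ι - 5, by omega⟩
  rw [hk, show k + 5 - 2 = (k + 2) + 1 by omega, pow_succ] at h1
  have h3 : k + 5 < q ^ (k + 2) := by
    have h4 : 3 ^ (k + 2) ≤ q ^ (k + 2) := Nat.pow_le_pow_left hq _
    have h5 : k + 5 < 3 ^ (k + 2) := by
      clear * -
      induction k with
      | zero => norm_num
      | succ k ih => rw [pow_succ]; omega
    omega
  exact absurd h1 (not_le.mpr (Nat.mul_lt_mul_of_pos_right h3 (by omega)))

theorem not_omega_le_subfieldSubgroup {F₁ : Subfield F} (hF₁ : F₁ ≠ ⊤) (B : GL ι F) :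
    ¬ Geo.omegaGL ⇑Q ≤ Geo.subfieldSubgroup F₁ B := by
  classical
  intro hle
  have : Nonempty ι := Fintype.card_pos_iff.mp (by omega)
  obtain ⟨p, hp⟩ := CharP.exists F
  obtain ⟨e', hpp, -⟩ := FiniteField.card F p
  have hp3 : 3 ≤ p := by
    rcases Nat.lt_or_ge p 3 with h | h
    · have : p = 2 := le_antisymm (by omega) hpp.two_le
      subst this
      exact absurd (by exact_mod_cast CharP.cast_eq_zero F 2) h2
    · exact h
  have : Fact p.Prime := ⟨hpp⟩
  have : ExpChar F p := ExpChar.prime hpp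
  have : CharP F₁ p := RingHom.charP F₁.subtype F₁.subtype.injective p
  have : ExpChar F₁ p := ExpChar.prime hpp
  obtain ⟨e, f, hef⟩ := Orth.exists_hpair hQ (by omega)
  let R : Subgroup (IsoGrp Q) :=
    { carrier := {g | ∀ i j, cj B⁻¹ ((g : GL ι F) : Matrix ι ι F) i j ∈ F₁}
      one_mem' := fun i j => by
        simp only [Subgroup.coe_one, Units.val_one, map_one, Matrix.one_apply]
        split <;> simp [one_mem, zero_mem]
      mul_mem' := fun {a b} ha hb i j => by
        simp only [Subgroup.coe_mul, Units.val_mul, map_mul, Matrix.mul_apply]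
        exact sum_mem fun k _ => mul_mem (ha i k) (hb k j)
      inv_mem' := fun {a} ha => by
        have hpow : ∀ (m : ℕ) i j, cj B⁻¹ (((a ^ m : IsoGrp Q) : GL ι F) : Matrix ι ι F) i j ∈ F₁ := by
          intro m
          induction m with
          | zero =>
            intro i j
            simp only [pow_zero, Subgroup.coe_one, Units.val_one, map_one, Matrix.one_apply]
            split <;> simp [one_mem, zero_mem]
          | succ m ih =>
            intro i j
            simp only [pow_succ, Subgroup.coe_mul, Units.val_mul, map_mul, Matrix.mul_apply]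
            exact sum_mem fun k _ => mul_mem (ih i k) (ha k j)
        have : a⁻¹ = a ^ (orderOf a - 1) :=
          (eq_inv_of_mul_eq_one_left (by
            rw [← pow_succ, Nat.sub_add_cancel (orderOf_pos a), pow_orderOf_eq_one])).symm
        intro i j
        rw [this]
        exact hpow _ i j }
  have hΩR : Cfsg.Omega F ⇑Q ≤ R := by
    rw [Orth.omega_eq_eichGen (Orth.Good.of_two_ne_zero hQ h2) (by omega) (.inr hn), Orth.eichGen,
      Subgroup.closure_le]
    rintro _ ⟨u, w, rfl⟩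
    by_cases hv : Q u = 0 ∧ polar ⇑Q u w = 0
    swap
    · rw [Orth.eich_eq_one hv]; exact one_mem R
    obtain ⟨c, hc0, hc⟩ := exists_smul_entries (hle (Orth.coe_mem_omegaGL.2 (eich_mem hQ h2 hn u w)))
    set T : Matrix ι ι F := ((eich Q u w : GL ι F) : Matrix ι ι F) with hT
    set N := T - 1 with hN
    have hNx : ∀ x, N *ᵥ x = polar ⇑Q u x • w - (polar ⇑Q w x + Q w * polar ⇑Q u x) • u := fun x => by
      rw [hN, Matrix.sub_mulVec, Matrix.one_mulVec, hT, ← Orth.ap_apply, Orth.eich_ap hv.1 hv.2]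
      abel
    have hNu : N *ᵥ u = 0 := by
      rw [hNx, Orth.pl_self, hv.1, Orth.pl_comm Q w u, hv.2]; simp
    have hNw : ∃ k : F, N *ᵥ w = k • u := ⟨-(2 * Q w), by rw [hNx, hv.2, Orth.pl_self]; simp⟩
    have hN3 : N * (N * N) = 0 := by
      refine Matrix.ext_of_mulVec_single fun i => ?_
      obtain ⟨k, hk⟩ := hNw
      rw [← Matrix.mulVec_mulVec, ← Matrix.mulVec_mulVec, hNx (Pi.single i 1),
        Matrix.zero_mulVec (Pi.single i (1 : F))]
      simp [-Matrix.mulVec_single_one, Matrix.mulVec_sub, Matrix.mulVec_smul, Matrix.zero_mulVec, hk, hNu]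
    have hMp : cj B⁻¹ T ^ p = 1 := by
      rw [← map_pow]
      have hN2 : N ^ p = 0 := by
        obtain ⟨k, hk⟩ := Nat.exists_eq_add_of_le hp3
        rw [hk, pow_add, show N ^ 3 = N * (N * N) by rw [pow_succ', pow_two], hN3, zero_mul]
      have : CharP (Matrix ι ι F) p := inferInstance
      have : ExpChar (Matrix ι ι F) p := ExpChar.prime hpp
      rw [show T = N + 1 by rw [hN, sub_add_cancel], add_pow_expChar_of_commute p (Commute.one_right N), hN2,
        zero_add, one_pow, map_one]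
    obtain ⟨i0⟩ := ‹Nonempty ι›
    let M₀ : Matrix ι ι F₁ := fun i j => ⟨c * cj B⁻¹ T i j, hc i j⟩
    have h1 : (M₀ ^ p).map F₁.subtype = c ^ p • (1 : Matrix ι ι F) := by
      rw [← RingHom.mapMatrix_apply, map_pow, RingHom.mapMatrix_apply,
        show M₀.map F₁.subtype = c • cj B⁻¹ T by ext i j; rfl, smul_pow, hMp]
    have h2' := congrFun (congrFun h1 i0) i0
    simp at h2'
    obtain ⟨y, hy⟩ := (Finite.injective_iff_surjective.mp (frobenius F₁ p).injective) ((M₀ ^ p) i0 i0)
    have h3 : (y : F) ^ p = c ^ p := by rw [← h2', ← hy, frobenius_def]; rfl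
    have hcF : c ∈ F₁ := by rw [← (frobenius F p).injective h3]; exact y.2
    intro i j
    have := mul_mem (inv_mem hcF) (hc i j)
    rwa [← mul_assoc, inv_mul_cancel₀ hc0, one_mul] at this
  obtain ⟨i0⟩ := ‹Nonempty ι›
  let π : (ι → F₁) → (ι → F) := fun u => (B : Matrix ι ι F) *ᵥ fun i => (u i : F)
  have hπ0 : π (Pi.single i0 1) ≠ 0 := by
    intro h
    have h' := congrArg (((B⁻¹ : GL ι F) : Matrix ι ι F) *ᵥ ·) h
    simp only [π, Matrix.mulVec_mulVec, Units.inv_mul, Matrix.one_mulVec, Matrix.mulVec_zero] at h'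
    simpa using congrFun h' i0
  have h1 := card_lower hQ h2 hn hef hπ0 π fun g hg => by
    refine ⟨fun i => ∑ j, (⟨_, hΩR hg i j⟩ : F₁) * (Pi.single i0 1 : ι → F₁) j, ?_⟩
    have hx : (fun i => ((∑ j, (⟨_, hΩR hg i j⟩ : F₁) * (Pi.single i0 1 : ι → F₁) j : F₁) : F))
        = cj B⁻¹ ((g : GL ι F) : Matrix ι ι F) *ᵥ fun j => ((Pi.single i0 1 : ι → F₁) j : F) := by
      funext i
      push_cast
      rfl
    show (B : Matrix ι ι F) *ᵥ _ = _
    rw [hx, Orth.ap_apply, cj_apply, inv_inv]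
    simp [π, Matrix.mulVec_mulVec, mul_assoc]
  -- the count
  obtain ⟨g, -, hg⟩ := SetLike.exists_of_lt (lt_top_iff_ne_top.mpr hF₁)
  have hcard : Nat.card F₁ ^ 2 ≤ Fintype.card F := by
    have hinj : Function.Injective (fun p : F₁ × F₁ => (p.1 : F) + g * p.2) := by
      rintro ⟨a, b⟩ ⟨a', b'⟩ h
      by_cases hb : b = b'
      · subst hb
        exact Prod.ext (Subtype.ext (add_right_cancel h)) rfl
      · refine absurd ?_ hg
        have hb' : (b : F) - b' ≠ 0 := sub_ne_zero.mpr fun h => hb (Subtype.ext h)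
        have : g = ((a' : F) - a) / ((b : F) - b') := by
          rw [eq_div_iff hb']
          simp only at h
          linear_combination h
        rw [this]
        exact div_mem (sub_mem a'.2 a.2) (sub_mem b.2 b'.2)
    have h1 := Nat.card_le_card_of_injective _ hinj
    rw [Nat.card_prod, Nat.card_eq_fintype_card (α := F)] at h1
    rwa [sq]
  rw [Nat.card_fun, Nat.card_eq_fintype_card (α := ι)] at h1
  set n := Fintype.card ι with hnd
  have h3 : Fintype.card F ^ (2 * (n - 2)) ≤ Fintype.card F ^ n := by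
    rw [mul_comm, pow_mul]
    calc (Fintype.card F ^ (n - 2)) ^ 2 ≤ (Nat.card F₁ ^ n) ^ 2 := Nat.pow_le_pow_left h1 2
      _ = (Nat.card F₁ ^ 2) ^ n := by rw [← pow_mul, ← pow_mul, mul_comm]
      _ ≤ Fintype.card F ^ n := Nat.pow_le_pow_left hcard n
  have h4 := (Nat.pow_le_pow_iff_right Fintype.one_lt_card).1 h3
  omega

end Cfsg.Agent.PrimeDim
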