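import Cfsg.Agent.Lib.PrimeDim.Fields
import Cfsg.Agent.Lib.PrimeDim.Forms
import Cfsg.Agent.Lib.PrimeDim.OrthBasic
import Cfsg.Agent.Lib.Orth.PlusPlane
import Cfsg.Agent.Lib.Orth.Models

/-!
# Maximal subgroups of `Ω_n(q)`, `n ≥ 5` prime, `q` odd

* `adjB` : the adjoint for the polar form;
* `exists_quad_rational` : realisable over a proper subfield gives a subfield group carrying the form;
* `orthogonal_cases` : the case list.
-/

set_option autoImplicit false
set_option linter.unusedSectionVars false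

namespace Cfsg.Agent.PrimeDim

open Matrix Module
open QuadraticMap (polar)

variable {ι : Type} [Fintype ι] [DecidableEq ι] {F : Type*} [Field F] [Fintype F]

/-- An algebra endomorphism of a field extension of odd degree that is an involution is trivial. -/
theorem involution_trivial {L : Type*} [Field L] [Algebra F L] [FiniteDimensional F L]
    (hodd : Odd (Module.finrank F L)) (σ : L →ₐ[F] L) (hσ : ∀ x, σ (σ x) = x) (x : L) : σ x = x := by
  have : Finite L := Module.finite_of_finite F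
  by_contra hne
  let e : L ≃ₐ[F] L := AlgEquiv.ofAlgHom σ σ (AlgHom.ext hσ) (AlgHom.ext hσ)
  have ho : orderOf e = 2 := orderOf_eq_prime (AlgEquiv.ext fun y => by
    rw [pow_two, AlgEquiv.mul_apply]; exact hσ y) fun h => hne (AlgEquiv.congr_fun h x)
  have h1 : 2 ∣ Module.finrank F L := by
    rw [← IsGalois.card_aut_eq_finrank, ← ho]
    exact orderOf_dvd_natCard e
  exact Nat.not_even_iff_odd.mpr hodd (even_iff_two_dvd.mpr h1)

variable (Q : QuadraticForm F (ι → F))

/-- The Gram matrix of the polar form. -/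
noncomputable def gramQ : Matrix ι ι F := Geo.gramMatrix (polar ⇑Q)

theorem polar_eq_sesq : polar ⇑Q = sesq (RingHom.id F) (gramQ Q) :=
  eq_sesq _ (Orth.pl_add_left Q) (Orth.pl_smul_left Q) (Orth.pl_add_right Q)
    (fun c v x => Orth.pl_smul_right Q c v x)

theorem gramQ_transpose : (gramQ Q)ᵀ = gramQ Q := by
  ext i j
  exact Orth.pl_comm Q _ _

theorem gramQ_det (hQ : Q.polarBilin.Nondegenerate) : (gramQ Q).det ≠ 0 := by
  refine det_ne_zero_of_nondegenerate (RingHom.id F) ?_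
  rw [← polar_eq_sesq]
  intro v hv
  obtain ⟨y, hy⟩ := Orth.exists_polar_ne hQ hv
  exact ⟨⟨y, by rw [Orth.pl_comm]; exact hy⟩, ⟨y, hy⟩⟩

/-- The adjoint of a matrix for the polar form. -/
noncomputable def adjB (X : Matrix ι ι F) : Matrix ι ι F := (gramQ Q)⁻¹ * Xᵀ * gramQ Q

variable {Q} (hQ : Q.polarBilin.Nondegenerate)
include hQ

theorem isUnit_gram : IsUnit (gramQ Q).det := isUnit_iff_ne_zero.mpr (gramQ_det Q hQ)

theorem adjB_mul (X Y : Matrix ι ι F) : adjB Q (X * Y) = adjB Q Y * adjB Q X := by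
  simp only [adjB, Matrix.transpose_mul, mul_assoc]
  rw [Matrix.mul_nonsing_inv_cancel_left _ _ (isUnit_gram hQ)]

theorem adjB_one : adjB Q (1 : Matrix ι ι F) = 1 := by
  simp [adjB, Matrix.nonsing_inv_mul _ (isUnit_gram hQ)]

theorem adjB_adjB (X : Matrix ι ι F) : adjB Q (adjB Q X) = X := by
  simp only [adjB, Matrix.transpose_mul, Matrix.transpose_nonsing_inv, gramQ_transpose Q,
    Matrix.transpose_transpose, mul_assoc, Matrix.nonsing_inv_mul_cancel_left _ _ (isUnit_gram hQ),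
    Matrix.nonsing_inv_mul _ (isUnit_gram hQ), mul_one]

theorem polar_adjB (X : Matrix ι ι F) (u v : ι → F) :
    polar ⇑Q (X *ᵥ u) v = polar ⇑Q u (adjB Q X *ᵥ v) := by
  have h : gramQ Q * adjB Q X = Xᵀ * gramQ Q := by
    rw [adjB, mul_assoc, Matrix.mul_nonsing_inv_cancel_left _ _ (isUnit_gram hQ)]
  rw [polar_eq_sesq Q]
  simp only [sesq, RingHom.coe_id, Function.id_comp, Matrix.mulVec_mulVec, h]
  simp only [← Matrix.mulVec_mulVec, Matrix.dotProduct_mulVec, Matrix.vecMul_transpose]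

omit hQ in
theorem gram_of_isometry {g : GL ι F} (hg : g ∈ Cfsg.isometryGroup F ⇑Q) :
    (g : Matrix ι ι F)ᵀ * gramQ Q * (g : Matrix ι ι F) = gramQ Q := by
  have h := (sesq_invariant_iff (RingHom.id F) (gramQ Q) (g : Matrix ι ι F) 1).mp fun u v => by
    rw [← polar_eq_sesq, one_mul]
    exact Orth.polar_ap ⟨g, hg⟩ u v
  simpa using h

theorem adjB_of_isometry {g : GL ι F} (hg : g ∈ Cfsg.isometryGroup F ⇑Q) :
    adjB Q (g : Matrix ι ι F) = ((g⁻¹ : GL ι F) : Matrix ι ι F) := by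
  have h4 : adjB Q (g : Matrix ι ι F) * (g : Matrix ι ι F) = 1 := by
    rw [adjB, mul_assoc, mul_assoc, ← mul_assoc _ (gramQ Q), gram_of_isometry hg,
      Matrix.nonsing_inv_mul _ (isUnit_gram hQ)]
  calc adjB Q (g : Matrix ι ι F)
      = adjB Q (g : Matrix ι ι F) * ((g : Matrix ι ι F) * ((g⁻¹ : GL ι F) : Matrix ι ι F)) := by
        rw [Units.mul_inv, mul_one]
    _ = _ := by rw [← mul_assoc, h4, one_mul]

theorem alg_adjB_mem {N : Subgroup (GL ι F)} (hN : N ≤ Cfsg.isometryGroup F ⇑Q)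
    {x : Matrix ι ι F} (hx : x ∈ alg N) : adjB Q x ∈ alg N := by
  induction hx using Algebra.adjoin_induction with
  | mem y hy =>
    obtain ⟨g, hg, rfl⟩ := hy
    rw [adjB_of_isometry hQ (hN hg)]
    exact Algebra.subset_adjoin (mem_matrixSet (inv_mem hg))
  | algebraMap c =>
    rw [Algebra.algebraMap_eq_smul_one, adjB, Matrix.transpose_smul, Matrix.transpose_one, Matrix.mul_smul,
      mul_one, Matrix.smul_mul, Matrix.nonsing_inv_mul _ (isUnit_gram hQ)]
    exact Subalgebra.smul_mem _ (one_mem _) _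
  | add a b _ _ ha hb =>
    rw [adjB, Matrix.transpose_add, mul_add, add_mul]
    exact add_mem ha hb
  | mul a b _ _ ha hb => rw [adjB_mul hQ]; exact mul_mem hb ha

/-- A non-scalar subgroup of isometries spans no field of degree the (odd) dimension. -/
theorem no_field (hodd : Odd (Fintype.card ι)) {N : Subgroup (GL ι F)} (hN : N ≤ Cfsg.isometryGroup F ⇑Q)
    (hns : ∃ x ∈ N, x ∉ Geo.scalars ι F) : ¬ Geo.IsFieldSubalgebra (Fintype.card ι) (alg N) := by
  classical
  intro hK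
  have : Nonempty ι := Fintype.card_pos_iff.mp hodd.pos
  let K := alg N
  let : CommRing K :=
    { (inferInstance : Ring K) with mul_comm := fun a b => Subtype.ext (hK.comm _ a.2 _ b.2) }
  have hfield : IsField K := ⟨⟨0, 1, fun h => zero_ne_one (congrArg Subtype.val h)⟩, mul_comm, fun {a} ha => by
    obtain ⟨y, hy, h⟩ := hK.inv a.1 a.2 (fun h => ha (Subtype.ext h))
    exact ⟨⟨y, hy⟩, Subtype.ext h⟩⟩
  let := hfield.toField
  let σ : K →ₐ[F] K :=
    { toFun := fun k => ⟨adjB Q (k : Matrix ι ι F), alg_adjB_mem hQ hN k.2⟩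
      map_one' := Subtype.ext (adjB_one hQ)
      map_mul' := fun a b => by rw [mul_comm a b]; exact Subtype.ext (adjB_mul hQ _ _)
      map_zero' := Subtype.ext (by simp [adjB])
      map_add' := fun a b => Subtype.ext (by simp [adjB, mul_add, add_mul])
      commutes' := fun c => Subtype.ext (by
        show adjB Q ((algebraMap F K c : K) : Matrix ι ι F) = ((algebraMap F K c : K) : Matrix ι ι F)
        rw [Subalgebra.coe_algebraMap, Algebra.algebraMap_eq_smul_one, adjB, Matrix.transpose_smul,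
          Matrix.transpose_one, Matrix.mul_smul, mul_one, Matrix.smul_mul,
          Matrix.nonsing_inv_mul _ (isUnit_gram hQ)]) }
  have : FiniteDimensional F K := inferInstance
  obtain ⟨x, hx, hxs⟩ := hns
  let k : K := ⟨(x : Matrix ι ι F), Algebra.subset_adjoin (mem_matrixSet hx)⟩
  have h1 : adjB Q (x : Matrix ι ι F) = (x : Matrix ι ι F) := congrArg Subtype.val
    (involution_trivial (by rw [show Module.finrank F K = Fintype.card ι from hK.finrank_eq]; exact hodd) σ
      (fun y => Subtype.ext (adjB_adjB hQ _)) k)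
  rw [adjB_of_isometry hQ (hN hx)] at h1
  have h2 : k * k = 1 := Subtype.ext (by
    show (x : Matrix ι ι F) * (x : Matrix ι ι F) = 1
    conv_lhs => arg 1; rw [← h1]
    exact Units.inv_mul x)
  refine hxs ?_
  rcases mul_self_eq_one_iff.mp h2 with h | h
  · exact (Geo.mem_scalars_iff _).mpr ⟨1, by rw [Units.val_one, one_smul]; exact congrArg Subtype.val h⟩
  · exact (Geo.mem_scalars_iff _).mpr ⟨-1, by
      rw [Units.val_neg, Units.val_one, neg_one_smul]; exact congrArg Subtype.val h⟩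

/-- A frame of isometries is an orthogonal decomposition into isometric lines. -/
theorem frame_orthogonalQ (hodd : Odd (Fintype.card ι)) {t : ℕ} (φ : Fin t ≃ ι) (ht : 2 ≤ t)
    {H N : Subgroup (GL ι F)} (hH : H ≤ Cfsg.isometryGroup F ⇑Q) (hN : N ≤ H)
    {e : ι → Matrix ι ι F} (he : IsFrame H N e) :
    ∃ D : Fin t → Submodule F (ι → F),
      Geo.IsOrthogonalMDecomposition (⇑Q) 1 D ∧ H ≤ Geo.decompositionStabilizer D := by
  classical
  have hmem : ∀ i, adjB Q (e i) ∈ alg N := fun i => alg_adjB_mem hQ (hN.trans hH) (he.mem i)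
  have hidem : ∀ i, adjB Q (e i) * adjB Q (e i) = adjB Q (e i) := fun i => by
    rw [← adjB_mul hQ, he.idem]
  have hne : ∀ i, adjB Q (e i) ≠ 0 := fun i h => he.frame_ne_zero i (by
    rw [← adjB_adjB hQ (e i), h]; simp [adjB])
  have hex : ∀ i, ∃ j, adjB Q (e i) = e j := by
    intro i
    obtain ⟨j, hj⟩ : ∃ j, adjB Q (e i) * e j ≠ 0 := by
      by_contra hc
      simp only [not_exists, not_not] at hc
      refine hne i ?_
      rw [← mul_one (adjB Q (e i)), ← he.sum_eq, Finset.mul_sum]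
      exact Finset.sum_eq_zero fun k _ => hc k
    have h1 := (he.atom j _ (hmem i) (hidem i)).resolve_left hj
    have h2 : adjB Q (e j) * e i = adjB Q (e j) := by
      have := congrArg (adjB Q) h1
      rwa [adjB_mul hQ, adjB_adjB hQ] at this
    have h3 : adjB Q (e j) * e i ≠ 0 := fun h => hne j (h2.symm.trans h)
    have h4 := (he.atom i _ (hmem j) (hidem j)).resolve_left h3
    exact ⟨j, by rw [show e i = adjB Q (e j) from h4.symm.trans h2, adjB_adjB hQ]⟩
  choose π hπ using hex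
  have hinj : ∀ i j, e i = e j → i = j := fun i j h => by
    by_contra hne'
    have := he.ortho i j hne'
    rw [← h, he.idem] at this
    exact he.frame_ne_zero i this
  have hππ : ∀ i, π (π i) = i := fun i => hinj _ _ (by rw [← hπ, ← hπ, adjB_adjB hQ])
  obtain ⟨i₀, hi₀⟩ : ∃ i, π i = i := by
    by_contra hc
    simp only [not_exists] at hc
    let πe : Equiv.Perm ι := ⟨π, π, hππ, hππ⟩
    have hsq : πe ^ 2 ^ 1 = 1 := Equiv.ext fun i => by simp [πe, pow_two, hππ]
    have hdvd : ¬ 2 ∣ Fintype.card ι := by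
      rw [← even_iff_two_dvd]
      exact Nat.not_even_iff_odd.mpr hodd
    have : Fact (Nat.Prime 2) := ⟨Nat.prime_two⟩
    obtain ⟨a, ha⟩ := Equiv.Perm.exists_fixed_point_of_prime hdvd hsq
    exact hc a ha
  have hcjadj : ∀ h ∈ H, ∀ x, adjB Q (cj h x) = cj h (adjB Q x) := by
    intro h hh x
    rw [cj_apply, adjB_mul hQ, adjB_mul hQ, adjB_of_isometry hQ (hH hh),
      adjB_of_isometry hQ (inv_mem (hH hh)), inv_inv, cj_apply, mul_assoc]
  have hall : ∀ i, adjB Q (e i) = e i := by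
    intro i
    obtain ⟨h, hh, hhe⟩ := he.trans i₀ i
    rw [← hhe, hcjadj h hh, hπ i₀, hi₀]
  obtain ⟨hD, hle⟩ := he.decomposition φ ht
  refine ⟨_, ⟨⟨hD, fun i w hw hw0 => ?_, fun i j hij => ?_⟩, fun i j => ?_⟩, hle⟩
  · have hew : e (φ i) *ᵥ w = w := by
      obtain ⟨y, rfl⟩ := hw
      simp [Matrix.mulVec_mulVec, he.idem]
    obtain ⟨y, hy⟩ := Orth.exists_polar_ne hQ hw0
    have h1 : polar ⇑Q w (e (φ i) *ᵥ y) = polar ⇑Q w y := by
      conv_rhs => rw [← hew, polar_adjB hQ, hall]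
    exact ⟨⟨_, ⟨y, rfl⟩, by rw [Orth.pl_comm, Matrix.toLin'_apply, h1]; exact hy⟩,
      ⟨_, ⟨y, rfl⟩, by rw [Matrix.toLin'_apply, h1]; exact hy⟩⟩
  · rintro _ ⟨u, rfl⟩ _ ⟨v, rfl⟩
    simp only [Matrix.toLin'_apply]
    rw [polar_adjB hQ, hall, Matrix.mulVec_mulVec, he.ortho _ _ (fun h => hij (φ.injective h)),
      Matrix.zero_mulVec, Orth.pl_zero_right]
  · obtain ⟨h, hh, hhe⟩ := he.trans (φ i) (φ j)
    let L : (ι → F) ≃ₗ[F] (ι → F) := LinearEquiv.ofBijective (Matrix.toLin' (h : Matrix ι ι F))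
      ⟨Matrix.mulVec_injective_iff_isUnit.2 h.isUnit,
        LinearMap.injective_iff_surjective.1 (Matrix.mulVec_injective_iff_isUnit.2 h.isUnit)⟩
    refine ⟨LinearEquiv.ofSubmodules L _ _ (stab_map hhe), fun w => ?_⟩
    exact Orth.Q_ap ⟨h, hH hh⟩ (w : ι → F)

/-- Scalar multiples give the same conjugation. -/
theorem conj_scalar_mul {ι : Type} [Fintype ι] [DecidableEq ι] (z : Fˣ) (B : GL ι F) :
    MulAut.conj (Units.map (Matrix.scalar ι : F →+* Matrix ι ι F).toMonoidHom z * B) = MulAut.conj B := by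
  refine MulEquiv.ext fun g => Units.ext ?_
  have hcz : Units.map (Matrix.scalar ι : F →+* Matrix ι ι F).toMonoidHom z * (B * g * B⁻¹) *
      (Units.map (Matrix.scalar ι : F →+* Matrix ι ι F).toMonoidHom z)⁻¹ = B * g * B⁻¹ := by
    rw [mul_inv_eq_iff_eq_mul]
    refine Units.ext ?_
    rw [Units.val_mul, Units.val_mul _ (Units.map _ z)]
    exact (Matrix.scalar_commute _ (fun r => Commute.all _ r) _).eq
  simp only [MulAut.conj_apply]
  congr 1
  simp only [_root_.mul_inv_rev, mul_assoc] at hcz ⊢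
  exact hcz

/-- A normal spanning subgroup realisable over a proper subfield puts the group in a subfield class carrying
the form. -/
theorem exists_quad_rational (h2 : (2 : F) ≠ 0) (hgram : ∀ (F₁ : Subfield F) i j, gramQ Q i j ∈ F₁)
    (hodd : Odd (Fintype.card ι)) {H P : Subgroup (GL ι F)} (hHP : NormBy H P)
    (hPU : P ≤ Cfsg.isometryGroup F ⇑Q)
    (hspan : Submodule.span F (Geo.matrixSet P) = ⊤) (hirr : Geo.ActsAbsolutelyIrreducibly (Geo.matrixSet P))
    {F₀ : Subfield F} (hF₀ : F₀ ≠ ⊤) (hreal : Geo.RealisableOver F₀ (Geo.matrixSet P)) :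
    ∃ (F₁ : Subfield F) (r : ℕ) (B : GL ι F), r.Prime ∧ Fintype.card F = Nat.card F₁ ^ r ∧ F₁ ≠ ⊤ ∧
      Geo.IsQuadFormRationalStructure (⇑Q) F₁ B ∧ H ≤ Geo.subfieldSubgroup F₁ B := by
  classical
  have : Nonempty ι := Fintype.card_pos_iff.mp hodd.pos
  obtain ⟨F₁, r, B, hr, hcard, hne, -, hB, hle⟩ := le_subfield_of_realisable hHP hspan hF₀ hreal
  set G := gramQ Q with hG
  set Bi : Matrix ι ι F := ((B⁻¹ : GL ι F) : Matrix ι ι F) with hBi
  set G' : Matrix ι ι F := Biᵀ * G * Bi with hG'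
  have hBiB : Bi * (B : Matrix ι ι F) = 1 := Units.inv_mul B
  have hBBi : (B : Matrix ι ι F) * Bi = 1 := Units.mul_inv B
  have hGdet : G.det ≠ 0 := gramQ_det Q hQ
  have hG'det : G'.det ≠ 0 := by
    rw [hG', Matrix.det_mul, Matrix.det_mul, Matrix.det_transpose]
    exact mul_ne_zero (mul_ne_zero (Matrix.GeneralLinearGroup.det B⁻¹).ne_zero hGdet)
      (Matrix.GeneralLinearGroup.det B⁻¹).ne_zero
  have hinv' : ∀ x ∈ P, (cj B (x : Matrix ι ι F))ᵀ * G' * cj B (x : Matrix ι ι F) = G' := by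
    intro x hx
    have h1 := gram_of_isometry (hPU hx)
    have e1 : Bi * cj B (x : Matrix ι ι F) = (x : Matrix ι ι F) * Bi := by
      rw [cj_apply, ← mul_assoc, ← mul_assoc, hBiB, one_mul]
    calc _ = (Bi * cj B (x : Matrix ι ι F))ᵀ * G * (Bi * cj B (x : Matrix ι ι F)) := by
          simp [hG', Matrix.transpose_mul, mul_assoc]
      _ = Biᵀ * ((x : Matrix ι ι F)ᵀ * G * (x : Matrix ι ι F)) * Bi := by
          rw [e1]; simp [Matrix.transpose_mul, mul_assoc]
      _ = G' := by rw [h1]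
  obtain ⟨i₀, j₀, hne0⟩ : ∃ i j, G' i j ≠ 0 := by
    by_contra hc
    simp only [not_exists, not_not] at hc
    exact hG'det (by rw [show G' = 0 from Matrix.ext hc, Matrix.det_zero])
  obtain ⟨L₁, hL₁⟩ : ∃ L : F →ₗ[F₁] F₁, L (G' i₀ j₀) ≠ 0 := by
    by_contra hc
    simp only [not_exists, not_not] at hc
    exact hne0 (Module.forall_dual_apply_eq_zero_iff F₁ _ |>.mp hc)
  let L : F → F := fun a => (L₁ a : F)
  set G0 : Matrix ι ι F := G'.map L with hG0
  have hG0mem : ∀ i j, G0 i j ∈ F₁ := fun i j => (L₁ (G' i j)).2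
  have hLsum : ∀ (g : ι → F), L (∑ k, g k) = ∑ k, L (g k) := by
    intro g
    simp only [L, map_sum]
    push_cast
    rfl
  have hLmul : ∀ c ∈ F₁, ∀ a, L (c * a) = c * L a := by
    intro c hc a
    have := L₁.map_smul ⟨c, hc⟩ a
    simp only [L]
    rw [show c * a = (⟨c, hc⟩ : F₁) • a from rfl, this]
    rfl
  have hmapl : ∀ (A M : Matrix ι ι F), (∀ i j, A i j ∈ F₁) → (A * M).map L = A * M.map L := by
    intro A M hA
    ext i j
    simp only [Matrix.map_apply, Matrix.mul_apply, hLsum]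
    exact Finset.sum_congr rfl fun k _ => hLmul _ (hA i k) _
  have hmapr : ∀ (A M : Matrix ι ι F), (∀ i j, A i j ∈ F₁) → (M * A).map L = M.map L * A := by
    intro A M hA
    ext i j
    simp only [Matrix.map_apply, Matrix.mul_apply, hLsum]
    exact Finset.sum_congr rfl fun k _ => by rw [mul_comm, hLmul _ (hA k j) _, mul_comm]
  have hinv0 : ∀ x ∈ P, (cj B (x : Matrix ι ι F))ᵀ * G0 * cj B (x : Matrix ι ι F) = G0 := by
    intro x hx
    conv_rhs => rw [hG0, ← hinv' x hx]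
    rw [hmapr _ _ (hB x hx), hmapl (cj B (x : Matrix ι ι F))ᵀ G' (fun i j => hB x hx j i)]
  have hid : ∀ M : Matrix ι ι F, M.map (RingHom.id F) = M := fun M => by ext i j; rfl
  obtain ⟨c, hc⟩ := invariant_unique hirr.2 (RingHom.id F) (G := G) (G' := (B : Matrix ι ι F)ᵀ * G0 *
      (B : Matrix ι ι F)) (isUnit_iff_ne_zero.mpr hGdet)
      (fun x hx => by rw [hid]; exact gram_of_isometry (hPU hx)) (by
    intro x hx
    rw [hid]
    have e1 : (B : Matrix ι ι F) * (x : Matrix ι ι F) = cj B (x : Matrix ι ι F) * (B : Matrix ι ι F) := by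
      rw [cj_apply, mul_assoc, Units.inv_mul, mul_one]
    calc _ = ((B : Matrix ι ι F) * (x : Matrix ι ι F))ᵀ * G0 * ((B : Matrix ι ι F) * (x : Matrix ι ι F)) := by
          simp [Matrix.transpose_mul, mul_assoc]
      _ = (B : Matrix ι ι F)ᵀ * ((cj B (x : Matrix ι ι F))ᵀ * G0 * cj B (x : Matrix ι ι F)) *
          (B : Matrix ι ι F) := by
          rw [e1]; simp [Matrix.transpose_mul, mul_assoc]
      _ = _ := by rw [hinv0 x hx])
  have hTBBi : Biᵀ * (B : Matrix ι ι F)ᵀ = 1 := by rw [← Matrix.transpose_mul, hBBi, Matrix.transpose_one]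
  have hG0G' : G0 = c • G' := by
    have h1 := congrArg (fun M => Biᵀ * M * Bi) hc
    simp only [Matrix.mul_smul, Matrix.smul_mul] at h1
    rw [← mul_assoc, ← mul_assoc, hTBBi, one_mul, mul_assoc, hBBi, mul_one] at h1
    exact h1
  have hc0 : c ≠ 0 := fun h => hL₁ (by
    have h1 : G0 i₀ j₀ = 0 := by rw [hG0G', h, zero_smul]; rfl
    exact Subtype.ext h1)
  obtain ⟨m, hm⟩ := hodd
  have hG0det : G0.det ≠ 0 := by
    rw [hG0G', Matrix.det_smul]; exact mul_ne_zero (pow_ne_zero _ hc0) hG'det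
  set k := G.det / G0.det with hk
  set t := Bi.det * c ^ m with ht
  have hBidet : Bi.det ≠ 0 := (Matrix.GeneralLinearGroup.det B⁻¹).ne_zero
  have ht0 : t ≠ 0 := mul_ne_zero hBidet (pow_ne_zero _ hc0)
  have hdetmem : ∀ M : Matrix ι ι F, (∀ i j, M i j ∈ F₁) → M.det ∈ F₁ := fun M hM => by
    let M₀ : Matrix ι ι F₁ := fun i j => ⟨M i j, hM i j⟩
    have := RingHom.map_det F₁.subtype M₀
    rw [show F₁.subtype.mapMatrix M₀ = M by ext i j; rfl] at this
    rw [← this]
    exact M₀.det.2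
  have hkmem : k ∈ F₁ := div_mem (hdetmem _ (hgram F₁)) (hdetmem _ hG0mem)
  have hkt : k * c * t ^ 2 = 1 := by
    have h0 : G0.det = c ^ (2 * m + 1) * (Bi.det * G.det * Bi.det) := by
      rw [hG0G', Matrix.det_smul, hm, hG', Matrix.det_mul, Matrix.det_mul, Matrix.det_transpose]
    rw [hk, h0, ht]
    field_simp
    ring
  let Z : GL ι F := Units.map (Matrix.scalar ι : F →+* Matrix ι ι F).toMonoidHom (Units.mk0 t⁻¹ (inv_ne_zero ht0))
  have hZ : (Z : Matrix ι ι F) = t⁻¹ • 1 := by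
    ext i j; simp [Z, Matrix.one_apply, Matrix.diagonal_apply]
  refine ⟨F₁, r, Z * B⁻¹, hr, hcard, hne, fun u hu => ?_, ?_⟩
  · have h1 : polar ⇑Q (((Z * B⁻¹ : GL ι F) : Matrix ι ι F) *ᵥ u) (((Z * B⁻¹ : GL ι F) : Matrix ι ι F) *ᵥ u)
        ∈ F₁ := by
      rw [polar_eq_sesq Q, sesq_mulVec, hid, Units.val_mul, hZ, Matrix.smul_mul, one_mul, ← hBi,
        Matrix.transpose_smul, Matrix.smul_mul, Matrix.smul_mul, Matrix.mul_smul, smul_smul, ← hG, ← hG',
        show G' = c⁻¹ • G0 by rw [hG0G', smul_smul, inv_mul_cancel₀ hc0, one_smul], smul_smul,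
        show t⁻¹ * t⁻¹ * c⁻¹ = k by field_simp; linear_combination -hkt]
      simp only [sesq, dotProduct, Matrix.mulVec, Matrix.smul_apply, smul_eq_mul, RingHom.coe_id,
        Function.id_comp]
      exact sum_mem fun i _ => mul_mem (hu i) (sum_mem fun j _ => mul_mem (mul_mem hkmem (hG0mem i j)) (hu j))
    rw [Orth.pl_self] at h1
    have h2F : (2 : F) ∈ F₁ := by exact_mod_cast natCast_mem F₁ 2
    have := mul_mem (inv_mem h2F) h1
    rwa [← mul_assoc, inv_mul_cancel₀ h2, one_mul] at this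
  · simp only [Geo.subfieldSubgroup, Z, conj_scalar_mul hQ]
    exact hle

/-- The maximal subgroups of `Ω_n(q)`, `n ≥ 5` prime, `q` odd. -/
theorem orthogonal_cases (h2 : (2 : F) ≠ 0) (hgram : ∀ (F₁ : Subfield F) i j, gramQ Q i j ∈ F₁)
    (hn : (Fintype.card ι).Prime) (h5 : 5 ≤ Fintype.card ι) {t : ℕ} (ht : t = Fintype.card ι)
    {H : Subgroup (GL ι F)} (hH : Geo.IsMaximalIn (Geo.omegaGL ⇑Q) H) :
    (∃ W : Submodule F (ι → F), W ≠ ⊥ ∧ Geo.IsTotallySingularQuad (⇑Q) W ∧
      H = Geo.subspaceStabilizer W ⊓ Geo.omegaGL ⇑Q) ∨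
    (∃ W : Submodule F (ι → F), W ≠ ⊥ ∧ Even (Module.finrank F W) ∧ Geo.IsNondegenerateOn (polar ⇑Q) W ∧
      ¬ (Fintype.card F = 3 ∧ Module.finrank F W = 2 ∧ Geo.IsPlusTypeOn (⇑Q) W) ∧
      H = Geo.subspaceStabilizer W ⊓ Geo.omegaGL ⇑Q) ∨
    ((Fintype.card F).Prime ∧ ∃ D : Fin t → Submodule F (ι → F), Geo.IsOrthogonalMDecomposition (⇑Q) 1 D ∧
      H = Geo.decompositionStabilizer D ⊓ Geo.omegaGL ⇑Q) ∨
    (∃ (F₀ : Subfield F) (r : ℕ) (P : GL ι F), r.Prime ∧ Fintype.card F = Nat.card F₀ ^ r ∧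
      Geo.IsQuadFormRationalStructure (⇑Q) F₀ P ∧ H = Geo.subfieldSubgroup F₀ P ⊓ Geo.omegaGL ⇑Q) ∨
    Geo.InOrthogonalResidualClass H := by
  classical
  have hodd : Odd (Fintype.card ι) := hn.odd_of_ne_two (by omega)
  have : Nonempty ι := Fintype.card_pos_iff.mp hn.pos
  have key : ∀ M : Subgroup (GL ι F), H ≤ M → ¬ Geo.omegaGL ⇑Q ≤ M → H = M ⊓ Geo.omegaGL ⇑Q := by
    intro M hM1 hM2
    rcases hH.2 (M ⊓ Geo.omegaGL ⇑Q) (le_inf hM1 hH.1.le) inf_le_right with h | h
    · exact h.symm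
    · exact absurd (h ▸ inf_le_left) hM2
  have hHΩ : H ≤ Geo.omegaGL ⇑Q := hH.1.le
  have hHI : H ≤ Cfsg.isometryGroup F ⇑Q := fun g hg => by
    obtain ⟨h, -, rfl⟩ := hHΩ hg
    exact h.2
  have hHS : H ≤ Geo.specialLinear ι F := hHΩ.trans omega_le_sl
  by_cases hirr : Geo.ActsIrreducibly (Geo.matrixSet H)
  swap
  · simp only [Geo.ActsIrreducibly, not_forall, not_or] at hirr
    obtain ⟨W, hW, hb, htop⟩ := hirr
    have hWm : ∀ g ∈ H, ∀ w ∈ W, (g : Matrix ι ι F) *ᵥ w ∈ W :=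
      fun g hg => (mapsTo_iff_mulVec _ W).mp (hW _ (mem_matrixSet hg))
    set W' := Orth.perpSub Q W with hW'
    have hstab : H ≤ Geo.subspaceStabilizer W' := fun g hg => Orth.mem_stabilizer_iff.2 fun x hx w hw => by
      have h1 := hWm g⁻¹ (inv_mem hg) w hw
      have h2' := Orth.polar_ap (Q := Q) ⟨g, hHI hg⟩ (((g⁻¹ : GL ι F) : Matrix ι ι F) *ᵥ w) x
      simp only [Orth.ap_apply, Matrix.mulVec_mulVec w, Units.mul_inv, Matrix.one_mulVec] at h2'
      show polar ⇑Q w _ = 0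
      rw [h2']
      exact hx _ h1
    have hstabW : H ≤ Geo.subspaceStabilizer W := fun g hg => Orth.mem_stabilizer_iff.2 (hWm g hg)
    have hlt : Module.finrank F W < Fintype.card ι := by
      have := Submodule.finrank_lt htop
      simpa using this
    have hdim := Orth.finrank_perpSub hQ W
    rw [← hW'] at hdim
    have hW'b : W' ≠ ⊥ := fun h => by rw [h, finrank_bot] at hdim; omega
    by_cases hts : W ⊓ W' = ⊥
    swap
    · refine Or.inl ⟨W ⊓ W', hts, fun u hu => ?_, key _ ?_ ?_⟩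
      · have h1 : polar ⇑Q u u = 0 := hu.2 u hu.1
        rw [Orth.pl_self] at h1
        exact (mul_eq_zero.mp h1).resolve_left h2
      · exact fun g hg => Orth.mem_stabilizer_iff.2 fun w hw =>
          ⟨(Orth.mem_stabilizer_iff.1 (hstabW hg)) w hw.1, (Orth.mem_stabilizer_iff.1 (hstab hg)) w hw.2⟩
      · exact not_omega_le_subspaceStabilizer hQ h2 h5 hts fun h => htop (eq_top_iff.mpr (h ▸ inf_le_left))
    have hndW : ∀ x ∈ W, x ≠ 0 → ∃ y ∈ W, polar ⇑Q x y ≠ 0 := by
      intro x hx hx0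
      by_contra! hc
      have : x ∈ W ⊓ W' := ⟨hx, fun w hw => by
        show polar ⇑Q w x = 0
        rw [Orth.pl_comm]; exact hc w hw⟩
      rw [hts] at this
      exact hx0 this
    have hgeo : ∀ U : Submodule F (ι → F), (∀ x ∈ U, x ≠ 0 → ∃ y ∈ U, polar ⇑Q x y ≠ 0) →
        Geo.IsNondegenerateOn (polar ⇑Q) U := fun U h x hx hx0 => by
      obtain ⟨y, hy, hxy⟩ := h x hx hx0
      exact ⟨⟨y, hy, by rw [Orth.pl_comm]; exact hxy⟩, ⟨y, hy, hxy⟩⟩
    obtain ⟨U, hUb, hUev, hUnd, hUt, hUstab⟩ : ∃ U : Submodule F (ι → F), U ≠ ⊥ ∧ Even (Module.finrank F U) ∧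
        Geo.IsNondegenerateOn (polar ⇑Q) U ∧ U ≠ ⊤ ∧ H ≤ Geo.subspaceStabilizer U := by
      by_cases hev : Even (Module.finrank F W)
      · exact ⟨W, hb, hev, hgeo W hndW, htop, hstabW⟩
      · refine ⟨W', hW'b, ?_, hgeo W' (Orth.perpSub_nondeg hQ hndW), fun h => ?_, hstab⟩
        · rw [hdim, Nat.even_sub hlt.le]
          exact iff_of_false (Nat.not_even_iff_odd.mpr hodd) hev
        · rw [h, inf_top_eq] at hts
          exact hb hts
    have heq := key _ hUstab (not_omega_le_subspaceStabilizer hQ h2 h5 hUb hUt)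
    refine Or.inr (Or.inl ⟨U, hUb, hUev, hUnd, fun h3 => ?_, heq⟩)
    obtain ⟨K, hK1, hK2⟩ := Orth.plane_stabilizer_not_maximal (Orth.Good.of_two_ne_zero hQ h2) h5
      h3.1.le h3.2.1 hUnd h3.2.2
    rw [← heq] at hK1
    rcases hH.2 K hK1.le hK2.le with h | h
    · exact absurd h hK1.ne'
    · exact absurd h hK2.ne
  have hsub : ∀ P : Subgroup (GL ι F), P ≤ H → NormBy H P → Submodule.span F (Geo.matrixSet P) = ⊤ →
      Geo.ActsAbsolutelyIrreducibly (Geo.matrixSet P) →
      ∀ F₀ : Subfield F, F₀ ≠ ⊤ → Geo.RealisableOver F₀ (Geo.matrixSet P) →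
      ∃ (F₀ : Subfield F) (r : ℕ) (P : GL ι F), r.Prime ∧ Fintype.card F = Nat.card F₀ ^ r ∧
        Geo.IsQuadFormRationalStructure (⇑Q) F₀ P ∧ H = Geo.subfieldSubgroup F₀ P ⊓ Geo.omegaGL ⇑Q := by
    intro P hP hnorm hspan habs F₀ hF₀ hreal
    obtain ⟨F₁, r, B, hr, hc, hne, hform, hle⟩ :=
      exists_quad_rational hQ h2 hgram hodd hnorm (hP.trans hHI) hspan habs hF₀ hreal
    exact ⟨F₁, r, B, hr, hc, hform, key _ hle (not_omega_le_subfieldSubgroup hQ h2 h5 hne B)⟩
  rcases trichotomy hn hodd hHS hirr with ⟨N, e, hN, he⟩ | ⟨N, hN, hns, hK, -⟩ | ⟨R, hR⟩ | ⟨P, hP⟩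
  · obtain ⟨D, hD, hle⟩ := frame_orthogonalQ hQ hodd ((finCongr ht).trans (Fintype.equivFin ι).symm)
      (by omega) hHI hN he
    by_cases hq : (Fintype.card F).Prime
    · exact Or.inr (Or.inr (Or.inl ⟨hq, D, hD,
        key _ hle (not_omega_le_decompositionStabilizer hQ h2 h5 ht hD.decomp.decomp)⟩))
    -- monomial over a non-prime field: a subfield group
    right; right; right; left
    have hnetop : (⊥ : Subfield F) ≠ ⊤ := by
      intro h
      obtain ⟨p, hp⟩ := CharP.exists F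
      have : Fact p.Prime := ⟨CharP.char_is_prime F p⟩
      refine hq ?_
      have h1 : Nat.card (⊥ : Subfield F) = p := Subfield.card_bot F p
      rw [h, Nat.card_congr (Equiv.subtypeUnivEquiv fun x => Subfield.mem_top x), Nat.card_eq_fintype_card] at h1
      rw [h1]; exact this.out
    obtain ⟨F₁, -, hne, r, hr, hc⟩ := exists_maximal_subfield (⊥ : Subfield F) hnetop
    choose d' hd' using fun i => finrank_eq_one_iff'.mp (hD.decomp.decomp.finrank_eq i)
    let d0 : Fin t → (ι → F) := fun i => ((d' i : D i) : ι → F)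
    have hd0 : ∀ i, d0 i ≠ 0 := fun i h => (hd' i).1 (Subtype.ext h)
    have hdline : ∀ i, ∀ x ∈ D i, ∃ c : F, x = c • d0 i := fun i x hx => by
      obtain ⟨c, hc⟩ := (hd' i).2 ⟨x, hx⟩
      exact ⟨c, (congrArg Subtype.val hc).symm⟩
    have hi0 : Nonempty (Fin t) := ⟨⟨0, by omega⟩⟩
    obtain ⟨i₀⟩ := hi0
    choose eiso heiso using fun i => hD.isometric i₀ i
    let d : Fin t → (ι → F) := fun i => ((eiso i (d' i₀) : D i) : ι → F)
    set a := Q (d0 i₀) with ha
    have hQd : ∀ i, Q (d i) = a := fun i => heiso i _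
    have hdD : ∀ i, d i ∈ D i := fun i => (eiso i (d' i₀)).2
    have hdne : ∀ i, d i ≠ 0 := fun i h => hd0 i₀ (by
      have h1 : eiso i (d' i₀) = 0 := Subtype.ext h
      exact congrArg Subtype.val ((LinearEquiv.map_eq_zero_iff _).mp h1))
    have ha0 : a ≠ 0 := fun h => by
      obtain ⟨⟨y, hy, hne⟩, -⟩ := hD.decomp.nondegenerate i₀ (d0 i₀) (d' i₀).2 (hd0 i₀)
      obtain ⟨c, rfl⟩ := hdline i₀ y hy
      rw [Orth.pl_smul_left, Orth.pl_self, ← ha, h, mul_zero, mul_zero] at hne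
      exact hne rfl
    have hli : LinearIndependent F d := hD.decomp.decomp.indep.linearIndependent D hdD hdne
    let φ : ι ≃ Fin t := (Fintype.equivFin ι).trans (finCongr ht.symm)
    let P0 : Matrix ι ι F := Matrix.of fun x i => d (φ i) x
    have hP0u : IsUnit P0 := by
      rw [← Matrix.linearIndependent_cols_iff_isUnit]
      exact hli.comp φ φ.injective
    have hcol : ∀ i, P0 *ᵥ Pi.single i 1 = d (φ i) := fun i => by rw [Matrix.mulVec_single_one]; rfl
    have hPG : P0ᵀ * gramQ Q * P0 = (2 * a) • (1 : Matrix ι ι F) := by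
      ext i j
      have hid : P0.map (RingHom.id F) = P0 := by ext i j; rfl
      have h1 : (P0ᵀ * gramQ Q * P0) i j = polar ⇑Q (d (φ i)) (d (φ j)) := by
        rw [← hcol, ← hcol, polar_eq_sesq Q, sesq_mulVec, sesq_single, hid]
      rw [h1, Matrix.smul_apply, Matrix.one_apply]
      split
      · next h => subst h; rw [Orth.pl_self, hQd]; simp
      · next h =>
        rw [hD.decomp.orthogonal _ _ (fun hh => h (φ.injective hh)) _ (hdD _) _ (hdD _)]; simp
    obtain ⟨m, hm⟩ := hodd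
    set k := (gramQ Q).det / 2 ^ (2 * m + 1) with hk
    set t' := P0.det / a ^ m with ht'
    have hP0det : P0.det ≠ 0 := ((Matrix.isUnit_iff_isUnit_det _).mp hP0u).ne_zero
    have ht0 : t' ≠ 0 := div_ne_zero hP0det (pow_ne_zero _ ha0)
    have hak : a = t' ^ 2 * k := by
      have h1 := congrArg Matrix.det hPG
      rw [Matrix.det_mul, Matrix.det_mul, Matrix.det_transpose, Matrix.det_smul, Matrix.det_one, mul_one, hm,
        mul_pow] at h1
      rw [ht', hk]
      field_simp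
      linear_combination -h1
    let B : GL ι F := Units.map (Matrix.scalar ι : F →+* Matrix ι ι F).toMonoidHom
      (Units.mk0 t'⁻¹ (inv_ne_zero ht0)) * hP0u.unit
    have hBval : (B : Matrix ι ι F) = t'⁻¹ • P0 := by
      ext i j; simp [B, Matrix.scalar_apply, Matrix.diagonal_mul]
    have h2F : (2 : F) ∈ F₁ := by exact_mod_cast natCast_mem F₁ 2
    have hkmem : k ∈ F₁ := by
      refine div_mem ?_ (pow_mem h2F _)
      let M₀ : Matrix ι ι F₁ := fun i j => ⟨gramQ Q i j, hgram F₁ i j⟩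
      have := RingHom.map_det F₁.subtype M₀
      rw [show F₁.subtype.mapMatrix M₀ = gramQ Q by ext i j; rfl] at this
      rw [← this]
      exact M₀.det.2
    refine ⟨F₁, r, B, hr, hc, fun u hu => ?_, key _ ?_ (not_omega_le_subfieldSubgroup hQ h2 h5 hne B)⟩
    · have hid : ((B : Matrix ι ι F)).map (RingHom.id F) = (B : Matrix ι ι F) := by ext i j; rfl
      have h1 : polar ⇑Q ((B : Matrix ι ι F) *ᵥ u) ((B : Matrix ι ι F) *ᵥ u) = 2 * (k * (u ⬝ᵥ u)) := by
        rw [polar_eq_sesq Q, sesq_mulVec, hid, hBval, Matrix.transpose_smul, Matrix.smul_mul, Matrix.smul_mul,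
          Matrix.mul_smul, hPG, smul_smul, smul_smul]
        simp only [sesq, RingHom.coe_id, Function.id_comp, Matrix.smul_mulVec, Matrix.one_mulVec,
          dotProduct_smul, smul_eq_mul]
        rw [hak]
        field_simp
      rw [Orth.pl_self] at h1
      rw [mul_left_cancel₀ h2 h1]
      exact mul_mem hkmem (sum_mem fun i _ => mul_mem (hu i) (hu i))
    · intro g hg
      obtain ⟨π, hπ⟩ := hle hg
      have hgd : ∀ i, ∃ s : F, (s = 1 ∨ s = -1) ∧ (g : Matrix ι ι F) *ᵥ d i = s • d (π i) := by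
        intro i
        have hmem : (g : Matrix ι ι F) *ᵥ d i ∈ D (π i) := by rw [← hπ i]; exact ⟨_, hdD i, rfl⟩
        obtain ⟨c, hc⟩ := hdline _ _ hmem
        obtain ⟨c', hc'⟩ := hdline _ _ (hdD (π i))
        have hc'0 : c' ≠ 0 := fun h => hdne (π i) (by rw [hc', h, zero_smul])
        refine ⟨c / c', ?_, by rw [hc, hc', smul_smul, div_mul_cancel₀ _ hc'0]⟩
        have h1 : Q ((g : Matrix ι ι F) *ᵥ d i) = a := (Orth.Q_ap ⟨g, hHI hg⟩ (d i)).trans (hQd i)
        rw [show (g : Matrix ι ι F) *ᵥ d i = (c / c') • d (π i) by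
          rw [hc, hc', smul_smul, div_mul_cancel₀ _ hc'0], Orth.Q_smul, hQd] at h1
        exact mul_self_eq_one_iff.mp ((mul_eq_right₀ ha0).mp h1)
      have hent : ∀ i j, cj hP0u.unit⁻¹ (g : Matrix ι ι F) i j ∈ F₁ := by
        intro i j
        obtain ⟨s, hs, hgj⟩ := hgd (φ j)
        have hcol' : cj hP0u.unit⁻¹ (g : Matrix ι ι F) *ᵥ Pi.single j 1 = Pi.single (φ.symm (π (φ j))) s := by
          rw [cj_apply, inv_inv, ← Matrix.mulVec_mulVec, ← Matrix.mulVec_mulVec,
            show ((hP0u.unit : GL ι F) : Matrix ι ι F) *ᵥ Pi.single j 1 = d (φ j) from hcol j, hgj,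
            show s • d (π (φ j)) = ((hP0u.unit : GL ι F) : Matrix ι ι F) *ᵥ Pi.single (φ.symm (π (φ j))) s by
              rw [show (Pi.single (φ.symm (π (φ j))) s : ι → F) = s • Pi.single (φ.symm (π (φ j))) 1 by
                rw [← Pi.single_smul, smul_eq_mul, mul_one], Matrix.mulVec_smul,
                show ((hP0u.unit : GL ι F) : Matrix ι ι F) *ᵥ Pi.single (φ.symm (π (φ j))) 1 = d (π (φ j)) by
                  rw [IsUnit.unit_spec, hcol, Equiv.apply_symm_apply]],
            Matrix.mulVec_mulVec, Units.inv_mul, Matrix.one_mulVec]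
        have h1 := congrFun hcol' i
        rw [Matrix.mulVec_single_one] at h1
        rw [show cj hP0u.unit⁻¹ (g : Matrix ι ι F) i j = _ from h1, Pi.single_apply]
        split
        · rcases hs with rfl | rfl
          · exact one_mem _
          · exact neg_mem (one_mem _)
        · exact zero_mem _
      simp only [Geo.subfieldSubgroup, B, conj_scalar_mul hQ]
      refine ⟨(hP0u.unit⁻¹ * g * hP0u.unit), ?_, by simp [mul_assoc]⟩
      refine mem_range_sup_scalars 1 fun i j => ?_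
      rw [Units.val_one, one_mul]
      have := hent i j
      rw [cj_coe, inv_inv] at this
      exact this
  · exact absurd hK (no_field hQ hodd (hN.trans hHI) hns)
  · exfalso
    obtain ⟨ζ, hζ, z, hz, hzζ⟩ := hR.root
    obtain ⟨v, hv⟩ : ∃ v, Q v = 1 := Orth.exists_Q_eq hQ (by omega) 1
    have h1 : Q ((z : Matrix ι ι F) *ᵥ v) = Q v := Orth.Q_ap ⟨z, hHI (hR.le hz)⟩ v
    rw [hzζ, Matrix.smul_mulVec, Matrix.one_mulVec, Orth.Q_smul, hv, mul_one, ← sq] at h1
    have h3 := Nat.le_of_dvd (by norm_num) ((hζ.pow_eq_one_iff_dvd 2).mp h1)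
    omega
  · by_cases hreal : ∃ F₀ : Subfield F, F₀ ≠ ⊤ ∧ Geo.RealisableOver F₀ (Geo.matrixSet P)
    · obtain ⟨F₀, hF₀, hr⟩ := hreal
      exact Or.inr (Or.inr (Or.inr (Or.inl (hsub P hP.le hP.normal hP.span_eq hP.absIrred F₀ hF₀ hr))))
    refine Or.inr (Or.inr (Or.inr (Or.inr ⟨P, hP.residualCore fun F₀ h hr => hreal ⟨F₀, h, hr⟩, ?_⟩)))
    rintro ⟨σ, f, hf, hfix⟩
    refine hreal ⟨RingHom.eqLocusField (σ : F →+* F) (RingHom.id F), fun htop => hf.ne_refl (RingEquiv.ext fun x => ?_), ?_⟩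
    · exact (show x ∈ RingHom.eqLocusField (σ : F →+* F) (RingHom.id F) from htop ▸ Subfield.mem_top x)
    refine realisableOver_of_trace hP.span_eq hP.absIrred.2 _ fun x hx => ?_
    show (σ : F →+* F) _ = RingHom.id F _
    rw [RingHom.id_apply]
    set Gu := Geo.gramMatrix f with hGu
    have he := unitaryForm_eq_sesq hf
    have hGudet : Gu.det ≠ 0 := det_ne_zero_of_nondegenerate _ (he ▸ hf.nondegenerate)
    set X := (x : Matrix ι ι F) with hX
    have h1 : Xᵀ * Gu * X.map (σ : F →+* F) = Gu := by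
      refine Eq.trans ((sesq_invariant_iff (σ : F →+* F) Gu X 1).mp fun u v => ?_) (one_smul _ _)
      rw [hGu, ← he, one_mul]
      exact hfix _ (mem_matrixSet hx) u v
    set G := gramQ Q
    have hGu' := isUnit_gram hQ
    have hGGu := isUnit_iff_ne_zero.mpr hGudet
    have h2' : adjB Q X * X = 1 := by
      rw [hX, adjB_of_isometry hQ (hHI (hP.le hx)), Units.inv_mul]
    have h3 : X.map (σ : F →+* F) = Gu⁻¹ * G * X * (G⁻¹ * Gu) := by
      have h4 : X * adjB Q X = 1 := mul_eq_one_comm.mp h2'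
      have h5 : G * X * G⁻¹ * Xᵀ = 1 :=
        calc G * X * G⁻¹ * Xᵀ = G * X * G⁻¹ * Xᵀ * (G * G⁻¹) := by rw [Matrix.mul_nonsing_inv _ hGu', mul_one]
          _ = G * (X * adjB Q X) * G⁻¹ := by simp only [adjB, G, mul_assoc]
          _ = 1 := by rw [h4, mul_one, Matrix.mul_nonsing_inv _ hGu']
      calc X.map (σ : F →+* F) = Gu⁻¹ * ((G * X * G⁻¹ * Xᵀ) * Gu * X.map (σ : F →+* F)) := by
            rw [h5, one_mul, ← mul_assoc, Matrix.nonsing_inv_mul _ hGGu, one_mul]
        _ = Gu⁻¹ * (G * X * G⁻¹ * (Xᵀ * Gu * X.map (σ : F →+* F))) := by simp only [mul_assoc]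
        _ = _ := by rw [h1]; simp only [mul_assoc]
    have h4 : (X.map (σ : F →+* F)).trace = X.trace := by
      rw [h3, Matrix.trace_mul_cycle, mul_assoc G⁻¹ Gu, ← mul_assoc Gu, Matrix.mul_nonsing_inv _ hGGu, one_mul,
        Matrix.nonsing_inv_mul _ hGu', one_mul]
    conv_rhs => rw [← h4]
    simp [Matrix.trace, map_sum]

end Cfsg.Agent.PrimeDim

namespace Cfsg.Agent.PrimeDim

/-- The Gram entries of the standard odd form are prime-field elements. -/
theorem gramQ_quadOdd_mem {F : Type*} [Field F] (m : ℕ) (F₁ : Subfield F) (i j : Unit ⊕ (Fin m ⊕ Fin m)) :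
    gramQ (Orth.quadOdd m F) i j ∈ F₁ := by
  show QuadraticMap.polar (Cfsg.quadFormOdd m F) (Pi.single i 1) (Pi.single j 1) ∈ F₁
  have hd : ∀ a b : Unit ⊕ (Fin m ⊕ Fin m), (Pi.single a (1 : F) : _ → F) b ∈ F₁ := fun a b => by
    rw [Pi.single_apply]; split
    · exact one_mem _
    · exact zero_mem _
  rw [Orth.polar_quadOdd]
  exact add_mem (mul_mem (by exact_mod_cast natCast_mem F₁ 2) (mul_mem (hd _ _) (hd _ _)))
    (sum_mem fun k _ => add_mem (mul_mem (hd _ _) (hd _ _)) (mul_mem (hd _ _) (hd _ _)))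

theorem two_ne_zero_of_odd_card {F : Type*} [Field F] [Fintype F] (hodd : Odd (Fintype.card F)) : (2 : F) ≠ 0 := by
  intro h
  obtain ⟨k, hk⟩ := hodd
  have h1 := FiniteField.cast_card_eq_zero F
  rw [hk] at h1
  push_cast at h1
  rw [h, zero_mul, zero_add] at h1
  exact one_ne_zero h1

end Cfsg.Agent.PrimeDim
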