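import Cfsg.Agent.Lib.PrimeDim.Algebra

/-!
# Clifford theory in prime dimension

* `NormBy H N` : `H` normalises `N`;
* `clifford_abelian` : a non-scalar abelian subgroup normalised by an irreducible group in prime dimension
  gives a frame of lines (`IsFrame`) or a field subalgebra of degree the dimension;
* `commute_of_not_irreducible` : a reducible normalised subgroup is abelian;
* `absIrred_of_irreducible` : an irreducible non-abelian group is absolutely irreducible.
-/

set_option autoImplicit false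

namespace Cfsg.Agent.PrimeDim

open Matrix

variable {ι : Type} [Fintype ι] [DecidableEq ι] {F : Type*} [Field F]

/-- `H` normalises `N`. -/
def NormBy (H N : Subgroup (GL ι F)) : Prop := ∀ h ∈ H, ∀ x ∈ N, h * x * h⁻¹ ∈ N

/-- The algebra spanned by a subgroup. -/
abbrev alg (N : Subgroup (GL ι F)) : Subalgebra F (Matrix ι ι F) := Algebra.adjoin F (Geo.matrixSet N)

theorem cj_mem_alg {N : Subgroup (GL ι F)} {h : GL ι F} (hn : ∀ x ∈ N, h * x * h⁻¹ ∈ N)
    {a : Matrix ι ι F} (ha : a ∈ alg N) : cj h a ∈ alg N := by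
  induction ha using Algebra.adjoin_induction with
  | mem x hx =>
    obtain ⟨y, hy, rfl⟩ := hx
    rw [cj_coe]
    exact Algebra.subset_adjoin (mem_matrixSet (hn y hy))
  | algebraMap r => rw [AlgHom.commutes]; exact Subalgebra.algebraMap_mem _ r
  | add p q _ _ hp hq => rw [map_add]; exact add_mem hp hq
  | mul p q _ _ hp hq => rw [map_mul]; exact mul_mem hp hq

theorem alg_comm {N : Subgroup (GL ι F)} (hc : ∀ x ∈ N, ∀ y ∈ N, x * y = y * x) :
    ∀ a ∈ alg N, ∀ b ∈ alg N, a * b = b * a := by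
  intro a ha b hb
  refine Algebra.commute_of_mem_adjoin_of_forall_mem_commute hb ?_
  rintro _ ⟨y, hy, rfl⟩
  refine (Algebra.commute_of_mem_adjoin_of_forall_mem_commute ha ?_).symm
  rintro _ ⟨x, hx, rfl⟩
  exact (congrArg Units.val (hc x hx y hy)).symm

theorem mulVec_cj (h : GL ι F) (a : Matrix ι ι F) (v : ι → F) :
    cj h a *ᵥ ((h : Matrix ι ι F) *ᵥ v) = (h : Matrix ι ι F) *ᵥ (a *ᵥ v) := by
  simp [cj_apply, Matrix.mulVec_mulVec, mul_assoc]

theorem exists_isIdempotent_pow {M : Type*} [Monoid M] [Finite M] (a : M) :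
    ∃ m : ℕ, 0 < m ∧ a ^ m * a ^ m = a ^ m := by
  obtain ⟨i, j, hij, he⟩ : ∃ i j : ℕ, i ≠ j ∧ a ^ i = a ^ j := Finite.exists_ne_map_eq_of_infinite (a ^ ·)
  wlog hlt : i < j generalizing i j
  · exact this j i (Ne.symm hij) he.symm (by omega)
  have hper : ∀ k, i ≤ k → ∀ t, a ^ (k + t * (j - i)) = a ^ k := by
    intro k hk t
    induction t with
    | zero => simp
    | succ t ih =>
      have e1 : k + (t + 1) * (j - i) = j + (k + t * (j - i) - i) := by
        have : (t + 1) * (j - i) = t * (j - i) + (j - i) := by ring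
        omega
      rw [e1, pow_add, ← he, ← pow_add, show i + (k + t * (j - i) - i) = k + t * (j - i) by omega, ih]
  refine ⟨(i + 1) * (j - i), by have : 0 < j - i := by omega
                                positivity, ?_⟩
  rw [← pow_add]
  refine hper _ ?_ (i + 1)
  have : 1 ≤ j - i := by omega
  calc i ≤ (i + 1) * 1 := by omega
    _ ≤ (i + 1) * (j - i) := Nat.mul_le_mul_left _ this

/-- Commuting nilpotent matrices have a common null vector. -/
theorem exists_common_kernel [Nonempty ι] (s : Finset (Matrix ι ι F))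
    (hnil : ∀ a ∈ s, IsNilpotent a) (hc : ∀ a ∈ s, ∀ b ∈ s, a * b = b * a) :
    ∃ v : ι → F, v ≠ 0 ∧ ∀ a ∈ s, a *ᵥ v = 0 := by
  classical
  induction s using Finset.induction with
  | empty => exact ⟨1, one_ne_zero, by simp⟩
  | @insert a s has ih =>
    obtain ⟨v, hv, hs⟩ := ih (fun b hb => hnil b (Finset.mem_insert_of_mem hb))
      (fun b hb c hc' => hc b (Finset.mem_insert_of_mem hb) c (Finset.mem_insert_of_mem hc'))
    obtain ⟨k, hk⟩ := hnil a (Finset.mem_insert_self a s)
    have hex : ∃ m, a ^ m *ᵥ v = 0 := ⟨k, by rw [hk, Matrix.zero_mulVec]⟩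
    have hm := Nat.find_spec hex
    rcases hq : Nat.find hex with _ | m
    · rw [hq, pow_zero, Matrix.one_mulVec] at hm
      exact absurd hm hv
    rw [hq] at hm
    refine ⟨a ^ m *ᵥ v, fun h0 => Nat.find_min hex (by omega : m < Nat.find hex) h0, ?_⟩
    intro b hb
    rcases Finset.mem_insert.mp hb with rfl | hb'
    · rw [Matrix.mulVec_mulVec, ← pow_succ']; exact hm
    · rw [Matrix.mulVec_mulVec, ((show Commute b a from hc b hb a (Finset.mem_insert_self a s)).pow_right m).eq,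
        ← Matrix.mulVec_mulVec, hs b hb', Matrix.mulVec_zero]

/-- A frame of lines for `H` inside the algebra of `N`. -/
structure IsFrame (H N : Subgroup (GL ι F)) (e : ι → Matrix ι ι F) : Prop where
  mem : ∀ i, e i ∈ alg N
  idem : ∀ i, e i * e i = e i
  ortho : ∀ i j, i ≠ j → e i * e j = 0
  sum_eq : ∑ i, e i = 1
  rank_one : ∀ i, Module.finrank F (LinearMap.range (Matrix.toLin' (e i))) = 1
  atom : ∀ i, ∀ f ∈ alg N, f * f = f → f * e i = 0 ∨ f * e i = e i
  perm : ∀ h ∈ H, ∀ i, ∃ j, cj h (e i) = e j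
  trans : ∀ i j, ∃ h ∈ H, cj h (e i) = e j

theorem stab_map {h : GL ι F} {e e' : Matrix ι ι F} (he : cj h e = e') :
    (LinearMap.range (Matrix.toLin' e)).map (Matrix.toLin' (h : Matrix ι ι F))
      = LinearMap.range (Matrix.toLin' e') := by
  apply le_antisymm
  · rintro _ ⟨_, ⟨v, rfl⟩, rfl⟩
    exact ⟨(h : Matrix ι ι F) *ᵥ v, by simp [← he, cj_apply, mul_assoc, Matrix.mulVec_mulVec]⟩
  · rintro _ ⟨v, rfl⟩
    refine ⟨e *ᵥ (((h⁻¹ : GL ι F) : Matrix ι ι F) *ᵥ v), ⟨_, rfl⟩, ?_⟩
    have := mulVec_cj h e (((h⁻¹ : GL ι F) : Matrix ι ι F) *ᵥ v)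
    rw [he] at this
    simpa [Matrix.mulVec_mulVec] using this.symm

theorem IsFrame.frame_ne_zero {H N : Subgroup (GL ι F)} {e : ι → Matrix ι ι F} (hf : IsFrame H N e) (i : ι) :
    e i ≠ 0 := by
  intro h0
  have := hf.rank_one i
  rw [h0, map_zero, LinearMap.range_zero] at this
  simp at this

/-- The lines of a frame form a decomposition, stabilised by the group. -/
theorem IsFrame.decomposition {H N : Subgroup (GL ι F)} {e : ι → Matrix ι ι F} (hf : IsFrame H N e)
    {n : ℕ} (φ : Fin n ≃ ι) (hn : 2 ≤ n) :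
    Geo.IsMDecomposition 1 (fun i => LinearMap.range (Matrix.toLin' (e (φ i)))) ∧
      H ≤ Geo.decompositionStabilizer (fun i => LinearMap.range (Matrix.toLin' (e (φ i)))) := by
  classical
  refine ⟨⟨hn, one_pos, fun i => hf.rank_one _, ?_, ?_⟩, ?_⟩
  · rw [iSupIndep_def]
    intro i
    rw [Submodule.disjoint_def]
    intro x hx hx'
    obtain ⟨v, rfl⟩ := hx
    simp only [Matrix.toLin'_apply] at hx' ⊢
    have hle : (⨆ j, ⨆ (_ : j ≠ i), LinearMap.range (Matrix.toLin' (e (φ j))))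
        ≤ LinearMap.ker (Matrix.toLin' (e (φ i))) := by
      refine iSup₂_le fun j hj => ?_
      rintro _ ⟨w, rfl⟩
      simp [Matrix.mulVec_mulVec, hf.ortho _ _ (fun h => hj (φ.injective h).symm)]
    have := hle hx'
    simpa [Matrix.mulVec_mulVec, hf.idem] using this
  · rw [eq_top_iff]
    intro v _
    have : v = ∑ i, e (φ i) *ᵥ v := by
      rw [← Matrix.sum_mulVec, φ.sum_comp e, hf.sum_eq, Matrix.one_mulVec]
    rw [this]
    exact Submodule.sum_mem _ fun i _ => Submodule.mem_iSup_of_mem i ⟨v, rfl⟩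
  · intro h hh
    choose π hπ using hf.perm h hh
    have hinj : Function.Injective π := by
      intro a b hab
      by_contra hne
      have h1 : cj h (e a * e b) = e (π a) * e (π b) := by rw [map_mul, hπ, hπ]
      rw [hf.ortho a b hne, map_zero, hab, hf.idem] at h1
      exact hf.frame_ne_zero _ h1.symm
    refine ⟨φ.trans ((Equiv.ofBijective π (Finite.injective_iff_bijective.mp hinj)).trans φ.symm), fun i => ?_⟩
    rw [stab_map (hπ (φ i))]
    simp

/-- Elements of an algebra that is a field act freely; at full degree, transitively. -/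
theorem exists_mem_mulVec_eq {K : Subalgebra F (Matrix ι ι F)}
    (hinv : ∀ x ∈ K, x ≠ 0 → IsUnit x) (hrank : Module.finrank F K = Fintype.card ι)
    {v : ι → F} (hv : v ≠ 0) (w : ι → F) : ∃ a ∈ K, a *ᵥ v = w := by
  let L : K →ₗ[F] (ι → F) :=
    { toFun := fun a => (a : Matrix ι ι F) *ᵥ v
      map_add' := fun a b => Matrix.add_mulVec _ _ _
      map_smul' := fun c a => Matrix.smul_mulVec _ _ _ }
  have hinj : Function.Injective L := by
    rw [← LinearMap.ker_eq_bot, LinearMap.ker_eq_bot']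
    intro a ha
    by_contra hne
    obtain ⟨u, hu⟩ := hinv _ a.2 (fun h => hne (Subtype.ext h))
    have h1 : (a : Matrix ι ι F) *ᵥ v = 0 := ha
    rw [← hu] at h1
    have := congrArg (((u⁻¹ : GL ι F) : Matrix ι ι F) *ᵥ ·) h1
    simp [Matrix.mulVec_mulVec] at this
    exact hv this
  have hsurj := (LinearMap.injective_iff_surjective_of_finrank_eq_finrank
    (by rw [hrank, Module.finrank_fintype_fun_eq_card])).mp hinj
  obtain ⟨a, ha⟩ := hsurj w
  exact ⟨a, a.2, ha⟩

theorem finrank_dvd_of_field [Nonempty ι] [Finite F] {A : Subalgebra F (Matrix ι ι F)}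
    (hc : ∀ x ∈ A, ∀ y ∈ A, x * y = y * x) (hinv : ∀ x ∈ A, x ≠ 0 → ∃ y ∈ A, x * y = 1) :
    Module.finrank F A ∣ Fintype.card ι := by
  have hF : IsField A := ⟨exists_pair_ne _, fun x y => Subtype.ext (hc _ x.2 _ y.2), fun {x} hx => by
    obtain ⟨y, hy, h⟩ := hinv _ x.2 (fun h => hx (Subtype.ext h))
    exact ⟨⟨y, hy⟩, Subtype.ext h⟩⟩
  letI : Field A := hF.toField
  let f : A →+* Module.End F (ι → F) := (Matrix.toLinAlgEquiv' (R := F) (n := ι)).toRingHom.comp A.val.toRingHom
  letI : Module A (ι → F) := Module.compHom (ι → F) f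
  haveI hT : IsScalarTower F A (ι → F) := ⟨fun c a v => by
    show f (c • a) v = c • f a v
    simp [f, Matrix.smul_mulVec]⟩
  refine ⟨Module.finrank A (ι → F), ?_⟩
  haveI hfree : Module.Free A (ι → F) := Module.Free.of_divisionRing A (ι → F)
  exact ((@Module.finrank_mul_finrank F A (ι → F) _ _ _ _ _ _ hT _ _ _ hfree).trans
    (Module.finrank_fintype_fun_eq_card F)).symm

theorem eq_smul_one_of_finrank_eq_one [Nonempty ι] {A : Subalgebra F (Matrix ι ι F)}
    (h : Module.finrank F A = 1) {x : Matrix ι ι F} (hx : x ∈ A) : ∃ c : F, x = c • 1 := by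
  rw [Subalgebra.finrank_eq_one_iff] at h
  rw [h, Algebra.mem_bot] at hx
  obtain ⟨c, rfl⟩ := hx
  exact ⟨c, Algebra.algebraMap_eq_smul_one c⟩

theorem smul_one_mem_scalars [Nonempty ι] {x : GL ι F} {c : F} (hx : (x : Matrix ι ι F) = c • 1) :
    x ∈ Geo.scalars ι F := by
  rw [Geo.mem_scalars_iff]
  have hc : c ≠ 0 := by
    intro h0
    rw [h0, zero_smul] at hx
    exact x.ne_zero hx
  exact ⟨Units.mk0 c hc, hx⟩

theorem scalars_central {z : GL ι F} (hz : z ∈ Geo.scalars ι F) (g : GL ι F) : g * z = z * g := by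
  rw [Geo.mem_scalars_iff] at hz
  obtain ⟨c, hc⟩ := hz
  ext1
  simp [hc]

/-- Clifford's theorem for abelian subgroups in prime dimension. -/
theorem clifford_abelian [Finite F] (hn : (Fintype.card ι).Prime) {H N : Subgroup (GL ι F)}
    (hirr : Geo.ActsIrreducibly (Geo.matrixSet H)) (hnorm : NormBy H N)
    (hc : ∀ x ∈ N, ∀ y ∈ N, x * y = y * x) (hns : ∃ x ∈ N, x ∉ Geo.scalars ι F) :
    (∃ e, IsFrame H N e) ∨
      (Geo.IsFieldSubalgebra (Fintype.card ι) (alg N) ∧ H ≤ Geo.subalgebraNormalizer (alg N)) := by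
  classical
  have : Nonempty ι := Fintype.card_pos_iff.mp hn.pos
  have : Finite (Matrix ι ι F) := inferInstanceAs (Finite (ι → ι → F))
  set A := alg N with hA
  have hcA := alg_comm hc
  have hcj : ∀ h ∈ H, ∀ a ∈ A, cj h a ∈ A := fun h hh a ha => cj_mem_alg (hnorm h hh) ha
  have hHnorm : H ≤ Geo.subalgebraNormalizer A := by
    intro h hh k
    refine ⟨fun hk => hcj h hh k hk, fun hk => ?_⟩
    have := hcj h⁻¹ (inv_mem hh) _ hk
    rwa [← cj_apply, cj_cj, inv_mul_cancel, cj_apply, inv_one, Units.val_one, one_mul, mul_one] at this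
  have invspace : ∀ W : Submodule F (ι → F),
      (∀ h ∈ H, ∀ w ∈ W, (h : Matrix ι ι F) *ᵥ w ∈ W) → W = ⊥ ∨ W = ⊤ := by
    intro W hW
    refine hirr W ?_
    rintro _ ⟨h, hh, rfl⟩
    exact (mapsTo_iff_mulVec _ W).mpr (hW h hh)
  have hred : ∀ a ∈ A, IsNilpotent a → a = 0 := by
    intro a ha hnil
    let s : Finset (Matrix ι ι F) := (Set.toFinite {b | b ∈ A ∧ IsNilpotent b}).toFinset
    have hs : ∀ b, b ∈ s ↔ b ∈ A ∧ IsNilpotent b := fun b => Set.Finite.mem_toFinset _
    obtain ⟨v, hv, hvs⟩ := exists_common_kernel s (fun b hb => ((hs b).mp hb).2)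
      (fun b hb c hc' => hcA b ((hs b).mp hb).1 c ((hs c).mp hc').1)
    let U : Submodule F (ι → F) := ⨅ b ∈ s, LinearMap.ker (Matrix.toLin' b)
    have hU : ∀ w, w ∈ U ↔ ∀ b ∈ s, b *ᵥ w = 0 := by intro w; simp [U]
    rcases invspace U (fun h hh w hw => by
      rw [hU] at hw ⊢
      intro b hb
      have hb' : cj h⁻¹ b ∈ s :=
        (hs _).mpr ⟨hcj _ (inv_mem hh) _ ((hs b).mp hb).1, ((hs b).mp hb).2.map (cj h⁻¹)⟩
      have h1 := mulVec_cj h (cj h⁻¹ b) w
      rw [cj_cj, mul_inv_cancel, hw _ hb', Matrix.mulVec_zero] at h1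
      simpa [cj_apply] using h1) with h | h
    · exact absurd ((Submodule.mem_bot F).mp (h ▸ (hU v).mpr hvs)) hv
    · refine Matrix.ext_of_mulVec_single fun i => ?_
      rw [Matrix.zero_mulVec]
      exact (hU _).mp (by rw [h]; trivial) a ((hs a).mpr ⟨ha, hnil⟩)
  by_cases hfield : ∀ f ∈ A, f * f = f → f = 0 ∨ f = 1
  · right
    have hinv : ∀ x ∈ A, x ≠ 0 → ∃ y ∈ A, x * y = 1 := by
      intro x hx hx0
      obtain ⟨m, hm, hidem⟩ := exists_isIdempotent_pow x
      rcases hfield _ (pow_mem hx m) hidem with h | h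
      · exact absurd (hred x hx ⟨m, h⟩) hx0
      · exact ⟨x ^ (m - 1), pow_mem hx _, by rw [← pow_succ', show m - 1 + 1 = m by omega, h]⟩
    refine ⟨⟨hcA, hinv, ?_⟩, hHnorm⟩
    rcases (Nat.dvd_prime hn).mp (finrank_dvd_of_field hcA hinv) with h | h
    · obtain ⟨x, hx, hxs⟩ := hns
      obtain ⟨c, hc'⟩ := eq_smul_one_of_finrank_eq_one h (Algebra.subset_adjoin (mem_matrixSet hx))
      exact absurd (smul_one_mem_scalars hc') hxs
    · exact h
  left
  simp only [not_forall, not_or] at hfield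
  obtain ⟨f₀, hf₀A, hf₀i, hf₀0, hf₀1⟩ := hfield
  let rk : Matrix ι ι F → ℕ := fun f => Module.finrank F (LinearMap.range (Matrix.toLin' f))
  have hex : ∃ k, ∃ f ∈ A, f * f = f ∧ f ≠ 0 ∧ rk f = k := ⟨_, f₀, hf₀A, hf₀i, hf₀0, rfl⟩
  obtain ⟨a, haA, hai, ha0, hak⟩ := Nat.find_spec hex
  have hatom : ∀ f ∈ A, f * f = f → f * a = 0 ∨ f * a = a := by
    intro f hf hfi
    by_cases h0 : f * a = 0
    · exact Or.inl h0
    right
    have hidem : f * a * (f * a) = f * a := by
      calc f * a * (f * a) = f * (a * f) * a := by simp [mul_assoc]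
        _ = f * (f * a) * a := by rw [hcA a haA f hf]
        _ = f * f * (a * a) := by simp [mul_assoc]
        _ = f * a := by rw [hfi, hai]
    have hle : LinearMap.range (Matrix.toLin' (f * a)) ≤ LinearMap.range (Matrix.toLin' a) := by
      rw [← hcA a haA f hf, Matrix.toLin'_mul]
      exact LinearMap.range_comp_le_range _ _
    have hge : rk a ≤ rk (f * a) := hak ▸ Nat.find_min' hex ⟨_, mul_mem hf haA, hidem, h0, rfl⟩
    have heq := Submodule.eq_of_le_of_finrank_le hle hge
    refine Matrix.ext_of_mulVec_single fun i => ?_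
    obtain ⟨w, hw⟩ : a *ᵥ Pi.single i 1 ∈ LinearMap.range (Matrix.toLin' (f * a)) := heq ▸ ⟨_, rfl⟩
    rw [Matrix.toLin'_apply] at hw
    calc (f * a) *ᵥ Pi.single i 1 = f *ᵥ ((f * a) *ᵥ w) := by rw [hw, Matrix.mulVec_mulVec]
      _ = a *ᵥ Pi.single i 1 := by rw [Matrix.mulVec_mulVec, ← mul_assoc, hfi, hw]
  let O : Finset (Matrix ι ι F) := (Set.toFinite ((fun h => cj h a) '' (H : Set (GL ι F)))).toFinset
  have hO : ∀ o, o ∈ O ↔ ∃ h ∈ H, cj h a = o := fun o => by simp [O]
  have hOA : ∀ o ∈ O, o ∈ A ∧ o * o = o ∧ o ≠ 0 ∧ rk o = rk a ∧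
      (∀ f ∈ A, f * f = f → f * o = 0 ∨ f * o = o) := by
    intro o ho
    obtain ⟨h, hh, rfl⟩ := (hO o).mp ho
    have hback : ∀ x, cj h (cj h⁻¹ x) = x := fun x => by rw [cj_cj, mul_inv_cancel]; simp [cj_apply]
    refine ⟨hcj h hh a haA, by rw [← map_mul, hai], ?_, ?_, ?_⟩
    · intro h0
      have := congrArg (cj h⁻¹) h0
      rw [cj_cj, inv_mul_cancel, map_zero] at this
      exact ha0 (by simpa [cj_apply] using this)
    · show Module.finrank F _ = Module.finrank F _
      rw [← stab_map (rfl : cj h a = cj h a)]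
      exact LinearEquiv.finrank_eq (Submodule.equivMapOfInjective _
        (fun x y hxy => by
          have := congrArg (((h⁻¹ : GL ι F) : Matrix ι ι F) *ᵥ ·) hxy
          simpa [Matrix.mulVec_mulVec] using this) _).symm
    · intro f hf hfi
      rcases hatom (cj h⁻¹ f) (hcj _ (inv_mem hh) f hf) (by rw [← map_mul, hfi]) with h1 | h1
      · left
        have := congrArg (cj h) h1
        rwa [map_mul, hback, map_zero] at this
      · right
        have := congrArg (cj h) h1
        rwa [map_mul, hback] at this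
  have hortho : ∀ o ∈ O, ∀ o' ∈ O, o ≠ o' → o * o' = 0 := by
    intro o ho o' ho' hne
    rcases (hOA o' ho').2.2.2.2 o (hOA o ho).1 (hOA o ho).2.1 with h | h
    · exact h
    rcases (hOA o ho).2.2.2.2 o' (hOA o' ho').1 (hOA o' ho').2.1 with h' | h'
    · rw [hcA o (hOA o ho).1 o' (hOA o' ho').1]; exact h'
    · exact absurd (by rw [← h', ← hcA o (hOA o ho).1 o' (hOA o' ho').1, h]) hne
  have hperm : ∀ h ∈ H, ∀ o ∈ O, cj h o ∈ O := by
    intro h hh o ho
    obtain ⟨k, hk, rfl⟩ := (hO o).mp ho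
    exact (hO _).mpr ⟨h * k, mul_mem hh hk, (cj_cj h k a).symm⟩
  set E := ∑ o ∈ O, o with hE
  have hEo : ∀ o ∈ O, E * o = o := by
    intro o ho
    rw [hE, Finset.sum_mul, Finset.sum_eq_single o]
    · exact (hOA o ho).2.1
    · intro b hb hne; exact hortho b hb o ho hne
    · exact fun h => absurd ho h
  have haO : a ∈ O := (hO a).mpr ⟨1, one_mem H, by simp [cj_apply]⟩
  have hEcj : ∀ h ∈ H, cj h E = E := by
    intro h hh
    rw [hE, map_sum]
    refine Finset.sum_bij (fun o _ => cj h o) (fun o ho => hperm h hh o ho) ?_ ?_ (fun o ho => rfl)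
    · intro x _ y _ hxy
      have := congrArg (cj h⁻¹) hxy
      rwa [cj_inv_cj, cj_inv_cj] at this
    · intro o ho
      exact ⟨cj h⁻¹ o, hperm _ (inv_mem hh) o ho, cj_cj_inv h o⟩
  have hE1 : E = 1 := by
    rcases invspace (LinearMap.range (Matrix.toLin' E)) (fun h hh w hw => by
      obtain ⟨v, rfl⟩ := hw
      refine ⟨(h : Matrix ι ι F) *ᵥ v, ?_⟩
      have := mulVec_cj h E v
      rw [hEcj h hh] at this
      simpa using this) with h | h
    · rw [LinearMap.range_eq_bot] at h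
      have hz : E = 0 := Matrix.toLin'.injective (by rw [h, map_zero])
      have := hEo a haO
      rw [hz, zero_mul] at this
      exact absurd this.symm ha0
    · have hEE : E * E = E := by
        conv_lhs => rw [hE, Finset.mul_sum]
        rw [← hE]
        exact Finset.sum_congr rfl fun o ho => hEo o ho
      refine Matrix.ext_of_mulVec_single fun i => ?_
      obtain ⟨v, hv⟩ : (Pi.single i 1 : ι → F) ∈ LinearMap.range (Matrix.toLin' E) := h ▸ trivial
      rw [Matrix.toLin'_apply] at hv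
      rw [Matrix.one_mulVec]
      calc E *ᵥ Pi.single i 1 = (E * E) *ᵥ v := by rw [← Matrix.mulVec_mulVec, hv]
        _ = Pi.single i 1 := by rw [hEE, hv]
  let Φ : (ι → F) ≃ₗ[F] (∀ o : O, LinearMap.range (Matrix.toLin' (o : Matrix ι ι F))) :=
    { toFun := fun v o => ⟨(o : Matrix ι ι F) *ᵥ v, v, rfl⟩
      invFun := fun w => ∑ o : O, ((w o : _) : ι → F)
      map_add' := fun u v => funext fun o => Subtype.ext (Matrix.mulVec_add _ _ _)
      map_smul' := fun c v => funext fun o => Subtype.ext (Matrix.mulVec_smul _ _ _)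
      left_inv := fun v => by
        show (∑ o : O, (o : Matrix ι ι F) *ᵥ v) = v
        rw [← Matrix.sum_mulVec, Finset.sum_coe_sort O (fun o => o), ← hE, hE1, Matrix.one_mulVec]
      right_inv := fun w => funext fun o => Subtype.ext (by
        show (o : Matrix ι ι F) *ᵥ (∑ p : O, ((w p : _) : ι → F)) = (w o : ι → F)
        rw [Matrix.mulVec_sum, Finset.sum_eq_single o]
        · obtain ⟨v, hv⟩ := (w o).2
          rw [← hv, Matrix.toLin'_apply, Matrix.mulVec_mulVec, (hOA _ o.2).2.1]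
        · intro p _ hne
          obtain ⟨v, hv⟩ := (w p).2
          rw [← hv, Matrix.toLin'_apply, Matrix.mulVec_mulVec,
            hortho _ o.2 _ p.2 (fun h => hne (Subtype.ext h.symm)), Matrix.zero_mulVec]
        · simp) }
  have hdim : Fintype.card ι = O.card * rk a := by
    rw [← Module.finrank_fintype_fun_eq_card (R := F), Φ.finrank_eq, Module.finrank_pi_fintype,
      Finset.sum_congr rfl fun (o : O) _ => (hOA _ o.2).2.2.2.1]
    simp
  have hcard1 : O.card ≠ 1 := by
    intro h1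
    obtain ⟨o, ho⟩ := Finset.card_eq_one.mp h1
    rw [hE, ho, Finset.sum_singleton] at hE1
    have hoO : o ∈ O := by rw [ho]; exact Finset.mem_singleton_self o
    rcases (hOA o hoO).2.2.2.2 f₀ hf₀A hf₀i with h | h <;> rw [hE1, mul_one] at h
    · exact hf₀0 h
    · exact hf₀1 h
  have hOn : O.card = Fintype.card ι :=
    ((Nat.dvd_prime hn).mp ⟨_, hdim⟩).resolve_left hcard1
  have hrk : rk a = 1 := by
    rw [hOn] at hdim
    exact (Nat.mul_eq_left (by have := hn.pos; omega)).mp hdim.symm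
  let φ : ι ≃ O := Fintype.equivOfCardEq (by rw [Fintype.card_coe, hOn])
  refine ⟨fun i => φ i, ⟨fun i => (hOA _ (φ i).2).1, fun i => (hOA _ (φ i).2).2.1, ?_, ?_, ?_,
    fun i => (hOA _ (φ i).2).2.2.2.2, ?_, ?_⟩⟩
  · intro i j hij
    exact hortho _ (φ i).2 _ (φ j).2 fun h => hij (φ.injective (Subtype.ext h))
  · rw [φ.sum_comp (fun o : O => (o : Matrix ι ι F)), Finset.sum_coe_sort O (fun o => o), ← hE, hE1]
  · intro i
    exact ((hOA _ (φ i).2).2.2.2.1).trans hrk
  · intro h hh i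
    exact ⟨φ.symm ⟨_, hperm h hh _ (φ i).2⟩, by simp⟩
  · intro i j
    obtain ⟨k, hk, hki⟩ := (hO _).mp (φ i).2
    obtain ⟨l, hl, hlj⟩ := (hO _).mp (φ j).2
    exact ⟨l * k⁻¹, mul_mem hl (inv_mem hk), by
      rw [← hki, cj_cj, inv_mul_cancel_right, hlj]⟩

theorem finrank_map_gl (h : GL ι F) (W : Submodule F (ι → F)) :
    Module.finrank F (W.map (Matrix.toLin' (h : Matrix ι ι F))) = Module.finrank F W :=
  LinearEquiv.finrank_eq (Submodule.equivMapOfInjective _
    (fun x y hxy => by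
      have := congrArg (((h⁻¹ : GL ι F) : Matrix ι ι F) *ᵥ ·) hxy
      simpa [Matrix.mulVec_mulVec] using this) W).symm

/-- A reducible subgroup normalised by an irreducible group is abelian (prime dimension). -/
theorem commute_of_not_irreducible [Finite F] (hn : (Fintype.card ι).Prime) {H P : Subgroup (GL ι F)}
    (hirr : Geo.ActsIrreducibly (Geo.matrixSet H)) (hnorm : NormBy H P)
    (hred : ¬ Geo.ActsIrreducibly (Geo.matrixSet P)) : ∀ x ∈ P, ∀ y ∈ P, x * y = y * x := by
  classical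
  have : Nonempty ι := Fintype.card_pos_iff.mp hn.pos
  simp only [Geo.ActsIrreducibly, not_forall, not_or] at hred
  obtain ⟨W₀, hW₀, hW₀b, hW₀t⟩ := hred
  let Inv : Submodule F (ι → F) → Prop := fun W => W ≠ ⊥ ∧ ∀ x ∈ P, ∀ w ∈ W, (x : Matrix ι ι F) *ᵥ w ∈ W
  have hex : ∃ k, ∃ W, Inv W ∧ Module.finrank F W = k :=
    ⟨_, W₀, ⟨hW₀b, fun x hx => (mapsTo_iff_mulVec _ W₀).mp (hW₀ _ (mem_matrixSet hx))⟩, rfl⟩
  obtain ⟨W, hW, hWk⟩ := Nat.find_spec hex
  set d := Module.finrank F W with hd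
  have hmin : ∀ U, Inv U → d ≤ Module.finrank F U := fun U hU => by
    rw [hWk]; exact Nat.find_min' hex ⟨U, hU, rfl⟩
  have hdn : d < Fintype.card ι := by
    have := hmin W₀ ⟨hW₀b, fun x hx => (mapsTo_iff_mulVec _ W₀).mp (hW₀ _ (mem_matrixSet hx))⟩
    have h2 := Submodule.finrank_lt hW₀t
    rw [Module.finrank_fintype_fun_eq_card] at h2
    omega
  have hd0 : 0 < d := by
    rw [hd]
    exact Nat.pos_of_ne_zero fun h => hW.1 (Submodule.finrank_eq_zero.mp h)
  have : Finite (Submodule F (ι → F)) :=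
    Finite.of_injective (fun U : Submodule F (ι → F) => (U : Set (ι → F))) SetLike.coe_injective
  let T : Finset (Submodule F (ι → F)) :=
    (Set.toFinite ((fun h : GL ι F => W.map (Matrix.toLin' (h : Matrix ι ι F))) '' (H : Set (GL ι F)))).toFinset
  have hTmem : ∀ U, U ∈ T ↔ ∃ h ∈ H, W.map (Matrix.toLin' (h : Matrix ι ι F)) = U := fun U => by simp [T]
  have hT : ∀ U ∈ T, Inv U ∧ Module.finrank F U = d := by
    intro U hU
    obtain ⟨h, hh, rfl⟩ := (hTmem U).mp hU
    refine ⟨⟨?_, ?_⟩, finrank_map_gl h W⟩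
    · intro h0
      have := finrank_map_gl h W
      rw [h0, finrank_bot] at this
      omega
    · intro x hx w hw
      obtain ⟨v, hv, rfl⟩ := hw
      refine ⟨((h⁻¹ * x * h : GL ι F) : Matrix ι ι F) *ᵥ v, ?_, ?_⟩
      · have hm := hnorm h⁻¹ (inv_mem hh) x hx
        rw [inv_inv] at hm
        exact hW.2 _ hm v hv
      · simp [Matrix.mulVec_mulVec, mul_assoc]
  have hsub : ∀ S : Finset (Submodule F (ι → F)), S ⊆ T →
      (∃ k, Module.finrank F ↥(S.sup id) = k * d) ∧ ∀ x ∈ P, ∀ w ∈ S.sup id, (x : Matrix ι ι F) *ᵥ w ∈ S.sup id := by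
    intro S
    induction S using Finset.induction with
    | empty =>
      intro _
      refine ⟨⟨0, by simp⟩, fun x _ w hw => ?_⟩
      simp only [Finset.sup_empty, Submodule.mem_bot] at hw ⊢
      simp [hw]
    | @insert U S _ ih =>
      intro hS
      obtain ⟨⟨k, hk⟩, hinv⟩ := ih fun x hx => hS (Finset.mem_insert_of_mem hx)
      have hU := hT U (hS (Finset.mem_insert_self _ _))
      rw [Finset.sup_insert, id_eq]
      refine ⟨?_, fun x hx w hw => ?_⟩
      · by_cases hint : U ⊓ S.sup id = ⊥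
        · refine ⟨k + 1, ?_⟩
          have := Submodule.finrank_sup_add_finrank_inf_eq U (S.sup id)
          rw [hint, finrank_bot, hU.2, hk] at this
          linarith [this]
        · refine ⟨k, ?_⟩
          have hI : Inv (U ⊓ S.sup id) := ⟨hint, fun x hx w hw => ⟨hU.1.2 x hx w hw.1, hinv x hx w hw.2⟩⟩
          have := Submodule.eq_of_le_of_finrank_le inf_le_left (hU.2.le.trans (hmin _ hI))
          rw [sup_eq_right.mpr (inf_eq_left.mp this), hk]
      · obtain ⟨u, hu, s, hs, rfl⟩ := Submodule.mem_sup.mp hw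
        rw [Matrix.mulVec_add]
        exact Submodule.add_mem_sup (hU.1.2 x hx u hu) (hinv x hx s hs)
  have hWT : W ∈ T := (hTmem W).mpr ⟨1, one_mem H, by simp⟩
  have htop : T.sup id = ⊤ := by
    refine (hirr (T.sup id) ?_).resolve_left fun h => hW.1 (le_bot_iff.mp (h ▸ Finset.le_sup (f := id) hWT))
    rintro _ ⟨h, hh, rfl⟩
    rw [Submodule.map_le_iff_le_comap]
    refine Finset.sup_le fun U hU => ?_
    rw [← Submodule.map_le_iff_le_comap]
    obtain ⟨k, hk, rfl⟩ := (hTmem U).mp hU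
    refine le_trans (le_of_eq ?_) (Finset.le_sup (f := id) ((hTmem _).mpr ⟨h * k, mul_mem hh hk, rfl⟩))
    rw [id_eq, id_eq, Units.val_mul, Matrix.toLin'_mul, Submodule.map_comp]
  have hd1 : d = 1 := by
    obtain ⟨k, hk⟩ := (hsub T subset_rfl).1
    rw [htop, finrank_top, Module.finrank_fintype_fun_eq_card] at hk
    rcases (Nat.dvd_prime hn).mp ⟨k, hk.trans (mul_comm _ _)⟩ with h | h
    · exact h
    · omega
  intro x hx y hy
  let K : Submodule F (ι → F) :=
    LinearMap.ker (Matrix.toLin' ((x : Matrix ι ι F) * (y : Matrix ι ι F) - (y : Matrix ι ι F) * (x : Matrix ι ι F)))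
  have hK : T.sup id ≤ K := by
    refine Finset.sup_le fun U hU w hw => ?_
    obtain ⟨hUi, hUd⟩ := hT U hU
    obtain ⟨u, hu0, hu⟩ := finrank_eq_one_iff'.mp (hUd.trans hd1)
    obtain ⟨a, ha⟩ := hu ⟨_, hUi.2 x hx u u.2⟩
    obtain ⟨b, hb⟩ := hu ⟨_, hUi.2 y hy u u.2⟩
    obtain ⟨c, hc⟩ := hu ⟨w, hw⟩
    have ha' : (x : Matrix ι ι F) *ᵥ (u : ι → F) = a • (u : ι → F) := (congrArg Subtype.val ha).symm
    have hb' : (y : Matrix ι ι F) *ᵥ (u : ι → F) = b • (u : ι → F) := (congrArg Subtype.val hb).symm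
    have hc' : w = c • (u : ι → F) := (congrArg Subtype.val hc).symm
    simp only [K, LinearMap.mem_ker, Matrix.toLin'_apply, Matrix.sub_mulVec, ← Matrix.mulVec_mulVec, hc',
      Matrix.mulVec_smul, ha', hb', smul_smul]
    rw [mul_comm a b, sub_self, smul_zero]
  rw [htop, top_le_iff, LinearMap.ker_eq_top] at hK
  ext1
  rw [Units.val_mul, Units.val_mul]
  exact sub_eq_zero.mp (Matrix.toLin'.injective (by rw [hK, map_zero]))

/-- An irreducible non-abelian group in prime dimension is absolutely irreducible. -/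
theorem absIrred_of_irreducible [Finite F] (hn : (Fintype.card ι).Prime) {P : Subgroup (GL ι F)}
    (hirr : Geo.ActsIrreducibly (Geo.matrixSet P)) (hnab : ∃ x ∈ P, ∃ y ∈ P, x * y ≠ y * x) :
    Geo.ActsAbsolutelyIrreducibly (Geo.matrixSet P) := by
  classical
  have : Nonempty ι := Fintype.card_pos_iff.mp hn.pos
  have : Finite (Matrix ι ι F) := inferInstanceAs (Finite (ι → ι → F))
  refine ⟨hirr, fun M hM => ?_⟩
  let C : Subalgebra F (Matrix ι ι F) := Algebra.adjoin F {M}
  have hcomm : ∀ a ∈ C, ∀ s ∈ Geo.matrixSet P, a * s = s * a := by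
    intro a ha s hs
    exact (Algebra.commute_of_mem_adjoin_of_forall_mem_commute ha (fun b hb => by
      rw [Set.mem_singleton_iff] at hb
      subst hb
      exact (hM s hs).symm)).symm
  have hcC : ∀ a ∈ C, ∀ b ∈ C, a * b = b * a := by
    intro a ha b hb
    refine Algebra.commute_of_mem_adjoin_of_forall_mem_commute hb fun c hc => ?_
    rw [Set.mem_singleton_iff] at hc
    subst hc
    refine (Algebra.commute_of_mem_adjoin_of_forall_mem_commute ha fun d hd => ?_).symm
    rw [Set.mem_singleton_iff] at hd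
    subst hd
    rfl
  have hunit : ∀ a ∈ C, a ≠ 0 → IsUnit a := by
    intro a ha ha0
    rw [← Matrix.mulVec_injective_iff_isUnit]
    rcases hirr (LinearMap.ker (Matrix.toLin' a)) (fun s hs => (mapsTo_iff_mulVec _ _).mpr fun w hw => by
      simp only [LinearMap.mem_ker, Matrix.toLin'_apply] at hw ⊢
      rw [Matrix.mulVec_mulVec, hcomm a ha s hs, ← Matrix.mulVec_mulVec, hw, Matrix.mulVec_zero]) with h | h
    · exact LinearMap.ker_eq_bot.mp h
    · rw [LinearMap.ker_eq_top] at h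
      exact absurd (Matrix.toLin'.injective (by rw [h, map_zero])) ha0
  have hinv : ∀ a ∈ C, a ≠ 0 → ∃ b ∈ C, a * b = 1 := by
    intro a ha ha0
    obtain ⟨u, hu⟩ := hunit a ha ha0
    obtain ⟨m, hm, hidem⟩ := exists_isIdempotent_pow a
    have h1 : a ^ m = 1 := by
      have h2 : ((u ^ m : GL ι F) : Matrix ι ι F) * ((u ^ m : GL ι F) : Matrix ι ι F)
          = ((u ^ m : GL ι F) : Matrix ι ι F) := by rw [Units.val_pow_eq_pow_val, hu]; exact hidem
      rw [← Units.val_mul, Units.ext_iff.symm, mul_eq_left] at h2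
      rw [← hu, ← Units.val_pow_eq_pow_val, h2, Units.val_one]
    exact ⟨a ^ (m - 1), pow_mem ha _, by rw [← pow_succ', show m - 1 + 1 = m by omega, h1]⟩
  rcases (Nat.dvd_prime hn).mp (finrank_dvd_of_field hcC hinv) with h | h
  · exact eq_smul_one_of_finrank_eq_one h (Algebra.subset_adjoin (Set.mem_singleton M))
  exfalso
  obtain ⟨v, hv⟩ := exists_ne (0 : ι → F)
  have hmem : ∀ x ∈ P, (x : Matrix ι ι F) ∈ C := by
    intro x hx
    obtain ⟨a, ha, hav⟩ := exists_mem_mulVec_eq hunit h hv ((x : Matrix ι ι F) *ᵥ v)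
    have : (x : Matrix ι ι F) = a := by
      refine Matrix.ext_of_mulVec_single fun i => ?_
      obtain ⟨b, hb, hbv⟩ := exists_mem_mulVec_eq hunit h hv (Pi.single i 1)
      rw [← hbv, Matrix.mulVec_mulVec, Matrix.mulVec_mulVec, ← hcomm b hb _ (mem_matrixSet hx),
        ← Matrix.mulVec_mulVec, ← hav, Matrix.mulVec_mulVec, hcC b hb a ha]
    rw [this]; exact ha
  obtain ⟨x, hx, y, hy, hxy⟩ := hnab
  exact hxy (Units.ext (hcC _ (hmem x hx) _ (hmem y hy)))

end Cfsg.Agent.PrimeDim
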