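import Cfsg.Agent.Lib.PrimeDim.Clifford

/-!
# Aschbacher's theorem in odd prime dimension, algebraic form

* `IsExtraspecialData H R`, `IsCore H P`;
* `trichotomy` : an irreducible subgroup of the special linear group in odd prime dimension has an abelian
  frame of lines, or a field subalgebra of full degree, or extraspecial data, or a quasisimple core.
-/

set_option autoImplicit false

namespace Cfsg.Agent.PrimeDim

open Matrix
open scoped commutatorElement

variable {ι : Type} [Fintype ι] [DecidableEq ι] {F : Type*} [Field F]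

/-- An extraspecial normalised subgroup of order `n³`. -/
structure IsExtraspecialData (H R : Subgroup (GL ι F)) : Prop where
  le : R ≤ H
  norm : NormBy H R
  sympType : Geo.IsSymplecticTypeGroup (Fintype.card ι) R
  card_eq : Nat.card R = Fintype.card ι ^ 3
  card_center : Nat.card (Subgroup.center R) = Fintype.card ι
  absIrred : Geo.ActsAbsolutelyIrreducibly (Geo.matrixSet R)
  span_eq : Submodule.span F (Geo.matrixSet R) = ⊤
  root : ∃ ζ : F, IsPrimitiveRoot ζ (Fintype.card ι) ∧ ∃ z ∈ R, (z : Matrix ι ι F) = ζ • 1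
  trace_eq : ∀ x ∈ R, (x : Matrix ι ι F).trace = 0 ∨
    ∃ c : F, c ^ Fintype.card ι = 1 ∧ (x : Matrix ι ι F) = c • 1

/-- The residual-class conditions, except those about subfields and forms. -/
structure IsCore (H P : Subgroup (GL ι F)) : Prop where
  le : P ≤ H
  normal : NormBy H P
  perfect : ⁅P, P⁆ = P
  simple : IsSimpleGroup (P ⧸ (Geo.scalars ι F).subgroupOf P)
  nonabelian : ¬ IsMulCommutative (P ⧸ (Geo.scalars ι F).subgroupOf P)
  centralizer_scalar : ∀ h ∈ H, (∀ x ∈ P, h * x * h⁻¹ * x⁻¹ ∈ Geo.scalars ι F) → h ∈ Geo.scalars ι F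
  absIrred : Geo.ActsAbsolutelyIrreducibly (Geo.matrixSet P)
  span_eq : Submodule.span F (Geo.matrixSet P) = ⊤

theorem IsCore.residualCore {H P : Subgroup (GL ι F)} (h : IsCore H P)
    (hsub : ∀ F₀ : Subfield F, F₀ ≠ ⊤ → ¬ Geo.RealisableOver F₀ (Geo.matrixSet P)) :
    Geo.IsResidualCore H P :=
  ⟨h.le, h.normal, h.perfect, h.simple, h.nonabelian, h.centralizer_scalar, h.absIrred, hsub⟩

theorem NormBy.commutator {H N : Subgroup (GL ι F)} (hN : NormBy H N) : NormBy H ⁅N, N⁆ := by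
  intro h hh x hx
  rw [Subgroup.commutator_def] at hx
  induction hx using Subgroup.closure_induction with
  | mem x hx =>
    obtain ⟨a, ha, b, hb, rfl⟩ := hx
    have : h * ⁅a, b⁆ * h⁻¹ = ⁅h * a * h⁻¹, h * b * h⁻¹⁆ := by
      simp [commutatorElement_def, mul_assoc]
    rw [this]
    exact Subgroup.commutator_mem_commutator (hN h hh a ha) (hN h hh b hb)
  | one => simp
  | mul a b _ _ ha hb =>
    have : h * (a * b) * h⁻¹ = (h * a * h⁻¹) * (h * b * h⁻¹) := by simp [mul_assoc]
    rw [this]; exact mul_mem ha hb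
  | inv a _ ha =>
    have : h * a⁻¹ * h⁻¹ = (h * a * h⁻¹)⁻¹ := by simp [mul_assoc]
    rw [this]; exact inv_mem ha

theorem commutator_le_self (N : Subgroup (GL ι F)) : ⁅N, N⁆ ≤ N :=
  (Subgroup.commutator_le).mpr fun _ ha _ hb =>
    mul_mem (mul_mem (mul_mem ha hb) (inv_mem ha)) (inv_mem hb)

theorem normal_of_le_scalars {Z : Subgroup (GL ι F)} (hZ : Z ≤ Geo.scalars ι F) : Z.Normal := by
  refine ⟨fun z hz g => ?_⟩
  have h1 : g * z * g⁻¹ = z := by
    rw [scalars_central (hZ hz) g]; group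
  rw [h1]
  exact hz

theorem conj_mul_scalar {z : GL ι F} (hz : z ∈ Geo.scalars ι F) (h m : GL ι F) :
    h * (m * z) * h⁻¹ = h * m * h⁻¹ * z := by
  calc h * (m * z) * h⁻¹ = h * m * (z * h⁻¹) := by group
    _ = h * m * (h⁻¹ * z) := by rw [scalars_central hz h⁻¹]
    _ = h * m * h⁻¹ * z := by group

theorem commutator_mul_scalar {z w : GL ι F} (hz : z ∈ Geo.scalars ι F) (hw : w ∈ Geo.scalars ι F)
    (a b : GL ι F) : ⁅a * z, b * w⁆ = ⁅a, b⁆ := by
  have hzw : z * w = w * z := (scalars_central hz w).symm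
  have h1 : a * z * (b * w) = a * b * (z * w) := by
    calc a * z * (b * w) = a * (z * b) * w := by group
      _ = a * (b * z) * w := by rw [scalars_central hz b]
      _ = a * b * (z * w) := by group
  have h2 : b * w * (a * z) = b * a * (z * w) := by
    calc b * w * (a * z) = b * (w * a) * z := by group
      _ = b * (a * w) * z := by rw [scalars_central hw a]
      _ = b * a * (w * z) := by group
      _ = b * a * (z * w) := by rw [hzw]
  calc ⁅a * z, b * w⁆ = (a * z * (b * w)) * (b * w * (a * z))⁻¹ := by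
        rw [commutatorElement_def]; group
    _ = (a * b * (z * w)) * (b * a * (z * w))⁻¹ := by rw [h1, h2]
    _ = ⁅a, b⁆ := by rw [commutatorElement_def]; group

/-- An element centralising a perfect group modulo scalars centralises it. -/
theorem commute_of_perfect {D : Subgroup (GL ι F)} (hD : ⁅D, D⁆ = D) {h : GL ι F}
    (hh : ∀ x ∈ D, ⁅h, x⁆ ∈ Geo.scalars ι F) : ∀ x ∈ D, h * x = x * h := by
  intro x hx
  rw [← hD, Subgroup.commutator_def] at hx
  induction hx using Subgroup.closure_induction with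
  | mem x hx =>
    obtain ⟨a, ha, b, hb, rfl⟩ := hx
    have e1 : h * a * h⁻¹ = a * ⁅h, a⁆ := by
      rw [scalars_central (hh a ha) a, commutatorElement_def]; group
    have e2 : h * b * h⁻¹ = b * ⁅h, b⁆ := by
      rw [scalars_central (hh b hb) b, commutatorElement_def]; group
    have e3 : h * ⁅a, b⁆ * h⁻¹ = ⁅a, b⁆ := by
      calc h * ⁅a, b⁆ * h⁻¹ = ⁅h * a * h⁻¹, h * b * h⁻¹⁆ := by simp [commutatorElement_def, mul_assoc]
        _ = ⁅a * ⁅h, a⁆, b * ⁅h, b⁆⁆ := by rw [e1, e2]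
        _ = ⁅a, b⁆ := commutator_mul_scalar (hh a ha) (hh b hb) a b
    calc h * ⁅a, b⁆ = h * ⁅a, b⁆ * h⁻¹ * h := by simp [mul_assoc]
      _ = ⁅a, b⁆ * h := by rw [e3]
  | one => simp
  | mul a b _ _ ha hb => rw [← mul_assoc, ha, mul_assoc, hb, mul_assoc]
  | inv a _ ha => exact (Commute.inv_right (show Commute h a from ha)).eq

theorem mem_scalars_of_centralizes [Nonempty ι] {P : Subgroup (GL ι F)}
    (hP : Geo.ActsAbsolutelyIrreducibly (Geo.matrixSet P)) {h : GL ι F} (hc : ∀ x ∈ P, h * x = x * h) :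
    h ∈ Geo.scalars ι F := by
  obtain ⟨c, hc'⟩ := hP.2 (h : Matrix ι ι F) (by rintro _ ⟨x, hx, rfl⟩; exact congrArg Units.val (hc x hx))
  exact smul_one_mem_scalars hc'

theorem det_eq_one_of_mem {H : Subgroup (GL ι F)} (hSL : H ≤ Geo.specialLinear ι F) {x : GL ι F}
    (hx : x ∈ H) : (x : Matrix ι ι F).det = 1 :=
  congrArg Units.val (MonoidHom.mem_ker.mp (hSL hx))

/-- A non-abelian normalised subgroup with scalar commutators is extraspecial of order `n³`. -/
theorem extraspecial_of_class_two [Finite F] (hn : (Fintype.card ι).Prime) (hodd : Odd (Fintype.card ι))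
    {H N : Subgroup (GL ι F)} (hSL : H ≤ Geo.specialLinear ι F) (hle : N ≤ H) (hnorm : NormBy H N)
    (hcomm : ∀ x ∈ N, ∀ y ∈ N, ⁅x, y⁆ ∈ Geo.scalars ι F)
    (habel : ∀ A ≤ H, NormBy H A → (∀ x ∈ A, ∀ y ∈ A, x * y = y * x) → A ≤ Geo.scalars ι F)
    (hns : ∃ x ∈ N, x ∉ Geo.scalars ι F) : IsExtraspecialData H N := by
  classical
  have : Nonempty ι := Fintype.card_pos_iff.mp hn.pos
  set n := Fintype.card ι with hndef
  have hn0 : 0 < n := hn.pos
  have hdet : ∀ x ∈ N, (x : Matrix ι ι F).det = 1 := fun x hx => det_eq_one_of_mem hSL (hle hx)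
  have hc : ∀ x ∈ N, ∀ y ∈ N, ∃ c : F, c ^ n = 1 ∧
      (x : Matrix ι ι F) * y = c • ((y : Matrix ι ι F) * (x : Matrix ι ι F)) := by
    intro x hx y hy
    obtain ⟨c, hc⟩ := (Geo.mem_scalars_iff _).mp (hcomm x hx y hy)
    have h1 : (x : Matrix ι ι F) * y = (c : F) • ((y : Matrix ι ι F) * (x : Matrix ι ι F)) := by
      have : x * y = ⁅x, y⁆ * (y * x) := by simp [commutatorElement_def, mul_assoc]
      have := congrArg Units.val this
      simpa [hc] using this
    refine ⟨c, ?_, h1⟩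
    have := congrArg Matrix.det h1
    rw [Matrix.det_smul, Matrix.det_mul, Matrix.det_mul, hdet x hx, hdet y hy, mul_one] at this
    simpa using this.symm
  let C : Subgroup (GL ι F) := N ⊓ Subgroup.centralizer (N : Set (GL ι F))
  have hCnorm : NormBy H C := by
    intro h hh x hx
    refine Subgroup.mem_inf.mpr ⟨hnorm h hh x hx.1, Subgroup.mem_centralizer_iff.mpr fun y hy => ?_⟩
    have h1 := hnorm h⁻¹ (inv_mem hh) y hy
    rw [inv_inv] at h1
    have h2 := Subgroup.mem_centralizer_iff.mp hx.2 _ h1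
    calc y * (h * x * h⁻¹) = h * ((h⁻¹ * y * h) * x) * h⁻¹ := by simp [mul_assoc]
      _ = h * (x * (h⁻¹ * y * h)) * h⁻¹ := by rw [h2]
      _ = h * x * h⁻¹ * y := by simp [mul_assoc]
  have hcenter : ∀ x ∈ N, (∀ y ∈ N, x * y = y * x) → x ∈ Geo.scalars ι F := by
    intro x hx hxc
    refine habel C (inf_le_left.trans hle) hCnorm
      (fun a ha b hb => (Subgroup.mem_centralizer_iff.mp ha.2 b hb.1).symm) ?_
    exact Subgroup.mem_inf.mpr ⟨hx, Subgroup.mem_centralizer_iff.mpr fun y hy => (hxc y hy).symm⟩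
  have hscal : ∀ x ∈ N, x ∈ Geo.scalars ι F → ∃ c : F, c ^ n = 1 ∧ (x : Matrix ι ι F) = c • 1 := by
    intro x hx hxs
    obtain ⟨c, hc⟩ := (Geo.mem_scalars_iff _).mp hxs
    refine ⟨c, ?_, hc⟩
    have := hdet x hx
    rw [hc, Matrix.det_smul, Matrix.det_one, mul_one] at this
    exact this
  have hnonc : ∀ x ∈ N, x ∉ Geo.scalars ι F → ∃ y ∈ N, ∃ c : F, IsPrimitiveRoot c n ∧
      (x : Matrix ι ι F) * y = c • ((y : Matrix ι ι F) * (x : Matrix ι ι F)) := by
    intro x hx hxs
    by_contra hcon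
    refine hxs (hcenter x hx fun y hy => ?_)
    obtain ⟨c, hc1, hc2⟩ := hc x hx y hy
    by_cases h : c = 1
    · rw [h, one_smul] at hc2
      exact Units.ext hc2
    · refine absurd ⟨y, hy, c, ?_, hc2⟩ hcon
      have := IsPrimitiveRoot.orderOf c
      rwa [orderOf_eq_prime (hp := ⟨hn⟩) hc1 h] at this
  obtain ⟨x₀, hx₀, hx₀s⟩ := hns
  obtain ⟨y₀, hy₀, ζ, hζ, hxy₀⟩ := hnonc x₀ hx₀ hx₀s
  have hz₀ : ((⁅x₀, y₀⁆ : GL ι F) : Matrix ι ι F) = ζ • 1 := by
    rw [commutatorElement_def, mul_assoc, ← _root_.mul_inv_rev, Units.val_mul, Units.val_mul, hxy₀,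
      Matrix.smul_mul, ← Units.val_mul, ← Units.val_mul, mul_inv_cancel, Units.val_one]
  have hz₀N : ⁅x₀, y₀⁆ ∈ N := commutator_le_self N (Subgroup.commutator_mem_commutator hx₀ hy₀)
  have hind : ∀ x ∈ N, x ∉ Geo.scalars ι F → LinearIndependent F fun i : Fin n => (x : Matrix ι ι F) ^ (i : ℕ) := by
    intro x hx hxs
    obtain ⟨y, hy, c, hcp, hxy⟩ := hnonc x hx hxs
    refine Module.End.eigenvectors_linearIndependent' (cj y).toLinearMap (fun i : Fin n => (c⁻¹) ^ (i : ℕ))
      ?_ _ fun i => ?_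
    · intro i j hij
      exact Fin.ext (IsPrimitiveRoot.pow_inj hcp.inv i.isLt j.isLt hij)
    · have hc0 : c ≠ 0 := hcp.ne_zero hn.ne_zero
      have h1 : cj y (x : Matrix ι ι F) = c⁻¹ • (x : Matrix ι ι F) := by
        have : (y : Matrix ι ι F) * x = c⁻¹ • ((x : Matrix ι ι F) * (y : Matrix ι ι F)) := by
          rw [hxy, smul_smul, inv_mul_cancel₀ hc0, one_smul]
        rw [cj_apply, this, Matrix.smul_mul, mul_assoc, ← Units.val_mul, mul_inv_cancel, Units.val_one, mul_one]
      refine Module.End.hasEigenvector_iff.mpr ⟨?_, ?_⟩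
      · rw [Module.End.mem_eigenspace_iff]
        show cj y ((x : Matrix ι ι F) ^ (i : ℕ)) = _
        rw [map_pow, h1, smul_pow]
      · rw [← Units.val_pow_eq_pow_val]; exact Units.ne_zero _
  have hpow : ∀ x ∈ N, (x : Matrix ι ι F) ^ n = 1 := by
    intro x hx
    by_cases hxs : x ∈ Geo.scalars ι F
    · obtain ⟨c, hc1, hc2⟩ := hscal x hx hxs
      rw [hc2, smul_pow, one_pow, hc1, one_smul]
    have hcen : x ^ n ∈ Geo.scalars ι F := by
      refine hcenter _ (pow_mem hx n) fun y hy => Units.ext ?_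
      obtain ⟨c, hc1, hc2⟩ := hc x hx y hy
      have : ∀ k : ℕ, (x : Matrix ι ι F) ^ k * y = c ^ k • ((y : Matrix ι ι F) * (x : Matrix ι ι F) ^ k) := by
        intro k
        induction k with
        | zero => simp
        | succ k ih =>
          rw [pow_succ, mul_assoc, hc2, Matrix.mul_smul, ← mul_assoc, ih, Matrix.smul_mul, smul_smul,
            mul_assoc, pow_succ c, mul_comm (c ^ k) c]
      rw [Units.val_mul, Units.val_mul, Units.val_pow_eq_pow_val, this n, hc1, one_smul]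
    obtain ⟨c₀, hc₀⟩ := (Geo.mem_scalars_iff _).mp hcen
    rw [Units.val_pow_eq_pow_val] at hc₀
    set X : Matrix ι ι F := (x : Matrix ι ι F) with hX
    have hq : X.charpoly = Polynomial.X ^ n - Polynomial.C (c₀ : F) := by
      set q := X.charpoly - (Polynomial.X ^ n - Polynomial.C (c₀ : F)) with hqdef
      have hdeg : q.degree < n := by
        have h1 : X.charpoly.degree = (Polynomial.X ^ n - Polynomial.C (c₀ : F)).degree := by
          rw [Matrix.charpoly_degree_eq_dim, Polynomial.degree_X_pow_sub_C hn0]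
        have h2 := Polynomial.degree_sub_lt_left h1 X.charpoly_monic.ne_zero (by
          rw [X.charpoly_monic.leadingCoeff, (Polynomial.monic_X_pow_sub_C _ hn.ne_zero).leadingCoeff])
        rwa [Matrix.charpoly_degree_eq_dim] at h2
      have hae : Polynomial.aeval X q = 0 := by
        rw [hqdef, map_sub, Matrix.aeval_self_charpoly, map_sub, map_pow, Polynomial.aeval_X,
          Polynomial.aeval_C, hc₀, Algebra.algebraMap_eq_smul_one, sub_self, sub_zero]
      by_contra hne
      have hq0 : q ≠ 0 := sub_ne_zero.mpr hne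
      have hnat : q.natDegree < n := (Polynomial.natDegree_lt_iff_degree_lt hq0).mpr hdeg
      rw [Polynomial.aeval_eq_sum_range' hnat, ← Fin.sum_univ_eq_sum_range (fun i => q.coeff i • X ^ i) n] at hae
      have hz := Fintype.linearIndependent_iff.mp (hind x hx hxs) _ hae
      refine hq0 (Polynomial.ext fun k => ?_)
      by_cases hk : k < n
      · simpa using hz ⟨k, hk⟩
      · rw [Polynomial.coeff_zero, Polynomial.coeff_eq_zero_of_natDegree_lt (by omega)]
    have hdx := hdet x hx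
    rw [← hX, Matrix.det_eq_sign_charpoly_coeff, hq, ← hndef] at hdx
    rw [Polynomial.coeff_sub, Polynomial.coeff_X_pow, Polynomial.coeff_C_zero, if_neg (Ne.symm hn.ne_zero),
      hodd.neg_one_pow] at hdx
    have : (c₀ : F) = 1 := by simpa using hdx
    rw [hc₀, this, one_smul]
  have hpow' : ∀ x : N, x ^ n = 1 := fun x => Subtype.ext (Units.ext (by
    simpa [Units.val_pow_eq_pow_val] using hpow x x.2))
  have hcen_iff : ∀ x : N, x ∈ Subgroup.center N ↔ (x : GL ι F) ∈ Geo.scalars ι F := by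
    intro x
    rw [Subgroup.mem_center_iff]
    constructor
    · intro h
      exact hcenter _ x.2 fun y hy => (congrArg Subtype.val (h ⟨y, hy⟩)).symm
    · intro h y
      exact Subtype.ext (scalars_central h _)
  let z₀ : N := ⟨⁅x₀, y₀⁆, hz₀N⟩
  have hz₀pow : ∀ k : ℕ, (((z₀ ^ k : N) : GL ι F) : Matrix ι ι F) = ζ ^ k • 1 := by
    intro k
    show (((⁅x₀, y₀⁆ : GL ι F) ^ k : GL ι F) : Matrix ι ι F) = _
    rw [Units.val_pow_eq_pow_val, hz₀, smul_pow, one_pow]
  have hsinj : ∀ a b : F, a • (1 : Matrix ι ι F) = b • 1 → a = b := by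
    intro a b h
    obtain ⟨i⟩ := ‹Nonempty ι›
    simpa using congrFun (congrFun h i) i
  have horder : orderOf z₀ = n := by
    refine orderOf_eq_prime (hp := ⟨hn⟩) (hpow' z₀) fun h => ?_
    have := hz₀pow 1
    rw [pow_one, h, pow_one] at this
    refine hζ.ne_one hn.one_lt (hsinj _ _ ?_)
    rw [← this, one_smul]; rfl
  have hcenter_eq : Subgroup.center N = Subgroup.zpowers z₀ := by
    refine le_antisymm (fun x hx => ?_) ?_
    · obtain ⟨c, hc1, hc2⟩ := hscal _ x.2 ((hcen_iff x).mp hx)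
      have : NeZero n := ⟨hn.ne_zero⟩
      obtain ⟨i, _, hi⟩ := hζ.eq_pow_of_pow_eq_one hc1
      refine ⟨i, Subtype.ext (Units.ext ?_)⟩
      simp only [zpow_natCast]
      rw [hz₀pow, hi, hc2]
    · rw [Subgroup.zpowers_le, hcen_iff]
      exact smul_one_mem_scalars hz₀
  have hcardZ : Nat.card (Subgroup.center N) = n := by
    rw [hcenter_eq, Nat.card_zpowers, horder]
  have : Finite (Matrix ι ι F) := inferInstanceAs (Finite (ι → ι → F))
  have : Finite (GL ι F) := Finite.of_injective Units.val Units.val_injective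
  have : Fintype (N ⧸ Subgroup.center N) := Fintype.ofFinite _
  let s : N ⧸ Subgroup.center N → N := Quotient.out
  have hs : ∀ q, (s q : N ⧸ Subgroup.center N) = q := fun q => QuotientGroup.out_eq' q
  have hsind : LinearIndependent F fun q => ((s q : GL ι F) : Matrix ι ι F) := by
    choose χ hχ1 hχ using fun (x y : N) => hc (x : GL ι F) x.2 (y : GL ι F) y.2
    have hcj' : ∀ x y : N, cj (x : GL ι F) ((y : GL ι F) : Matrix ι ι F) = χ x y • ((y : GL ι F) : Matrix ι ι F) := by
      intro x y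
      rw [cj_apply, hχ x y, Matrix.smul_mul, mul_assoc, ← Units.val_mul, mul_inv_cancel, Units.val_one, mul_one]
    have huniq : ∀ (a b : F) (y : N), a • ((y : GL ι F) : Matrix ι ι F) = b • ((y : GL ι F) : Matrix ι ι F) → a = b :=
      fun a b y h => by
        refine hsinj a b ?_
        have := congrArg (fun M => M * (((y : GL ι F)⁻¹ : GL ι F) : Matrix ι ι F)) h
        simpa [Matrix.smul_mul] using this
    let ψ : N ⧸ Subgroup.center N → N →* F := fun q =>
      { toFun := fun y => χ y (s q)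
        map_one' := huniq _ _ (s q) (by rw [← hcj', one_smul]; simp [cj_apply])
        map_mul' := fun y y' => huniq _ _ (s q) (by
          rw [← hcj', Subgroup.coe_mul, ← cj_cj, hcj', map_smul, hcj', smul_smul, mul_comm]) }
    have hψinj : Function.Injective ψ := by
      intro q q' hqq
      rw [← hs q, ← hs q']
      refine QuotientGroup.eq.mpr ((hcen_iff _).mpr (hcenter _ ((s q)⁻¹ * s q').2 fun y hy => ?_))
      have hq : χ ⟨y, hy⟩ (s q) = χ ⟨y, hy⟩ (s q') := DFunLike.congr_fun hqq ⟨y, hy⟩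
      apply Units.ext
      have hc0 : χ ⟨y, hy⟩ (s q) ≠ 0 := fun h0 => by
        have := hχ1 ⟨y, hy⟩ (s q)
        rw [h0, zero_pow hn.ne_zero] at this
        exact zero_ne_one this
      have h3 : cj y ((((s q)⁻¹ * s q' : N) : GL ι F) : Matrix ι ι F)
          = ((((s q)⁻¹ * s q' : N) : GL ι F) : Matrix ι ι F) := by
        set A : Matrix ι ι F := ((s q : GL ι F) : Matrix ι ι F) with hA
        set D : Matrix ι ι F := ((((s q)⁻¹ * s q' : N) : GL ι F) : Matrix ι ι F) with hD
        have hAD : A * D = ((s q' : GL ι F) : Matrix ι ι F) := by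
          rw [hA, hD, Subgroup.coe_mul, Subgroup.coe_inv, ← Units.val_mul, mul_inv_cancel_left]
        have hAy : cj y A = χ ⟨y, hy⟩ (s q) • A := hcj' ⟨y, hy⟩ (s q)
        have h4 := congrArg (cj y) hAD
        rw [map_mul, hAy, hcj' ⟨y, hy⟩ (s q'), ← hq, Matrix.smul_mul] at h4
        have h5 := smul_right_injective _ hc0 h4
        refine (s q : GL ι F).isUnit.mul_left_cancel ?_
        rw [← hA, hAD]
        exact h5
      exact ((cj_eq_self_iff _ _).mp h3).symm
    rw [Fintype.linearIndependent_iff]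
    intro a ha q
    have hAB : ∀ i j, a q * ((s q : GL ι F) : Matrix ι ι F) i j = 0 := by
      intro i j
      have hl := (linearIndependent_monoidHom N F).comp ψ hψinj
      refine Fintype.linearIndependent_iff.mp hl (fun r => a r * ((s r : GL ι F) : Matrix ι ι F) i j) ?_ q
      funext y
      simp only [Finset.sum_apply, Pi.smul_apply, Function.comp_apply, smul_eq_mul, Pi.zero_apply]
      have h2 := congrFun (congrFun (congrArg (cj (y : GL ι F)) ha) i) j
      simp only [map_sum, map_smul, map_zero, hcj', Matrix.sum_apply, Matrix.smul_apply, smul_eq_mul,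
        Matrix.zero_apply] at h2
      rw [← h2]
      refine Finset.sum_congr rfl fun r _ => ?_
      show a r * _ * χ y (s r) = _
      ring
    by_contra hq
    refine (s q : GL ι F).ne_zero (Matrix.ext fun i j => ?_)
    exact (mul_eq_zero.mp (hAB i j)).resolve_left hq
  have hquot : Nat.card (N ⧸ Subgroup.center N) ≤ n * n := by
    rw [Nat.card_eq_fintype_card]
    refine hsind.fintype_card_le_finrank.trans_eq ?_
    simp [Module.finrank_matrix, hndef]
  have hp : IsPGroup n N := fun g => ⟨1, by rw [pow_one]; exact hpow' g⟩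
  have : Fact n.Prime := ⟨hn⟩
  obtain ⟨j, hj⟩ := IsPGroup.iff_card.mp (hp.to_quotient (Subgroup.center N))
  have hnab : ¬ ∀ a b : N, a * b = b * a := by
    intro h
    refine hx₀s (hcenter x₀ hx₀ fun y hy => congrArg Subtype.val (h ⟨x₀, hx₀⟩ ⟨y, hy⟩))
  have hj2 : j = 2 := by
    have h1 : j ≤ 2 := by
      rw [hj, ← pow_two] at hquot
      exact (Nat.pow_le_pow_iff_right hn.one_lt).mp hquot
    have h2 : ¬ IsCyclic (N ⧸ Subgroup.center N) := fun _ => hnab
      (commutative_of_cyclic_center_quotient (QuotientGroup.mk' (Subgroup.center N))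
        (by rw [QuotientGroup.ker_mk']))
    interval_cases j
    · rw [pow_zero] at hj
      have : Subsingleton (N ⧸ Subgroup.center N) := (Nat.card_eq_one_iff_unique.mp hj).1
      exact absurd isCyclic_of_subsingleton h2
    · rw [pow_one] at hj
      exact absurd (isCyclic_of_prime_card hj) h2
    · rfl
  have hcard : Nat.card N = n ^ 3 := by
    rw [Subgroup.card_eq_card_quotient_mul_card_subgroup (Subgroup.center N), hj, hcardZ, hj2]
    ring
  have hspan : Submodule.span F (Geo.matrixSet N) = ⊤ := by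
    rw [eq_top_iff, ← hsind.span_eq_top_of_card_eq_finrank' (by
      rw [← Nat.card_eq_fintype_card, hj, hj2, Module.finrank_matrix, Module.finrank_self, mul_one, ← hndef,
        pow_two])]
    refine Submodule.span_mono ?_
    rintro _ ⟨q, rfl⟩
    exact mem_matrixSet (s q).2
  have habs : Geo.ActsAbsolutelyIrreducibly (Geo.matrixSet N) := by
    refine ⟨fun W hW => ?_, fun M hM => ?_⟩
    · by_cases hb : W = ⊥
      · exact Or.inl hb
      right
      obtain ⟨w, hw, hw0⟩ := Submodule.exists_mem_ne_zero_of_ne_bot hb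
      have hall : ∀ X : Matrix ι ι F, X *ᵥ w ∈ W := by
        intro X
        have hX : X ∈ Submodule.span F (Geo.matrixSet N) := by rw [hspan]; trivial
        induction hX using Submodule.span_induction with
        | mem x hx => exact (mapsTo_iff_mulVec x W).mp (hW x hx) w hw
        | zero => simp
        | add p q _ _ hp hq => rw [Matrix.add_mulVec]; exact W.add_mem hp hq
        | smul r p _ hp => rw [Matrix.smul_mulVec]; exact W.smul_mem r hp
      obtain ⟨k, hk⟩ : ∃ k, w k ≠ 0 := by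
        by_contra hcon
        simp only [not_exists, not_not] at hcon
        exact hw0 (funext hcon)
      refine eq_top_iff.mpr fun v _ => ?_
      have := hall (Matrix.vecMulVec v (Pi.single k ((w k)⁻¹)))
      rwa [Matrix.vecMulVec_mulVec, single_dotProduct, inv_mul_cancel₀ hk, MulOpposite.op_one, one_smul] at this
    · have hall : ∀ X : Matrix ι ι F, M * X = X * M := by
        intro X
        have hX : X ∈ Submodule.span F (Geo.matrixSet N) := by rw [hspan]; trivial
        induction hX using Submodule.span_induction with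
        | mem x hx => exact hM x hx
        | zero => simp
        | add p q _ _ hp hq => rw [mul_add, add_mul, hp, hq]
        | smul r p _ hp => rw [Matrix.mul_smul, Matrix.smul_mul, hp]
      obtain ⟨c, hc⟩ := Matrix.mem_range_scalar_of_commute_single (M := M) (fun i j _ => (hall _).symm)
      exact ⟨c, by rw [← hc, Matrix.smul_one_eq_diagonal]; rfl⟩
  refine ⟨hle, hnorm, ⟨hn, hp, ?_, ?_⟩, hcard, hcardZ, habs, hspan, ⟨ζ, hζ, _, hz₀N, hz₀⟩, ?_⟩
  · intro A hA hAc
    have hle' : A ≤ Subgroup.center N := by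
      intro a ha
      refine (hcen_iff a).mpr (habel (A.map N.subtype) ?_ ?_ ?_ ⟨a, ha, rfl⟩)
      · rintro _ ⟨b, _, rfl⟩; exact hle b.2
      · rintro h hh _ ⟨b, hb, rfl⟩
        let φ : N ≃* N :=
          { toFun := fun y => ⟨h * y * h⁻¹, hnorm h hh y y.2⟩
            invFun := fun y => ⟨h⁻¹ * y * h, by simpa using hnorm h⁻¹ (inv_mem hh) y y.2⟩
            left_inv := fun y => Subtype.ext (by simp [mul_assoc])
            right_inv := fun y => Subtype.ext (by simp [mul_assoc])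
            map_mul' := fun y y' => Subtype.ext (by simp [mul_assoc]) }
        refine ⟨φ b, ?_, rfl⟩
        have := (Subgroup.characteristic_iff_map_eq.mp hA) φ
        rw [← this]
        exact ⟨b, hb, rfl⟩
      · rintro _ ⟨b, hb, rfl⟩ _ ⟨b', hb', rfl⟩
        exact congrArg Subtype.val (congrArg Subtype.val (hAc.is_comm.comm (⟨b, hb⟩ : A) ⟨b', hb'⟩))
    haveI : IsCyclic (Subgroup.center N) := isCyclic_of_prime_card hcardZ
    exact isCyclic_of_injective (Subgroup.inclusion hle') (Subgroup.inclusion_injective hle')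
  · rw [show Nat.gcd 2 n = 1 from Nat.coprime_two_left.mpr hodd, mul_one]
    rcases (Nat.dvd_prime hn).mp (Monoid.exponent_dvd_of_forall_pow_eq_one hpow') with h | h
    · exfalso
      have : Subsingleton N := Monoid.exp_eq_one_iff.mp h
      have := horder
      rw [Subsingleton.elim z₀ 1, orderOf_one] at this
      exact hn.one_lt.ne this
    · exact h
  · intro x hx
    by_cases hxs : x ∈ Geo.scalars ι F
    · exact Or.inr (hscal x hx hxs)
    left
    obtain ⟨y, hy, c, hcp, hxy⟩ := hnonc x hx hxs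
    have h1 : ((y⁻¹ : GL ι F) : Matrix ι ι F) * ((x : Matrix ι ι F) * y) = c • (x : Matrix ι ι F) := by
      rw [hxy, Matrix.mul_smul, ← mul_assoc, ← Units.val_mul, inv_mul_cancel, Units.val_one, one_mul]
    have h2 := congrArg Matrix.trace h1
    rw [← mul_assoc, Matrix.trace_mul_cycle, ← Units.val_mul, mul_inv_cancel, Units.val_one, one_mul,
      Matrix.trace_smul, smul_eq_mul] at h2
    rcases mul_eq_zero.mp (show (c - 1) * (x : Matrix ι ι F).trace = 0 by rw [sub_mul, one_mul, ← h2, sub_self]) with h | h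
    · exact absurd (sub_eq_zero.mp h) (hcp.ne_one hn.one_lt)
    · exact h

/-- Pairwise scalar commutators of generators give scalar commutators. -/
theorem commutator_closure_scalar {S : Set (GL ι F)}
    (h : ∀ a ∈ S, ∀ b ∈ S, ⁅a, b⁆ ∈ Geo.scalars ι F) :
    ∀ a ∈ Subgroup.closure S, ∀ b ∈ Subgroup.closure S, ⁅a, b⁆ ∈ Geo.scalars ι F := by
  let q := QuotientGroup.mk' (Geo.scalars ι F)
  have key : ∀ a b : GL ι F, ⁅a, b⁆ ∈ Geo.scalars ι F ↔ Commute (q a) (q b) := by
    intro a b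
    rw [← commutatorElement_eq_one_iff_commute, ← map_commutatorElement]
    exact (QuotientGroup.eq_one_iff _).symm
  intro a ha b hb
  rw [key]
  induction hb using Subgroup.closure_induction with
  | mem y hy =>
    induction ha using Subgroup.closure_induction with
    | mem x hx => exact (key x y).mp (h x hx y hy)
    | one => rw [map_one]; exact Commute.one_left _
    | mul u v _ _ hu hv => rw [map_mul]; exact hu.mul_left hv
    | inv u _ hu => rw [map_inv]; exact hu.inv_left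
  | one => rw [map_one]; exact Commute.one_right _
  | mul u v _ _ hu hv => rw [map_mul]; exact hu.mul_right hv
  | inv u _ hu => rw [map_inv]; exact hu.inv_right

/-- Simplicity of `P/(S ∩ P)` from the absence of intermediate normal subgroups. -/
theorem isSimpleGroup_quotient {G : Type*} [Group G] (P S : Subgroup G) [S.Normal]
    (hPns : ∃ x ∈ P, x ∉ S)
    (hP : ∀ L : Subgroup G, L ≤ P → (∀ g ∈ P, ∀ x ∈ L, g * x * g⁻¹ ∈ L) → P ⊓ S ≤ L →
      (∃ x ∈ L, x ∉ S) → P ≤ L) :
    IsSimpleGroup (P ⧸ S.subgroupOf P) := by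
  have : Nontrivial (P ⧸ S.subgroupOf P) := by
    obtain ⟨x, hx, hxs⟩ := hPns
    exact ⟨⟨QuotientGroup.mk (⟨x, hx⟩ : P), 1, fun h => hxs ((QuotientGroup.eq_one_iff (⟨x, hx⟩ : P)).mp h)⟩⟩
  refine ⟨fun K hK => ?_⟩
  by_cases hLS : (K.comap (QuotientGroup.mk' (S.subgroupOf P))).map P.subtype ≤ S
  · left
    rw [eq_bot_iff]
    intro k hk
    obtain ⟨p, rfl⟩ := QuotientGroup.mk'_surjective _ k
    exact Subgroup.mem_bot.mpr ((QuotientGroup.eq_one_iff p).mpr (hLS ⟨p, hk, rfl⟩))
  right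
  have h1 : P ≤ (K.comap (QuotientGroup.mk' (S.subgroupOf P))).map P.subtype := by
    refine hP _ (Subgroup.map_subtype_le _) ?_ ?_ ?_
    · rintro g hg _ ⟨p, hp, rfl⟩
      exact ⟨⟨g, hg⟩ * p * ⟨g, hg⟩⁻¹, (hK.comap _).conj_mem p hp ⟨g, hg⟩, rfl⟩
    · intro x hx
      refine ⟨⟨x, hx.1⟩, ?_, rfl⟩
      show QuotientGroup.mk' _ (⟨x, hx.1⟩ : P) ∈ K
      rw [show QuotientGroup.mk' _ (⟨x, hx.1⟩ : P) = 1 from (QuotientGroup.eq_one_iff _).mpr hx.2]
      exact one_mem K
    · obtain ⟨x, hx, hxs⟩ := SetLike.not_le_iff_exists.mp hLS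
      exact ⟨x, hx, hxs⟩
  rw [eq_top_iff]
  intro k _
  obtain ⟨p, rfl⟩ := QuotientGroup.mk'_surjective _ k
  obtain ⟨p', hp', hpp⟩ := h1 p.2
  rw [← Subtype.ext hpp]
  exact hp'

/-- A simple group quotient by `S` of a perfect `P` is non-abelian. -/
theorem not_comm_quotient {G : Type*} [Group G] (P S : Subgroup G) [S.Normal]
    (hPns : ∃ x ∈ P, x ∉ S) (hperf : ⁅P, P⁆ = P) : ¬ IsMulCommutative (P ⧸ S.subgroupOf P) := by
  intro hcomm
  obtain ⟨x, hx, hxs⟩ := hPns
  have : P ≤ S := by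
    conv_lhs => rw [← hperf]
    rw [Subgroup.commutator_le]
    intro a ha b hb
    have h1 : QuotientGroup.mk' (S.subgroupOf P) ⁅(⟨a, ha⟩ : P), ⟨b, hb⟩⁆ = 1 := by
      rw [map_commutatorElement, commutatorElement_eq_one_iff_commute]
      exact hcomm.is_comm.comm _ _
    exact (QuotientGroup.eq_one_iff (⁅(⟨a, ha⟩ : P), (⟨b, hb⟩ : P)⁆)).mp h1
  exact hxs (this hx)

set_option maxHeartbeats 1200000 in
/-- A subgroup whose commutators generate the core. -/
theorem core_of_not_class_two [Finite F] (hn : (Fintype.card ι).Prime) {H N : Subgroup (GL ι F)}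
    (hirr : Geo.ActsIrreducibly (Geo.matrixSet H)) (hle : N ≤ H) (hnorm : NormBy H N)
    (hmin : ∀ M ≤ N, NormBy H M → Geo.scalars ι F ⊓ H ≤ M → (∃ x ∈ M, x ∉ Geo.scalars ι F) → M = N)
    (habel : ∀ A ≤ H, NormBy H A → (∀ x ∈ A, ∀ y ∈ A, x * y = y * x) → A ≤ Geo.scalars ι F)
    (hZN : Geo.scalars ι F ⊓ H ≤ N)
    (hnc : ∃ x ∈ N, ∃ y ∈ N, ⁅x, y⁆ ∉ Geo.scalars ι F) : ∃ P, IsCore H P := by
  classical
  have : Nonempty ι := Fintype.card_pos_iff.mp hn.pos
  have : Finite (Matrix ι ι F) := inferInstanceAs (Finite (ι → ι → F))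
  have : Finite (GL ι F) := Finite.of_injective Units.val Units.val_injective
  let S := Geo.scalars ι F
  let Z := S ⊓ H
  have hsupNorm : ∀ M, NormBy H M → NormBy H (M ⊔ Z) := by
    intro M hM h hh x hx
    have : Z.Normal := normal_of_le_scalars inf_le_left
    obtain ⟨m, hm, z, hz, rfl⟩ := Subgroup.mem_sup_of_normal_right.mp hx
    have : h * (m * z) * h⁻¹ = (h * m * h⁻¹) * z := conj_mul_scalar hz.1 h m
    rw [this]
    exact mul_mem (Subgroup.mem_sup_left (hM h hh m hm)) (Subgroup.mem_sup_right hz)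
  have hcommsup : ∀ M : Subgroup (GL ι F), ⁅M ⊔ Z, M ⊔ Z⁆ ≤ ⁅M, M⁆ := by
    intro M
    have : Z.Normal := normal_of_le_scalars inf_le_left
    rw [Subgroup.commutator_le]
    intro a ha b hb
    obtain ⟨m, hm, z, hz, rfl⟩ := Subgroup.mem_sup_of_normal_right.mp ha
    obtain ⟨m', hm', z', hz', rfl⟩ := Subgroup.mem_sup_of_normal_right.mp hb
    have h1 : ⁅m * z, m' * z'⁆ = ⁅m, m'⁆ := commutator_mul_scalar hz.1 hz'.1 m m'
    rw [h1]
    exact Subgroup.commutator_mem_commutator hm hm'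
  set P := ⁅N, N⁆ with hP
  have hPle : P ≤ N := commutator_le_self N
  have hPnorm : NormBy H P := hnorm.commutator
  obtain ⟨x₁, hx₁, y₁, hy₁, hxy₁⟩ := hnc
  have hPns : ∃ x ∈ P, x ∉ S := ⟨_, Subgroup.commutator_mem_commutator hx₁ hy₁, hxy₁⟩
  have hPN : P ⊔ Z = N := hmin _ (sup_le hPle hZN) (hsupNorm P hPnorm) le_sup_right
    (let ⟨x, hx, hxs⟩ := hPns; ⟨x, Subgroup.mem_sup_left hx, hxs⟩)
  have hperf : ⁅P, P⁆ = P := by
    refine le_antisymm (commutator_le_self P) ?_
    conv_lhs => rw [hP, ← hPN]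
    exact hcommsup P
  have hirrOf : ∀ {G D : Subgroup (GL ι F)}, Geo.ActsIrreducibly (Geo.matrixSet G) → NormBy G D →
      ⁅D, D⁆ = D → (∃ x ∈ D, x ∉ S) → Geo.ActsAbsolutelyIrreducibly (Geo.matrixSet D) := by
    intro G D hG hGD hD hDs
    obtain ⟨x, hx, hxs⟩ := hDs
    have hnab : ∃ a ∈ D, ∃ b ∈ D, a * b ≠ b * a := by
      by_contra hc
      have : D ≤ ⊥ := by
        conv_lhs => rw [← hD]
        rw [Subgroup.commutator_le]
        intro a ha b hb
        rw [Subgroup.mem_bot, commutatorElement_eq_one_iff_commute]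
        by_contra h
        exact hc ⟨a, ha, b, hb, h⟩
      exact hxs (by rw [Subgroup.mem_bot.mp (this hx)]; exact one_mem S)
    refine absIrred_of_irreducible hn ?_ hnab
    by_contra hred
    obtain ⟨a, ha, b, hb, hab⟩ := hnab
    exact hab (commute_of_not_irreducible hn hG hGD hred a ha b hb)
  have habsP := hirrOf hirr hPnorm hperf hPns
  let 𝒮 : Set (Subgroup (GL ι F)) := {M | M ≤ P ∧ NormBy P M ∧ P ⊓ S ≤ M ∧ ∃ x ∈ M, x ∉ S}
  have hP𝒮 : P ∈ 𝒮 := ⟨le_rfl, fun h hh x hx => mul_mem (mul_mem hh hx) (inv_mem hh), inf_le_left, hPns⟩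
  have hex : ∃ k, ∃ M ∈ 𝒮, Nat.card M = k := ⟨_, P, hP𝒮, rfl⟩
  obtain ⟨M, hM, hMk⟩ := Nat.find_spec hex
  have heq : ∀ L ∈ 𝒮, L ≤ M → L = M := by
    intro L hL hLM
    exact Subgroup.eq_of_le_of_card_ge hLM (hMk ▸ Nat.find_min' hex ⟨L, hL, rfl⟩)
  have hconj : ∀ h ∈ H, M.map (MulAut.conj h).toMonoidHom ∈ 𝒮 ∧
      (∀ L ∈ 𝒮, L ≤ M.map (MulAut.conj h).toMonoidHom → L = M.map (MulAut.conj h).toMonoidHom) := by
    intro h hh
    refine ⟨⟨?_, ?_, ?_, ?_⟩, ?_⟩
    · rintro _ ⟨m, hm, rfl⟩; exact hPnorm h hh m (hM.1 hm)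
    · rintro g hg _ ⟨m, hm, rfl⟩
      have hg' := hPnorm h⁻¹ (inv_mem hh) g hg
      refine ⟨h⁻¹ * g * h⁻¹⁻¹ * m * (h⁻¹ * g * h⁻¹⁻¹)⁻¹, hM.2.1 _ hg' m hm, ?_⟩
      simp [mul_assoc]
    · intro x hx
      refine ⟨x, hM.2.2.1 hx, ?_⟩
      simp [MulAut.conj_apply, scalars_central hx.2 h]
    · obtain ⟨x, hx, hxs⟩ := hM.2.2.2
      refine ⟨h * x * h⁻¹, ⟨x, hx, rfl⟩, fun hc => hxs ?_⟩
      have := (Geo.scalars_normal (ι := ι) (F := F)).conj_mem _ hc h⁻¹
      simpa [mul_assoc] using this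
    · intro L hL hLM
      refine Subgroup.eq_of_le_of_card_ge hLM ?_
      rw [Subgroup.card_map_of_injective (MulEquiv.injective _), hMk]
      exact Nat.find_min' hex ⟨L, hL, rfl⟩
  have hinterS : ∀ A ∈ 𝒮, ∀ B ∈ 𝒮, (∀ L ∈ 𝒮, L ≤ A → L = A) → (∀ L ∈ 𝒮, L ≤ B → L = B) → A ≠ B →
      ∀ a ∈ A, ∀ b ∈ B, ⁅a, b⁆ ∈ S := by
    intro A hA B hB hA' hB' hne a ha b hb
    by_contra hns
    have hmem : ⁅a, b⁆ ∈ A ⊓ B := by
      refine ⟨?_, ?_⟩
      · rw [commutatorElement_def, mul_assoc a b, mul_assoc a]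
        exact A.mul_mem ha (hA.2.1 b (hB.1 hb) _ (A.inv_mem ha))
      · rw [commutatorElement_def]
        exact B.mul_mem (hB.2.1 a (hA.1 ha) b hb) (B.inv_mem hb)
    have hI : A ⊓ B ∈ 𝒮 := ⟨inf_le_left.trans hA.1,
      fun g hg x hx => ⟨hA.2.1 g hg x hx.1, hB.2.1 g hg x hx.2⟩, le_inf hA.2.2.1 hB.2.2.1, _, hmem, hns⟩
    exact hne ((hA' _ hI inf_le_left).symm.trans (hB' _ hI inf_le_right))
  by_cases hclass : ∀ a ∈ M, ∀ b ∈ M, ⁅a, b⁆ ∈ S
  · exfalso
    let T : Set (GL ι F) := ⋃ h ∈ H, (M.map (MulAut.conj h).toMonoidHom : Set (GL ι F))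
    have hTcomm : ∀ a ∈ T, ∀ b ∈ T, ⁅a, b⁆ ∈ S := by
      intro a ha b hb
      simp only [T, Set.mem_iUnion] at ha hb
      obtain ⟨g, hg, ha⟩ := ha
      obtain ⟨k, hk, hb⟩ := hb
      by_cases he : M.map (MulAut.conj g).toMonoidHom = M.map (MulAut.conj k).toMonoidHom
      · rw [← he] at hb
        obtain ⟨a', ha', rfl⟩ := ha
        obtain ⟨b', hb', rfl⟩ := hb
        rw [← map_commutatorElement]
        exact (Geo.scalars_normal (ι := ι) (F := F)).conj_mem _ (hclass a' ha' b' hb') g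
      · exact hinterS _ (hconj g hg).1 _ (hconj k hk).1 (hconj g hg).2 (hconj k hk).2 he a ha b hb
    let K := Subgroup.closure T
    have hKP : K ≤ P := by
      rw [Subgroup.closure_le]
      intro a ha
      simp only [T, Set.mem_iUnion] at ha
      obtain ⟨g, hg, ha⟩ := ha
      exact (hconj g hg).1.1 ha
    have hKnorm : NormBy H K := by
      intro h hh x hx
      induction hx using Subgroup.closure_induction with
      | mem a ha =>
        refine Subgroup.subset_closure ?_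
        simp only [T, Set.mem_iUnion] at ha ⊢
        obtain ⟨g, hg, m, hm, rfl⟩ := ha
        exact ⟨h * g, mul_mem hh hg, m, hm, by simp [mul_assoc]⟩
      | one => simp
      | mul a b _ _ ha hb =>
        have : h * (a * b) * h⁻¹ = (h * a * h⁻¹) * (h * b * h⁻¹) := by simp [mul_assoc]
        rw [this]; exact mul_mem ha hb
      | inv a _ ha =>
        have : h * a⁻¹ * h⁻¹ = (h * a * h⁻¹)⁻¹ := by simp [mul_assoc]
        rw [this]; exact inv_mem ha
    have hKN : K ⊔ Z = N := by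
      refine hmin _ (sup_le (hKP.trans hPle) hZN) (hsupNorm K hKnorm) le_sup_right ?_
      obtain ⟨x, hx, hxs⟩ := hM.2.2.2
      refine ⟨x, Subgroup.mem_sup_left (Subgroup.subset_closure ?_), hxs⟩
      simp only [T, Set.mem_iUnion]
      exact ⟨1, one_mem H, x, hx, by simp⟩
    obtain ⟨x, hx, hxs⟩ := hPns
    have h2 : P ≤ S := by
      rw [hP, ← hKN]
      exact (hcommsup K).trans (Subgroup.commutator_le.mpr (commutator_closure_scalar hTcomm))
    exact hxs (h2 hx)
  simp only [not_forall, exists_prop] at hclass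
  obtain ⟨a₀, ha₀, b₀, hb₀, hab₀⟩ := hclass
  set D := ⁅M, M⁆ with hD
  have hDns : ∃ x ∈ D, x ∉ S := ⟨_, Subgroup.commutator_mem_commutator ha₀ hb₀, hab₀⟩
  let Z' := P ⊓ S
  have hDnorm : NormBy P D := NormBy.commutator hM.2.1
  have hDM : D ⊔ Z' = M := by
    refine heq _ ⟨sup_le ((commutator_le_self M).trans hM.1) inf_le_left, ?_, le_sup_right, ?_⟩
      (sup_le (commutator_le_self M) hM.2.2.1)
    · intro g hg x hx
      have hle2 : D ⊔ Z' ≤ Subgroup.comap (MulAut.conj g).toMonoidHom (D ⊔ Z') := by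
        refine sup_le (fun d hd => ?_) (fun z hz => ?_)
        · exact Subgroup.mem_sup_left (hDnorm g hg d hd)
        · refine Subgroup.mem_sup_right ?_
          show g * z * g⁻¹ ∈ Z'
          rw [scalars_central hz.2 g, mul_assoc, mul_inv_cancel, mul_one]
          exact hz
      exact hle2 hx
    · exact let ⟨x, hx, hxs⟩ := hDns; ⟨x, Subgroup.mem_sup_left hx, hxs⟩
  have hDperf : ⁅D, D⁆ = D := by
    refine le_antisymm (commutator_le_self D) ?_
    conv_lhs => rw [hD, ← hDM]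
    rw [Subgroup.commutator_le]
    intro a ha b hb
    have h1 : D ⊔ Z' ≤ D ⊔ Z := sup_le_sup_left (fun x hx => ⟨hx.2, hle (hPle hx.1)⟩) _
    exact hcommsup D (Subgroup.commutator_mem_commutator (h1 ha) (h1 hb))
  have habsD := hirrOf habsP.1 hDnorm hDperf hDns
  have hcontain : ∀ L ∈ 𝒮, M ≤ L := by
    intro L hL
    have hI : L ⊓ M ∈ 𝒮 := by
      refine ⟨inf_le_right.trans hM.1, fun g hg x hx => ⟨hL.2.1 g hg x hx.1, hM.2.1 g hg x hx.2⟩,
        le_inf hL.2.2.1 hM.2.2.1, ?_⟩
      by_contra hc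
      simp only [not_exists, not_and, not_not] at hc
      obtain ⟨l, hl, hls⟩ := hL.2.2.2
      refine hls (mem_scalars_of_centralizes habsD (commute_of_perfect hDperf fun x hx => hc _ ⟨?_, ?_⟩))
      · rw [commutatorElement_def, mul_assoc l x, mul_assoc l]
        exact L.mul_mem hl (hL.2.1 x (hM.1 (commutator_le_self M hx)) _ (L.inv_mem hl))
      · rw [commutatorElement_def]
        exact M.mul_mem (hM.2.1 l (hL.1 hl) x (commutator_le_self M hx)) (M.inv_mem (commutator_le_self M hx))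
    exact (heq _ hI inf_le_right) ▸ inf_le_left
  have hMnorm : NormBy H M := by
    intro h hh x hx
    have h1 := hcontain _ (hconj h⁻¹ (inv_mem hh)).1 hx
    obtain ⟨m, hm, hmx⟩ := h1
    have : h * x * h⁻¹ = m := by rw [← hmx]; simp [mul_assoc]
    rw [this]; exact hm
  have hMP : M = P := by
    refine le_antisymm hM.1 ?_
    have hMN : M ⊔ Z = N := hmin _ (sup_le (hM.1.trans hPle) hZN) (hsupNorm M hMnorm) le_sup_right
      (let ⟨x, hx, hxs⟩ := hM.2.2.2; ⟨x, Subgroup.mem_sup_left hx, hxs⟩)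
    rw [hP, ← hMN]
    exact (hcommsup M).trans (commutator_le_self M)
  refine ⟨P, hPle.trans hle, hPnorm, hperf, ?_, ?_, ?_, habsP, span_eq_top habsP⟩
  · exact isSimpleGroup_quotient P _ hPns fun L h1 h2 h3 h4 => hMP ▸ hcontain L ⟨h1, h2, h3, h4⟩
  · exact not_comm_quotient P _ hPns hperf
  · intro h _ hh
    refine mem_scalars_of_centralizes habsP (commute_of_perfect hperf fun x hx => ?_)
    rw [commutatorElement_def]
    exact hh x hx

/-- Aschbacher's theorem in odd prime dimension. -/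
theorem trichotomy [Finite F] (hn : (Fintype.card ι).Prime) (hodd : Odd (Fintype.card ι))
    {H : Subgroup (GL ι F)} (hSL : H ≤ Geo.specialLinear ι F)
    (hirr : Geo.ActsIrreducibly (Geo.matrixSet H)) :
    (∃ N e, N ≤ H ∧ IsFrame H N e) ∨
    (∃ N, N ≤ H ∧ (∃ x ∈ N, x ∉ Geo.scalars ι F) ∧
      Geo.IsFieldSubalgebra (Fintype.card ι) (alg N) ∧ H ≤ Geo.subalgebraNormalizer (alg N)) ∨
    (∃ R, IsExtraspecialData H R) ∨ (∃ P, IsCore H P) := by
  classical
  have : Nonempty ι := Fintype.card_pos_iff.mp hn.pos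
  have : Finite (Matrix ι ι F) := inferInstanceAs (Finite (ι → ι → F))
  have : Finite (GL ι F) := Finite.of_injective Units.val Units.val_injective
  by_cases hA : ∃ A ≤ H, NormBy H A ∧ (∀ x ∈ A, ∀ y ∈ A, x * y = y * x) ∧ ∃ x ∈ A, x ∉ Geo.scalars ι F
  · obtain ⟨A, hAle, hAn, hAc, hAs⟩ := hA
    rcases clifford_abelian hn hirr hAn hAc hAs with ⟨e, he⟩ | h
    · exact Or.inl ⟨A, e, hAle, he⟩
    · exact Or.inr (Or.inl ⟨A, hAle, hAs, h⟩)
  have habel : ∀ A ≤ H, NormBy H A → (∀ x ∈ A, ∀ y ∈ A, x * y = y * x) → A ≤ Geo.scalars ι F := by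
    intro A h1 h2 h3 x hx
    by_contra hxs
    exact hA ⟨A, h1, h2, h3, x, hx, hxs⟩
  obtain ⟨x₀, hx₀, hx₀s⟩ : ∃ x ∈ H, x ∉ Geo.scalars ι F := by
    by_contra hc
    obtain ⟨i⟩ := ‹Nonempty ι›
    obtain ⟨j, hj⟩ := Fintype.exists_ne_of_one_lt_card hn.one_lt i
    rcases hirr (Submodule.span F {(Pi.single i 1 : ι → F)}) (by
      rintro _ ⟨h, hh, rfl⟩
      rw [mapsTo_iff_mulVec]
      intro w hw
      obtain ⟨c, hc'⟩ := (Geo.mem_scalars_iff _).mp (by_contra fun hh' => hc ⟨h, hh, hh'⟩)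
      show (h : Matrix ι ι F) *ᵥ w ∈ _
      rw [hc', Matrix.smul_mulVec, Matrix.one_mulVec]
      exact Submodule.smul_mem _ _ hw) with h | h
    · exact absurd (Submodule.span_singleton_eq_bot.mp h) (by simp)
    · obtain ⟨c, hc'⟩ := Submodule.mem_span_singleton.mp (h ▸ Submodule.mem_top : (Pi.single j 1 : ι → F) ∈ _)
      simpa [hj] using congrFun hc' j
  let Z := Geo.scalars ι F ⊓ H
  have hH : Z ≤ H ∧ NormBy H H := ⟨inf_le_right, fun h hh x hx => mul_mem (mul_mem hh hx) (inv_mem hh)⟩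
  have hex : ∃ k, ∃ N : Subgroup (GL ι F), (N ≤ H ∧ NormBy H N ∧ Z ≤ N ∧ ∃ x ∈ N, x ∉ Geo.scalars ι F) ∧
      Nat.card N = k := ⟨_, H, ⟨le_rfl, hH.2, hH.1, x₀, hx₀, hx₀s⟩, rfl⟩
  obtain ⟨N, ⟨hNle, hNn, hZN, hNs⟩, hNk⟩ := Nat.find_spec hex
  have hmin : ∀ M ≤ N, NormBy H M → Z ≤ M → (∃ x ∈ M, x ∉ Geo.scalars ι F) → M = N := by
    intro M h1 h2 h3 h4
    exact Subgroup.eq_of_le_of_card_ge h1
      (hNk ▸ Nat.find_min' hex ⟨M, ⟨h1.trans hNle, h2, h3, h4⟩, rfl⟩)
  right; right
  by_cases hc : ∀ x ∈ N, ∀ y ∈ N, ⁅x, y⁆ ∈ Geo.scalars ι F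
  · exact Or.inl ⟨N, extraspecial_of_class_two hn hodd hSL hNle hNn hc habel hNs⟩
  · simp only [not_forall, exists_prop] at hc
    exact Or.inr (core_of_not_class_two hn hirr hNle hNn hmin habel hZN hc)

end Cfsg.Agent.PrimeDim
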