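import Cfsg.Agent.Lib.PrimeDim.SLProper
import Cfsg.Agent.Lib.Transvect.UnitForm
import Cfsg.Agent.Lib.Unitary.Simple
import Cfsg.Agent.Lib.Unitary.Count

/-!
# The special unitary group in odd dimension is in no geometric class

* `adjU` : the adjoint for `hermForm`; `hermForm_eq_sesq`, `hermForm_unitary`;
* `not_su_le_*` : `GU ⊓ SL` lies in no stabiliser, orthogonal monomial group, field normaliser,
  subfield group or normaliser of an extraspecial group.
-/

set_option autoImplicit false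

namespace Cfsg.Agent.PrimeDim

open Matrix

variable {F : Type*} [Field F] [Fintype F] {n q : ℕ}

local notation "hq" => Cfsg.hermForm n F q
local notation "Γ" => Cfsg.GU n F q ⊓ Geo.specialLinear (Fin n) F

section
variable (hF : Fintype.card F = q ^ 2)

/-- The involution `x ↦ x ^ q` as a ring equivalence. -/
noncomputable def conjEquiv : F ≃+* F :=
  RingEquiv.ofBijective (Unitary.conjHom hF) (Unitary.conjHom_bijective hF)

theorem conjEquiv_apply (x : F) : conjEquiv hF x = x ^ q := rfl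

theorem conjHom_apply' (x : F) : Unitary.conjHom hF x = x ^ q := rfl

include hF in
theorem hermForm_unitary : Geo.IsUnitaryForm (conjEquiv hF) hq := by
  have H := Unitary.hermForm_isHerm hF n
  refine ⟨fun h => ?_, fun a => by simp [conjEquiv_apply, Unitary.pow_q_pow_q hF], H.add_left, H.smul_left,
    fun v w => H.conj_symm w v, fun v hv => ?_⟩
  · exact Unitary.conjHom_ne_id hF (RingHom.ext fun x => by rw [conjHom_apply', ← conjEquiv_apply hF, h]; rfl)
  · obtain ⟨y, hy⟩ : ∃ y, hq v y ≠ 0 := by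
      by_contra hc
      simp only [not_exists, not_not] at hc
      exact hv (Unitary.hermForm_nondeg hF n v hc)
    exact ⟨⟨y, fun h => hy ((H.eq_zero_symm hF).mp h)⟩, ⟨y, hy⟩⟩

theorem hermForm_eq_sesq : hq = sesq (Unitary.conjHom hF) 1 := by
  funext u v
  simp [sesq, Cfsg.hermForm, dotProduct, conjHom_apply']

/-- The adjoint of a matrix for `hermForm`. -/
noncomputable def adjU (X : Matrix (Fin n) (Fin n) F) : Matrix (Fin n) (Fin n) F :=
  (X.map (Unitary.conjHom hF))ᵀ

theorem adjU_mul (X Y : Matrix (Fin n) (Fin n) F) : adjU hF (X * Y) = adjU hF Y * adjU hF X := by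
  simp [adjU, Matrix.map_mul, Matrix.transpose_mul]

theorem adjU_add (X Y : Matrix (Fin n) (Fin n) F) : adjU hF (X + Y) = adjU hF X + adjU hF Y := by
  ext i j; simp only [adjU, Matrix.transpose_apply, Matrix.map_apply, Matrix.add_apply, map_add]

theorem adjU_one : adjU hF (1 : Matrix (Fin n) (Fin n) F) = 1 := by
  rw [adjU, Matrix.map_one _ (map_zero _) (map_one _), Matrix.transpose_one]

theorem adjU_smul (c : F) (X : Matrix (Fin n) (Fin n) F) : adjU hF (c • X) = c ^ q • adjU hF X := by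
  ext i j; simp [adjU, conjHom_apply', mul_pow]

theorem adjU_adjU (X : Matrix (Fin n) (Fin n) F) : adjU hF (adjU hF X) = X := by
  ext i j; simp [adjU, conjHom_apply', Unitary.pow_q_pow_q hF]

theorem herm_adjU (X : Matrix (Fin n) (Fin n) F) (u v : Fin n → F) :
    hq (X *ᵥ u) v = hq u (adjU hF X *ᵥ v) := by
  have hconj : ∀ w : Fin n → F, (Unitary.conjHom hF) ∘ (adjU hF X *ᵥ w)
      = Xᵀ *ᵥ ((Unitary.conjHom hF) ∘ w) := by
    intro w
    ext i
    rw [Function.comp_apply, RingHom.map_mulVec]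
    congr 2
    ext a b; simp [adjU, conjHom_apply', Unitary.pow_q_pow_q hF]
  simp only [hermForm_eq_sesq hF, sesq, Matrix.one_mulVec, hconj, Matrix.dotProduct_mulVec,
    Matrix.vecMul_transpose]

theorem mem_GU_iff {g : GL (Fin n) F} :
    g ∈ Cfsg.GU n F q ↔ ∀ u v, hq ((g : Matrix (Fin n) (Fin n) F) *ᵥ u) ((g : Matrix (Fin n) (Fin n) F) *ᵥ v)
      = hq u v := Iff.rfl

include hF in
theorem gram_of_mem_GU {g : GL (Fin n) F} (hg : g ∈ Cfsg.GU n F q) :
    (g : Matrix (Fin n) (Fin n) F)ᵀ * 1 * (g : Matrix (Fin n) (Fin n) F).map (Unitary.conjHom hF) = 1 := by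
  refine Eq.trans ((sesq_invariant_iff (Unitary.conjHom hF) 1 (g : Matrix (Fin n) (Fin n) F) 1).mp ?_) (one_smul _ _)
  intro u v
  rw [← hermForm_eq_sesq hF, one_mul]
  exact hg u v

theorem adjU_of_mem_GU {g : GL (Fin n) F} (hg : g ∈ Cfsg.GU n F q) :
    adjU hF (g : Matrix (Fin n) (Fin n) F) = ((g⁻¹ : GL (Fin n) F) : Matrix (Fin n) (Fin n) F) := by
  have h1 := gram_of_mem_GU hF hg
  rw [mul_one] at h1
  have h2 := congrArg (fun M : Matrix (Fin n) (Fin n) F => M.map (Unitary.conjHom hF)) h1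
  have h3 : ((g : Matrix (Fin n) (Fin n) F).map (Unitary.conjHom hF)).map (Unitary.conjHom hF)
      = (g : Matrix (Fin n) (Fin n) F) := by
    ext i j; simp [conjHom_apply', Unitary.pow_q_pow_q hF]
  rw [Matrix.map_mul, h3, Matrix.transpose_map] at h2
  have h4 : adjU hF (g : Matrix (Fin n) (Fin n) F) * (g : Matrix (Fin n) (Fin n) F) = 1 := by
    rw [Matrix.map_one _ (map_zero _) (map_one _)] at h2
    rw [adjU, ← Matrix.transpose_map]
    rw [← Matrix.transpose_map] at h2
    exact h2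
  calc adjU hF (g : Matrix (Fin n) (Fin n) F)
      = adjU hF (g : Matrix (Fin n) (Fin n) F) * ((g : Matrix (Fin n) (Fin n) F) *
          ((g⁻¹ : GL (Fin n) F) : Matrix (Fin n) (Fin n) F)) := by rw [Units.mul_inv, mul_one]
    _ = _ := by rw [← mul_assoc, h4, one_mul]

include hF in
theorem exists_isotropic_vec (h3 : 3 ≤ n) : ∃ v : Fin n → F, v ≠ 0 ∧ hq v v = 0 := by
  obtain ⟨r, s, e, hr, -, hrs, -, -, -⟩ := Unitary.exists_model hF h3
  refine ⟨r, fun h => ?_, hr⟩
  rw [h, (Unitary.hermForm_isHerm hF n).zero_left] at hrs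
  exact zero_ne_one hrs

include hF in
theorem eq_top_of_all_isotropic (h3 : 3 ≤ n) (Φ : Submodule F (Fin n → F))
    (h : ∀ v, hq v v = 0 → v ∈ Φ) : Φ = ⊤ := by
  obtain ⟨r, hr, hr0⟩ := exists_isotropic_vec hF h3
  exact Transvect.eq_top_of_isotropic (hermForm_unitary hF) hr hr0 Φ (h r hr0) fun x hx _ => h x hx

/-- The unitary transvection `x ↦ x + a h(x,v) v`. -/
noncomputable def utq (v : Fin n → F) (a : F) : GL (Fin n) F :=
  Transvect.ut (hermForm_unitary hF) v a

theorem utq_mulVec {v : Fin n → F} (hv : hq v v = 0) (a : F) (x : Fin n → F) :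
    (utq hF v a : Matrix (Fin n) (Fin n) F) *ᵥ x = x + (a * hq x v) • v := by
  rw [← Transvect.app_apply]
  exact Transvect.ut_apply (hermForm_unitary hF) hv a x

theorem utq_mem {v : Fin n → F} (hv : hq v v = 0) {a : F} (ha : a ^ q = -a) :
    utq hF v a ∈ Γ := by
  refine ⟨fun x y => ?_, Transvect.tv_mem_sl _ _⟩
  have := Transvect.ut_isometry (hermForm_unitary hF) hv (a := a) (by rw [conjEquiv_apply]; exact ha) x y
  rw [Transvect.app_apply, Transvect.app_apply] at this
  exact this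

include hF in
theorem not_su_le_subspaceStabilizer (h3 : 3 ≤ n) {W : Submodule F (Fin n → F)} (hb : W ≠ ⊥) (ht : W ≠ ⊤) :
    ¬ Γ ≤ Geo.subspaceStabilizer W := by
  intro hle
  have H := Unitary.hermForm_isHerm hF n
  obtain ⟨d, hd0, hd⟩ := Unitary.exists_skew hF
  have hT : ∀ v, hq v v = 0 → ∀ w ∈ W, (d * hq w v) • v ∈ W := by
    intro v hv w hw
    have h1 := (Transvect.mem_stab_iff.mp (hle (utq_mem hF hv hd))) w hw
    rw [Transvect.app_apply, utq_mulVec hF hv] at h1
    simpa using W.sub_mem h1 hw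
  by_cases hin : ∃ v, v ≠ 0 ∧ hq v v = 0 ∧ v ∈ W
  · obtain ⟨v, hv, hv0, hvW⟩ := hin
    refine ht (eq_top_of_all_isotropic hF h3 W fun x hx => ?_)
    by_cases hx0 : x = 0
    · rw [hx0]; exact zero_mem _
    obtain ⟨g, hg⟩ := Unitary.su_transitive_iso hF h3 hv hv0 hx0 hx
    have hmem : Matrix.SpecialLinearGroup.toGL (g : Matrix.SpecialLinearGroup (Fin n) F) ∈ Γ := by
      refine ⟨g.2, ?_⟩
      show Matrix.GeneralLinearGroup.det _ = 1
      exact Units.ext (g : Matrix.SpecialLinearGroup (Fin n) F).2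
    have h1 := (Transvect.mem_stab_iff.mp (hle hmem)) v hvW
    rw [← hg]
    exact h1
  · obtain ⟨w, hw, hw0⟩ := W.exists_mem_ne_zero_of_ne_bot hb
    have hker : ∀ v, hq v v = 0 → hq w v = 0 := by
      intro v hv
      by_contra hwv
      refine hin ⟨v, fun h => hwv (by rw [h, H.zero_right hF]), hv, ?_⟩
      have := W.smul_mem (d * hq w v)⁻¹ (hT v hv w hw)
      rwa [smul_smul, inv_mul_cancel₀ (mul_ne_zero hd0 hwv), one_smul] at this
    have htop := eq_top_of_all_isotropic hF h3 (LinearMap.ker (Transvect.ufl (hermForm_unitary hF) w))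
      fun v hv => by
        rw [LinearMap.mem_ker]
        exact (H.eq_zero_symm hF).mp (hker v hv)
    obtain ⟨x, hx⟩ := ((hermForm_unitary hF).nondegenerate w hw0).1
    exact hx (LinearMap.mem_ker.mp (htop ▸ Submodule.mem_top : x ∈ _))

include hF in
theorem not_su_le_decompositionStabilizer (h4 : 4 ≤ n) {D : Fin n → Submodule F (Fin n → F)}
    (hD : Geo.IsNondegenerateMDecomposition hq 1 D) : ¬ Γ ≤ Geo.decompositionStabilizer D := by
  intro hle
  have H := Unitary.hermForm_isHerm hF n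
  choose d' hd' using fun i => finrank_eq_one_iff'.mp (hD.decomp.finrank_eq i)
  let d : Fin n → Fin n → F := fun i => (d' i : Fin n → F)
  have hdD : ∀ i, d i ∈ D i := fun i => (d' i).2
  have hspan : ∀ i, ∀ x ∈ D i, ∃ c : F, x = c • d i := fun i x hx => by
    obtain ⟨c, hc⟩ := (hd' i).2 ⟨x, hx⟩
    exact ⟨c, (congrArg Subtype.val hc).symm⟩
  have horth : ∀ i j, i ≠ j → hq (d i) (d j) = 0 := fun i j h => hD.orthogonal i j h _ (hdD i) _ (hdD j)
  have hnd : ∀ i, hq (d i) (d i) ≠ 0 := by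
    intro i h0
    obtain ⟨x, hx, hne⟩ := (hD.nondegenerate i (d i) (hdD i) (fun h => (hd' i).1 (Subtype.ext h))).1
    obtain ⟨c, rfl⟩ := hspan i x hx
    rw [H.smul_left, h0, mul_zero] at hne
    exact hne rfl
  obtain ⟨s, hs⟩ : ∃ s : Fin 4 → Fin n, Function.Injective s := ⟨Fin.castLE h4, Fin.castLE_injective h4⟩
  have hx : ∀ k : Fin 4, ∃ x : F, x ^ (q + 1) = (-1 : F) ^ (k : ℕ) / hq (d (s k)) (d (s k)) := fun k =>
    Unitary.exists_norm_eq hF (by rw [div_pow, ← pow_mul, mul_comm, pow_mul, Unitary.neg_pow_q hF, one_pow,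
      H.self_fixed])
  choose x hx using hx
  have hx0 : ∀ k, x k ≠ 0 := fun k h => by
    have := hx k
    rw [h, zero_pow (Nat.succ_ne_zero q)] at this
    exact div_ne_zero (pow_ne_zero _ (neg_ne_zero.mpr one_ne_zero)) (hnd _) this.symm
  let v : Fin n → F := ∑ k, x k • d (s k)
  have hvd : ∀ k, hq v (d (s k)) = x k * hq (d (s k)) (d (s k)) := by
    intro k
    rw [H.sum_left, Finset.sum_eq_single k]
    · rw [H.smul_left]
    · intro m _ hm
      rw [H.smul_left, horth _ _ (fun h => hm (hs h)), mul_zero]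
    · simp
  have hv : hq v v = 0 := by
    have h1 : hq v v = ∑ k, x k ^ q * hq v (d (s k)) := by
      show hq v (∑ k, x k • d (s k)) = _
      rw [H.sum_right hF]
      exact Finset.sum_congr rfl fun k _ => by rw [H.smul_right]
    rw [h1]
    have h2 : ∀ k, x k ^ q * hq v (d (s k)) = (-1 : F) ^ (k : ℕ) := fun k => by
      rw [hvd, ← mul_assoc, ← pow_succ, hx, div_mul_cancel₀ _ (hnd _)]
    simp [h2, Fin.sum_univ_four]
    ring
  obtain ⟨a, ha0, ha⟩ := Unitary.exists_skew hF
  obtain ⟨π, hπ⟩ := hle (utq_mem hF hv ha)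
  obtain ⟨c, hc⟩ : ∃ c : F, (utq hF v a : Matrix (Fin n) (Fin n) F) *ᵥ d (s 0) = c • d (π (s 0)) :=
    hspan _ _ (by rw [← hπ (s 0)]; exact ⟨_, hdD _, rfl⟩)
  rw [utq_mulVec hF hv] at hc
  have key : ∀ k : Fin 4, k ≠ 0 → π (s 0) = s k := by
    intro k hk
    by_contra hne
    have h1 := congrArg (fun w => hq w (d (s k))) hc
    simp only [H.add_left, H.smul_left, horth _ _ hne, horth _ _ (fun h => hk (hs h).symm), hvd, mul_zero,
      zero_add] at h1
    rcases mul_eq_zero.mp h1 with h2 | h2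
    · rcases mul_eq_zero.mp h2 with h3 | h3
      · exact ha0 h3
      · rw [(H.eq_zero_symm hF)] at h3
        rw [hvd] at h3
        exact mul_ne_zero (hx0 0) (hnd _) h3
    · exact mul_ne_zero (hx0 k) (hnd _) h2
  exact absurd (hs ((key 1 (by decide)).symm.trans (key 2 (by decide)))) (by decide)

include hF in
theorem not_su_le_subalgebraNormalizer (h3 : 3 ≤ n) {r : ℕ} (hr : 2 ≤ r)
    {K : Subalgebra F (Matrix (Fin n) (Fin n) F)} (hK : Geo.IsFieldSubalgebra r K) :
    ¬ Γ ≤ Geo.subalgebraNormalizer K := by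
  intro hle
  obtain ⟨v, hv, hv0⟩ := exists_isotropic_vec hF h3
  obtain ⟨a, ha0, ha⟩ := Unitary.exists_skew hF
  obtain ⟨x, hx⟩ := ((hermForm_unitary hF).nondegenerate v hv).1
  refine tv_not_mem_subalgebraNormalizer (by simpa using h3) hr hK (v := v)
    (φ := a • Transvect.ufl (hermForm_unitary hF) v) (by simp [hv0]) hv ?_ (hle (utq_mem hF hv0 ha))
  intro h
  have := LinearMap.congr_fun h x
  simp [ha0, hx] at this

include hF in
theorem not_su_le_subfieldSubgroup' (h4 : 4 ≤ n) {F₁ : Subfield F} (hF₁ : F₁ ≠ ⊤)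
    (B : GL (Fin n) F) : ¬ Γ ≤ Geo.subfieldSubgroup F₁ B := by
  classical
  intro hle
  have H := Unitary.hermForm_isHerm hF n
  have hq2 := Unitary.two_le_q hF
  -- the subfield has at most `q` elements
  obtain ⟨g, -, hg⟩ := SetLike.exists_of_lt (lt_top_iff_ne_top.mpr hF₁)
  have hcard : Nat.card F₁ ≤ q := by
    have hinj : Function.Injective (fun p : F₁ × F₁ => (p.1 : F) + g * p.2) := by
      rintro ⟨a, b⟩ ⟨a', b'⟩ h
      by_cases hb : b = b'
      · subst hb
        exact Prod.ext (Subtype.ext (add_right_cancel h)) rfl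
      · refine absurd ?_ hg
        have hb' : (b : F) - b' ≠ 0 := sub_ne_zero.mpr fun h => hb (Subtype.ext h)
        have : g = ((a' : F) - a) / ((b : F) - b') := by
          rw [eq_div_iff hb']
          simp only at h
          linear_combination h
        rw [this]
        exact div_mem (sub_mem a'.2 a.2) (sub_mem b.2 b'.2)
    have h1 := Nat.card_le_card_of_injective _ hinj
    rw [Nat.card_prod, Nat.card_eq_fintype_card (α := F), hF, sq] at h1
    exact Nat.mul_self_le_mul_self_iff.mp h1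
  -- characteristic
  obtain ⟨p, hp⟩ := CharP.exists F
  obtain ⟨e, hpp, -⟩ := FiniteField.card F p
  have : Fact p.Prime := ⟨hpp⟩
  have : ExpChar F p := ExpChar.prime hpp
  have : CharP F₁ p := RingHom.charP F₁.subtype F₁.subtype.injective p
  have : ExpChar F₁ p := ExpChar.prime hpp
  obtain ⟨a, ha0, ha⟩ := Unitary.exists_skew hF
  -- every isotropic vector is a multiple of an F₁-rational one
  have key : ∀ v, hq v v = 0 → ∃ (c : F) (w : Fin n → F₁), v = c • ((B : Matrix (Fin n) (Fin n) F) *ᵥ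
      fun i => (w i : F)) := by
    intro v hv
    by_cases hv0 : v = 0
    · exact ⟨0, 0, by simp [hv0]⟩
    obtain ⟨c, hc0, hc⟩ := exists_smul_entries (hle (utq_mem hF hv ha))
    set M := cj B⁻¹ (utq hF v a : Matrix (Fin n) (Fin n) F) with hM
    set N : Matrix (Fin n) (Fin n) F := (utq hF v a : Matrix (Fin n) (Fin n) F) - 1 with hN
    have hNN : N * N = 0 := by
      apply Matrix.ext_of_mulVec_single
      intro i
      have hNx : ∀ x, N *ᵥ x = (a * hq x v) • v := fun x => by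
        rw [hN, Matrix.sub_mulVec, utq_mulVec hF hv, Matrix.one_mulVec, add_sub_cancel_left]
      rw [← Matrix.mulVec_mulVec, hNx, Matrix.zero_mulVec, hNx, H.smul_left, hv, mul_zero, mul_zero, zero_smul]
    have hMp : M ^ p = 1 := by
      rw [hM, ← map_pow]
      have : (utq hF v a : Matrix (Fin n) (Fin n) F) = N + 1 := by rw [hN, sub_add_cancel]
      have : Nonempty (Fin n) := ⟨⟨0, by omega⟩⟩
      have : CharP (Matrix (Fin n) (Fin n) F) p := inferInstance
      have : ExpChar (Matrix (Fin n) (Fin n) F) p := ExpChar.prime hpp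
      have hN2 : N ^ p = 0 := by
        obtain ⟨k, hk⟩ := Nat.exists_eq_add_of_le hpp.two_le
        rw [hk, pow_add, pow_two, hNN, zero_mul]
      rw [‹(utq hF v a : Matrix (Fin n) (Fin n) F) = N + 1›, add_pow_expChar_of_commute p (Commute.one_right N),
        hN2, zero_add, one_pow, map_one]
    have hcF : c ∈ F₁ := by
      let M₀ : Matrix (Fin n) (Fin n) F₁ := fun i j => ⟨c * M i j, hc i j⟩
      have h1 : (M₀ ^ p).map F₁.subtype = c ^ p • (1 : Matrix (Fin n) (Fin n) F) := by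
        rw [← RingHom.mapMatrix_apply, map_pow, RingHom.mapMatrix_apply,
          show M₀.map F₁.subtype = c • M by ext i j; rfl, smul_pow, hMp]
      have h2 := congrFun (congrFun h1 ⟨0, by omega⟩) ⟨0, by omega⟩
      simp at h2
      obtain ⟨y, hy⟩ := (Finite.injective_iff_surjective.mp (frobenius F₁ p).injective)
        ((M₀ ^ p) ⟨0, by omega⟩ ⟨0, by omega⟩)
      have h3 : (y : F) ^ p = c ^ p := by
        rw [← h2, ← hy, frobenius_def]; rfl
      rw [← (frobenius F p).injective h3]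
      exact y.2
    set u := ((B⁻¹ : GL (Fin n) F) : Matrix (Fin n) (Fin n) F) *ᵥ v with hu
    have hent : ∀ i j, a * hq ((B : Matrix (Fin n) (Fin n) F) *ᵥ Pi.single j 1) v * u i ∈ F₁ := by
      intro i j
      have h1 : M i j ∈ F₁ := by
        have := mul_mem (inv_mem hcF) (hc i j)
        rwa [← mul_assoc, inv_mul_cancel₀ hc0, one_mul] at this
      have h2 : M i j = (M *ᵥ Pi.single j 1) i := by simp [Matrix.mulVec_single_one]
      rw [h2, hM, cj_apply, inv_inv, ← Matrix.mulVec_mulVec, ← Matrix.mulVec_mulVec, utq_mulVec hF hv,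
        Matrix.mulVec_add, Matrix.mulVec_smul, Matrix.mulVec_mulVec, Units.inv_mul, Matrix.one_mulVec,
        ← hu, Pi.add_apply, Pi.smul_apply, smul_eq_mul] at h1
      have h3 : (Pi.single j (1 : F) : Fin n → F) i ∈ F₁ := by
        by_cases h : i = j
        · subst h; simp [one_mem]
        · simp [h, zero_mem]
      simpa using sub_mem h1 h3
    obtain ⟨j, hj⟩ : ∃ j, hq ((B : Matrix (Fin n) (Fin n) F) *ᵥ Pi.single j 1) v ≠ 0 := by
      by_contra hcon
      simp only [not_exists, not_not] at hcon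
      obtain ⟨x, hx⟩ := ((hermForm_unitary hF).nondegenerate v hv0).1
      refine hx ?_
      have h1 : x = (B : Matrix (Fin n) (Fin n) F) *ᵥ (((B⁻¹ : GL (Fin n) F) : Matrix (Fin n) (Fin n) F) *ᵥ x) := by
        rw [Matrix.mulVec_mulVec, Units.mul_inv, Matrix.one_mulVec]
      rw [h1, pi_eq_sum_univ' (((B⁻¹ : GL (Fin n) F) : Matrix (Fin n) (Fin n) F) *ᵥ x), Matrix.mulVec_sum,
        H.sum_left]
      exact Finset.sum_eq_zero fun k _ => by rw [Matrix.mulVec_smul, H.smul_left, hcon, mul_zero]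
    set k := a * hq ((B : Matrix (Fin n) (Fin n) F) *ᵥ Pi.single j 1) v
    refine ⟨k⁻¹, fun i => ⟨k * u i, hent i j⟩, ?_⟩
    rw [show (fun i => k * u i) = k • u from rfl, Matrix.mulVec_smul, smul_smul,
      inv_mul_cancel₀ (mul_ne_zero ha0 hj), one_smul, hu, Matrix.mulVec_mulVec, Units.mul_inv, Matrix.one_mulVec]
  -- counting
  have hcount : Unitary.normCount n q (0 : F) ≤ q ^ 2 * q ^ n := by
    have hsurj : Nat.card {v : Fin n → F // hq v v = 0} ≤ Nat.card (F × (Fin n → F₁)) := by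
      choose c w hcw using key
      refine Nat.card_le_card_of_injective (fun v => (c v.1 v.2, w v.1 v.2)) fun v v' h => Subtype.ext ?_
      simp only [Prod.mk.injEq] at h
      rw [hcw v.1 v.2, hcw v'.1 v'.2, h.1, h.2]
    refine hsurj.trans ?_
    rw [Nat.card_prod, Nat.card_fun, Nat.card_eq_fintype_card (α := F), hF, Nat.card_eq_fintype_card (α := Fin n),
      Fintype.card_fin]
    exact Nat.mul_le_mul_left _ (Nat.pow_le_pow_left hcard n)
  rw [Unitary.isotropic_count hF] at hcount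
  rcases Nat.even_or_odd n with hev | hodd
  · rw [if_pos hev] at hcount
    have h1 : q ^ 3 ≤ q ^ (n - 1) := Nat.pow_le_pow_right (by omega) (by omega)
    have h2 : 1 ≤ q ^ n := Nat.one_le_pow _ _ (by omega)
    have h3 : q ^ n * q ^ 3 ≤ q ^ n * q ^ (n - 1) := Nat.mul_le_mul_left _ h1
    have h6 : 2 * q ^ 2 ≤ q ^ 3 := by nlinarith
    have h7 : q ^ (n - 1) ≤ q ^ n := Nat.pow_le_pow_right (by omega) (by omega)
    have h8 : (q ^ n - 1) * (q ^ (n - 1) + 1) + (q ^ (n - 1) + 1) = q ^ n * (q ^ (n - 1) + 1) := by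
      rw [← Nat.succ_mul, Nat.succ_eq_add_one, Nat.sub_add_cancel h2]
    have h9 : q ^ n * (2 * q ^ 2) ≤ q ^ n * q ^ 3 := Nat.mul_le_mul_left _ h6
    nlinarith
  rw [if_neg (Nat.not_even_iff_odd.mpr hodd)] at hcount
  have h5 : 5 ≤ n := by rcases hodd with ⟨k, hk⟩; omega
  have h1 : q ^ 4 ≤ q ^ (n - 1) := Nat.pow_le_pow_right (by omega) (by omega)
  have h2 : 4 ≤ q ^ 2 := by nlinarith
  have h4 : q ^ 4 = q ^ 2 * q ^ 2 := by ring
  have h5' : q ^ 2 + 1 ≤ q ^ (n - 1) := by nlinarith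
  have h6 : q ^ 2 ≤ q ^ (n - 1) - 1 := by omega
  have h7 := Nat.mul_le_mul_left (q ^ n + 1) h6
  nlinarith

include hF in
theorem not_su_le_subfieldSubgroup (h5 : 5 ≤ n) (_hodd : Odd n) {F₁ : Subfield F} (hF₁ : F₁ ≠ ⊤)
    (B : GL (Fin n) F) : ¬ Γ ≤ Geo.subfieldSubgroup F₁ B :=
  not_su_le_subfieldSubgroup' hF (by omega) hF₁ B

include hF in
theorem not_su_le_normalizer_of_comm (h5 : 5 ≤ n) {R : Subgroup (GL (Fin n) F)}
    (habs : Geo.ActsAbsolutelyIrreducibly (Geo.matrixSet R))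
    (hcomm : ∀ y ∈ R, ∀ z ∈ R, z * y * z⁻¹ * y⁻¹ ∈ Geo.scalars (Fin n) F) :
    ¬ Γ ≤ Geo.subgroupNormalizer R := by
  classical
  intro hle
  have h3 : 3 ≤ n := by omega
  obtain ⟨v, hv, hv0⟩ := exists_isotropic_vec hF (n := n) (q := q) h3
  obtain ⟨a, ha0, ha⟩ := Unitary.exists_skew hF
  set T := utq hF v a with hT
  set φ : (Fin n → F) →ₗ[F] F := a • Transvect.ufl (hermForm_unitary hF) v with hφ
  have hTfix : ∀ w, φ w = 0 → (T : Matrix (Fin n) (Fin n) F) *ᵥ w = w := fun w hw => by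
    rw [hT, utq_mulVec hF hv0]
    simp [hφ] at hw
    rcases hw with h | h
    · exact absurd h ha0
    · simp [h]
  -- T centralises R
  have hcent : ∀ x ∈ R, T * x = x * T := by
    intro x hx
    set y := T * x * T⁻¹ * x⁻¹ with hy
    have hyR : y ∈ R := mul_mem (((Subgroup.mem_normalizer_iff.mp (hle (utq_mem hF hv0 ha))) x).mp hx) (inv_mem hx)
    have hyfix : ∀ w, φ w = 0 → φ (((x⁻¹ : GL (Fin n) F) : Matrix (Fin n) (Fin n) F) *ᵥ w) = 0 →
        (y : Matrix (Fin n) (Fin n) F) *ᵥ w = w := by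
      intro w hw hw'
      set w' := ((x⁻¹ : GL (Fin n) F) : Matrix (Fin n) (Fin n) F) *ᵥ w with hw'd
      have h1 : ((T⁻¹ : GL (Fin n) F) : Matrix (Fin n) (Fin n) F) *ᵥ w' = w' := by
        conv_lhs => rw [← hTfix w' hw']
        rw [Matrix.mulVec_mulVec, Units.inv_mul, Matrix.one_mulVec]
      rw [hy, Units.val_mul, ← Matrix.mulVec_mulVec, ← hw'd, Units.val_mul, ← Matrix.mulVec_mulVec, h1,
        Units.val_mul, ← Matrix.mulVec_mulVec, hw'd, Matrix.mulVec_mulVec w, Units.mul_inv, Matrix.one_mulVec,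
        hTfix w hw]
    suffices y = 1 by
      rw [hy, mul_inv_eq_one, mul_inv_eq_iff_eq_mul] at this
      exact this
    by_cases hys : y ∈ Geo.scalars (Fin n) F
    · obtain ⟨c, hc⟩ := (Geo.mem_scalars_iff _).mp hys
      obtain ⟨w, hw, hw1, hw2⟩ := exists_ker_ne_zero (by simpa using (show 3 ≤ n by omega)) φ
        (φ ∘ₗ Matrix.toLin' ((x⁻¹ : GL (Fin n) F) : Matrix (Fin n) (Fin n) F))
      have h1 := hyfix w hw1 (by simpa using hw2)
      rw [hc, Matrix.smul_mulVec, Matrix.one_mulVec] at h1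
      have hc1 : (c : F) = 1 := smul_left_injective F hw (h1.trans (one_smul F w).symm)
      exact Units.ext (by rw [hc, hc1, one_smul]; rfl)
    exfalso
    obtain ⟨z, hz, hzy⟩ : ∃ z ∈ R, z * y * z⁻¹ * y⁻¹ ≠ 1 := by
      by_contra hcon
      simp only [not_exists, not_and, not_not] at hcon
      obtain ⟨c, hc⟩ := habs.2 (y : Matrix (Fin n) (Fin n) F) (by
        rintro _ ⟨s, hs, rfl⟩
        have h1 := hcon s hs
        rw [mul_inv_eq_one, mul_inv_eq_iff_eq_mul] at h1
        exact (congrArg Units.val h1).symm)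
      have hc0 : c ≠ 0 := fun h => by
        rw [h, zero_smul] at hc
        have : Nonempty (Fin n) := ⟨⟨0, by omega⟩⟩
        exact Units.ne_zero _ hc
      exact hys ((Geo.mem_scalars_iff _).mpr ⟨Units.mk0 c hc0, hc⟩)
    obtain ⟨c, hc⟩ := (Geo.mem_scalars_iff _).mp (hcomm y hyR z hz)
    let X : Matrix (Fin n) (Fin n) F := ((x⁻¹ : GL (Fin n) F) : Matrix (Fin n) (Fin n) F)
    let Z : Matrix (Fin n) (Fin n) F := (z : Matrix (Fin n) (Fin n) F)
    let Φ : (Fin n → F) →ₗ[F] (Fin 4 → F) := LinearMap.pi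
      ![φ, φ ∘ₗ Matrix.toLin' X, φ ∘ₗ Matrix.toLin' Z, φ ∘ₗ Matrix.toLin' (X * Z)]
    obtain ⟨w, hw, hwk⟩ : ∃ w, w ≠ 0 ∧ Φ w = 0 := by
      by_contra hcon
      simp only [not_exists, not_and] at hcon
      have hinj : Function.Injective Φ := LinearMap.ker_eq_bot.mp (LinearMap.ker_eq_bot'.mpr fun w hw => by
        by_contra h
        exact hcon w h hw)
      have := LinearMap.finrank_le_finrank_of_injective hinj
      simp at this
      omega
    have h1 := congrFun hwk 0
    have h2 := congrFun hwk 1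
    have h3 := congrFun hwk 2
    have h4 := congrFun hwk 3
    simp [Φ] at h1 h2 h3 h4
    have e1 := hyfix w h1 h2
    have e2 := hyfix (Z *ᵥ w) h3 (by rw [Matrix.mulVec_mulVec]; exact h4)
    have e3 : z * y = (z * y * z⁻¹ * y⁻¹) * (y * z) := by group
    have e4 := congrArg (fun g : GL (Fin n) F => (g : Matrix (Fin n) (Fin n) F) *ᵥ w) e3
    simp only [Units.val_mul, ← Matrix.mulVec_mulVec, e1] at e4
    rw [Units.val_mul, Units.val_mul, Units.val_mul] at hc
    rw [Matrix.mulVec_mulVec, Matrix.mulVec_mulVec, Matrix.mulVec_mulVec, hc, Matrix.smul_mulVec,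
      Matrix.one_mulVec] at e4
    change (z : Matrix (Fin n) (Fin n) F) *ᵥ w = (c : F) • ((y : Matrix (Fin n) (Fin n) F) *ᵥ (Z *ᵥ w)) at e4
    rw [e2] at e4
    have hzw : Z *ᵥ w ≠ 0 := fun h => by
      have := congrArg (((z⁻¹ : GL (Fin n) F) : Matrix (Fin n) (Fin n) F) *ᵥ ·) h
      simp [Z, Matrix.mulVec_mulVec] at this
      exact hw this
    have hc1 : (c : F) = 1 := smul_left_injective F hzw (e4.symm.trans (one_smul F _).symm)
    refine hzy (Units.ext ?_)
    rw [Units.val_mul, Units.val_mul, Units.val_mul, hc, hc1, one_smul]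
    rfl
  -- so T is scalar, absurd
  obtain ⟨c, hc⟩ := habs.2 (T : Matrix (Fin n) (Fin n) F) (by
    rintro _ ⟨s, hs, rfl⟩
    exact congrArg Units.val (hcent s hs))
  have hcv : c = 1 := by
    have h1 := hTfix v (by simp [hφ, hv0])
    rw [hc, Matrix.smul_mulVec, Matrix.one_mulVec] at h1
    exact smul_left_injective F hv (h1.trans (one_smul F v).symm)
  obtain ⟨x, hx⟩ := ((hermForm_unitary hF).nondegenerate v hv).1
  have h1 := utq_mulVec hF hv0 a x
  rw [← hT, hc, hcv, one_smul, Matrix.one_mulVec, left_eq_add, smul_eq_zero] at h1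
  exact h1.elim (mul_ne_zero ha0 hx) hv

include hF in
theorem not_su_le_normalizer (h5 : 5 ≤ n) {H R : Subgroup (GL (Fin n) F)} (hR : IsExtraspecialData H R) :
    ¬ Γ ≤ Geo.subgroupNormalizer R := by
  classical
  have hn : n.Prime := by simpa using hR.sympType.prime
  have hcomm : ∀ y ∈ R, ∀ z ∈ R, z * y * z⁻¹ * y⁻¹ ∈ Geo.scalars (Fin n) F := by
    intro y hy z hz
    have : Fact n.Prime := ⟨hn⟩
    have hquot : Nat.card (R ⧸ Subgroup.center R) = n ^ 2 := by
      have h1 := Subgroup.card_eq_card_quotient_mul_card_subgroup (Subgroup.center R)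
      rw [hR.card_eq, hR.card_center, Fintype.card_fin, pow_succ] at h1
      exact (Nat.eq_of_mul_eq_mul_right hn.pos h1).symm
    let yR : R := ⟨y, hy⟩
    let zR : R := ⟨z, hz⟩
    have h2 : (QuotientGroup.mk (zR * yR) : R ⧸ Subgroup.center R) = QuotientGroup.mk (yR * zR) := by
      rw [QuotientGroup.mk_mul, QuotientGroup.mk_mul]
      exact IsPGroup.commutative_of_card_eq_prime_sq hquot _ _
    have h3 : (zR * yR * zR⁻¹ * yR⁻¹) ∈ Subgroup.center R := by
      have h4 := QuotientGroup.eq.mp h2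
      have h5 : zR * yR * zR⁻¹ * yR⁻¹ = (zR * yR) * ((zR * yR)⁻¹ * (yR * zR))⁻¹ * (zR * yR)⁻¹ := by group
      rw [h5]
      exact (Subgroup.Normal.conj_mem inferInstance _ (inv_mem h4) _)
    obtain ⟨c, hc⟩ := hR.absIrred.2 ((z * y * z⁻¹ * y⁻¹ : GL (Fin n) F) : Matrix (Fin n) (Fin n) F) (by
      rintro _ ⟨s, hs, rfl⟩
      have := congrArg (Subtype.val : R → GL (Fin n) F) ((Subgroup.mem_center_iff.mp h3) ⟨s, hs⟩)
      exact (congrArg Units.val this).symm)
    have hc0 : c ≠ 0 := fun h => by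
      rw [h, zero_smul] at hc
      have : Nonempty (Fin n) := ⟨⟨0, by omega⟩⟩
      exact Units.ne_zero _ hc
    exact (Geo.mem_scalars_iff _).mpr ⟨Units.mk0 c hc0, hc⟩
  exact not_su_le_normalizer_of_comm hF h5 hR.absIrred hcomm

end

end Cfsg.Agent.PrimeDim
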