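import Cfsg.Agent.Lib.PrimeDim.Fields
import Cfsg.Agent.Lib.PrimeDim.Forms
import Cfsg.Agent.Lib.PrimeDim.UnitaryBasic

/-!
# Maximal subgroups of `SU_n(q)`, `n ≥ 5` prime

* `no_symm_invariant_char_two` : no invertible symmetric invariant matrix in characteristic two, odd dimension;
* `exists_form_rational` : a realisable invariant subgroup gives a subfield group carrying the form;
* `unitary_cases` : the case list.
-/

set_option autoImplicit false

namespace Cfsg.Agent.PrimeDim

open Matrix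

variable {F : Type*} [Field F] [Fintype F]

/-- In characteristic two and odd dimension an irreducible group fixes no non-singular symmetric matrix. -/
theorem no_symm_invariant_char_two {ι : Type} [Fintype ι] [DecidableEq ι] (h2 : (2 : F) = 0)
    (hn : 2 ≤ Fintype.card ι) (hodd : Odd (Fintype.card ι)) {P : Subgroup (GL ι F)}
    (hirr : Geo.ActsIrreducibly (Geo.matrixSet P)) {G : Matrix ι ι F} (hsym : Gᵀ = G) (hdet : G.det ≠ 0)
    (hinv : ∀ x ∈ P, (x : Matrix ι ι F)ᵀ * G * (x : Matrix ι ι F) = G) : False := by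
  classical
  let Q : (ι → F) → F := fun u => u ⬝ᵥ G *ᵥ u
  have hsym' : ∀ u w : ι → F, w ⬝ᵥ G *ᵥ u = u ⬝ᵥ G *ᵥ w := fun u w => by
    rw [Matrix.dotProduct_mulVec, ← Matrix.mulVec_transpose, hsym, dotProduct_comm]
  have hadd : ∀ u w, Q (u + w) = Q u + Q w := fun u w => by
    simp only [Q, Matrix.mulVec_add, add_dotProduct, dotProduct_add, hsym' u w]
    linear_combination (u ⬝ᵥ G *ᵥ w) * h2
  have hsmul : ∀ (c : F) u, Q (c • u) = c ^ 2 * Q u := fun c u => by
    simp [Q, Matrix.mulVec_smul, dotProduct_smul, smul_dotProduct]; ring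
  let W : Submodule F (ι → F) :=
    { carrier := {u | Q u = 0}
      zero_mem' := by simp [Q]
      add_mem' := fun {a b} ha hb => by
        show Q (a + b) = 0
        rw [hadd, show Q a = 0 from ha, show Q b = 0 from hb, add_zero]
      smul_mem' := fun c u hu => by
        show Q (c • u) = 0
        rw [hsmul, show Q u = 0 from hu, mul_zero] }
  have hmem : ∀ u, u ∈ W ↔ Q u = 0 := fun _ => Iff.rfl
  have hW : ∀ s ∈ Geo.matrixSet P, W.map (Matrix.toLin' s) ≤ W := by
    rintro _ ⟨x, hx, rfl⟩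
    rw [mapsTo_iff_mulVec]
    intro w hw
    rw [hmem] at hw ⊢
    show ((x : Matrix ι ι F) *ᵥ w) ⬝ᵥ G *ᵥ ((x : Matrix ι ι F) *ᵥ w) = 0
    rw [← hw]
    show _ = w ⬝ᵥ G *ᵥ w
    conv_rhs => rw [← hinv x hx]
    simp [← Matrix.mulVec_mulVec, Matrix.dotProduct_mulVec, Matrix.vecMul_transpose]
  have hQe : ∀ i, Q (Pi.single i 1) = G i i := fun i => by simp [Q]
  rcases hirr W hW with h | h
  · obtain ⟨i⟩ : Nonempty ι := Fintype.card_pos_iff.mp (by omega)
    obtain ⟨j, hj⟩ := Fintype.exists_ne_of_one_lt_card (by omega) i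
    obtain ⟨p, hp⟩ := CharP.exists F
    have h22 : p = 2 := by
      have : ((2 : ℕ) : F) = 0 := by exact_mod_cast h2
      exact (Nat.prime_dvd_prime_iff_eq (CharP.char_is_prime F p) Nat.prime_two).mp
        ((CharP.cast_eq_zero_iff F p 2).mp this)
    subst h22
    have : ExpChar F 2 := ExpChar.prime Nat.prime_two
    have hGi : G i i ≠ 0 := fun h0 => by
      have : (Pi.single i 1 : ι → F) ∈ W := by rw [hmem, hQe, h0]
      rw [h, Submodule.mem_bot] at this
      simpa using congrFun this i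
    obtain ⟨a, ha⟩ := (Finite.injective_iff_surjective.mp (frobenius F 2).injective) (G j j / G i i)
    rw [frobenius_def] at ha
    have hw : a • (Pi.single i 1 : ι → F) + Pi.single j 1 ∈ W := by
      rw [hmem, hadd, hsmul, hQe, hQe, ha, div_mul_cancel₀ _ hGi]
      linear_combination G j j * h2
    rw [h, Submodule.mem_bot] at hw
    have := congrFun hw j
    simp [hj] at this
  · refine hdet (det_skew_eq_zero G (fun i j => ?_) (fun i => ?_) hodd)
    · rw [show G i j = G j i from congrFun (congrFun hsym.symm i) j]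
      linear_combination G j i * h2
    · rw [← hQe, ← hmem, h]; trivial

variable {n q : ℕ}

local notation "hq" => Cfsg.hermForm n F q
local notation "Γ" => Cfsg.GU n F q ⊓ Geo.specialLinear (Fin n) F

/-- A normal spanning subgroup realisable over a proper subfield puts the group in a subfield class carrying
the form. -/
theorem exists_form_rational (hF : Fintype.card F = q ^ 2) (hn : 3 ≤ n) (hodd : Odd n)
    {H P : Subgroup (GL (Fin n) F)} (hHP : NormBy H P) (hPU : P ≤ Cfsg.GU n F q)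
    (hspan : Submodule.span F (Geo.matrixSet P) = ⊤) (hirr : Geo.ActsAbsolutelyIrreducibly (Geo.matrixSet P))
    {F₀ : Subfield F} (hF₀ : F₀ ≠ ⊤) (hreal : Geo.RealisableOver F₀ (Geo.matrixSet P)) :
    ∃ (F₁ : Subfield F) (r : ℕ) (B : GL (Fin n) F), r.Prime ∧ Fintype.card F = Nat.card F₁ ^ r ∧ F₁ ≠ ⊤ ∧
      (Odd r ∨ (r = 2 ∧ Odd q)) ∧ Geo.IsFormRationalStructure hq F₁ 1 B ∧ H ≤ Geo.subfieldSubgroup F₁ B := by
  classical
  have : Nonempty (Fin n) := ⟨⟨0, by omega⟩⟩
  obtain ⟨F₁, r, B, hr, hcard, hne, -, hB, hle⟩ := le_subfield_of_realisable hHP hspan hF₀ hreal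
  set σ := Unitary.conjHom hF with hσ
  have hσmem : ∀ a ∈ F₁, σ a ∈ F₁ := fun a ha => by rw [hσ, conjHom_apply']; exact pow_mem ha q
  have hσσ : ∀ a, σ (σ a) = a := fun a => Unitary.pow_q_pow_q hF a
  set Bi : Matrix (Fin n) (Fin n) F := ((B⁻¹ : GL (Fin n) F) : Matrix (Fin n) (Fin n) F) with hBi
  set G' : Matrix (Fin n) (Fin n) F := Biᵀ * Bi.map σ with hG'
  have hBiB : Bi * (B : Matrix (Fin n) (Fin n) F) = 1 := Units.inv_mul B
  have hBBi : (B : Matrix (Fin n) (Fin n) F) * Bi = 1 := Units.mul_inv B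
  have hmapBBi : (B : Matrix (Fin n) (Fin n) F).map σ * Bi.map σ = 1 := by
    rw [← Matrix.map_mul, hBBi, Matrix.map_one _ (map_zero _) (map_one _)]
  have hTBBi : Biᵀ * (B : Matrix (Fin n) (Fin n) F)ᵀ = 1 := by
    rw [← Matrix.transpose_mul, hBBi, Matrix.transpose_one]
  have hG'det : G'.det ≠ 0 := by
    rw [hG', Matrix.det_mul, Matrix.det_transpose]
    exact mul_ne_zero (Matrix.GeneralLinearGroup.det B⁻¹).ne_zero (isUnit_det_map σ B⁻¹).ne_zero
  -- invariance under the conjugated group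
  have hinv' : ∀ x ∈ P, (cj B (x : Matrix (Fin n) (Fin n) F))ᵀ * G' * (cj B (x : Matrix (Fin n) (Fin n) F)).map σ
      = G' := by
    intro x hx
    have h1 := gram_of_mem_GU hF (hPU hx)
    rw [mul_one] at h1
    have e1 : Bi * cj B (x : Matrix (Fin n) (Fin n) F) = (x : Matrix (Fin n) (Fin n) F) * Bi := by
      rw [cj_apply, ← mul_assoc, ← mul_assoc, hBiB, one_mul]
    calc _ = (Bi * cj B (x : Matrix (Fin n) (Fin n) F))ᵀ * (Bi * cj B (x : Matrix (Fin n) (Fin n) F)).map σ := by
          simp [hG', Matrix.transpose_mul, Matrix.map_mul, mul_assoc]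
      _ = Biᵀ * ((x : Matrix (Fin n) (Fin n) F)ᵀ * (x : Matrix (Fin n) (Fin n) F).map σ) * Bi.map σ := by
          rw [e1]; simp [Matrix.transpose_mul, Matrix.map_mul, mul_assoc]
      _ = G' := by rw [h1, mul_one]
  -- a rational invariant matrix
  obtain ⟨i₀, j₀, hne0⟩ : ∃ i j, G' i j ≠ 0 := by
    by_contra hc
    simp only [not_exists, not_not] at hc
    exact hG'det (by rw [show G' = 0 from Matrix.ext hc, Matrix.det_zero])
  obtain ⟨L₁, hL₁⟩ : ∃ L : F →ₗ[F₁] F₁, L (G' i₀ j₀) ≠ 0 := by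
    by_contra hc
    simp only [not_exists, not_not] at hc
    exact hne0 (Module.forall_dual_apply_eq_zero_iff F₁ _ |>.mp hc)
  let L : F → F := fun a => (L₁ a : F)
  set G0 : Matrix (Fin n) (Fin n) F := G'.map L with hG0
  have hG0mem : ∀ i j, G0 i j ∈ F₁ := fun i j => (L₁ (G' i j)).2
  have hLsum : ∀ (s : Finset (Fin n)) (g : Fin n → F), L (∑ k ∈ s, g k) = ∑ k ∈ s, L (g k) := by
    intro s g
    simp only [L, map_sum]
    push_cast
    rfl
  have hLmul : ∀ c ∈ F₁, ∀ a, L (c * a) = c * L a := by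
    intro c hc a
    have := L₁.map_smul ⟨c, hc⟩ a
    simp only [L]
    rw [show c * a = (⟨c, hc⟩ : F₁) • a from rfl, this]
    rfl
  have hmapl : ∀ (A M : Matrix (Fin n) (Fin n) F), (∀ i j, A i j ∈ F₁) → (A * M).map L = A * M.map L := by
    intro A M hA
    ext i j
    simp only [Matrix.map_apply, Matrix.mul_apply, hLsum]
    exact Finset.sum_congr rfl fun k _ => hLmul _ (hA i k) _
  have hmapr : ∀ (A M : Matrix (Fin n) (Fin n) F), (∀ i j, A i j ∈ F₁) → (M * A).map L = M.map L * A := by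
    intro A M hA
    ext i j
    simp only [Matrix.map_apply, Matrix.mul_apply, hLsum]
    exact Finset.sum_congr rfl fun k _ => by rw [mul_comm, hLmul _ (hA k j) _, mul_comm]
  have hinv0 : ∀ x ∈ P, (cj B (x : Matrix (Fin n) (Fin n) F))ᵀ * G0 * (cj B (x : Matrix (Fin n) (Fin n) F)).map σ
      = G0 := by
    intro x hx
    conv_rhs => rw [hG0, ← hinv' x hx]
    have h1 : ∀ i j, (cj B (x : Matrix (Fin n) (Fin n) F))ᵀ i j ∈ F₁ := fun i j => hB x hx j i
    have h2 : ∀ i j, (cj B (x : Matrix (Fin n) (Fin n) F)).map σ i j ∈ F₁ := fun i j => hσmem _ (hB x hx i j)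
    rw [hmapr _ _ h2, hmapl _ _ h1]
  obtain ⟨c, hc⟩ := invariant_unique hirr.2 σ (G := 1) (G' := (B : Matrix (Fin n) (Fin n) F)ᵀ * G0 *
      (B : Matrix (Fin n) (Fin n) F).map σ) (by simp) (fun x hx => gram_of_mem_GU hF (hPU hx)) (by
    intro x hx
    have e1 : (B : Matrix (Fin n) (Fin n) F) * (x : Matrix (Fin n) (Fin n) F)
        = cj B (x : Matrix (Fin n) (Fin n) F) * (B : Matrix (Fin n) (Fin n) F) := by
      rw [cj_apply, mul_assoc, Units.inv_mul, mul_one]
    calc _ = ((B : Matrix (Fin n) (Fin n) F) * (x : Matrix (Fin n) (Fin n) F))ᵀ * G0 *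
          ((B : Matrix (Fin n) (Fin n) F) * (x : Matrix (Fin n) (Fin n) F)).map σ := by
          simp [Matrix.transpose_mul, Matrix.map_mul, mul_assoc]
      _ = (B : Matrix (Fin n) (Fin n) F)ᵀ * ((cj B (x : Matrix (Fin n) (Fin n) F))ᵀ * G0 *
          (cj B (x : Matrix (Fin n) (Fin n) F)).map σ) * (B : Matrix (Fin n) (Fin n) F).map σ := by
          rw [e1]; simp [Matrix.transpose_mul, Matrix.map_mul, mul_assoc]
      _ = _ := by rw [hinv0 x hx])
  have hG0G' : G0 = c • G' := by
    have h1 := congrArg (fun M => Biᵀ * M * Bi.map σ) hc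
    simp only [Matrix.mul_smul, Matrix.smul_mul, mul_one] at h1
    rw [← mul_assoc, ← mul_assoc, hTBBi, one_mul, mul_assoc, hmapBBi, mul_one] at h1
    exact h1
  have hc0 : c ≠ 0 := fun h => hL₁ (by
    have h1 : G0 i₀ j₀ = 0 := by rw [hG0G', h, zero_smul]; rfl
    exact Subtype.ext h1)
  set a := c⁻¹ with ha
  have ha0 : a ≠ 0 := inv_ne_zero hc0
  have hG'a : G' = a • G0 := by rw [hG0G', ha, smul_smul, inv_mul_cancel₀ hc0, one_smul]
  have hherm : ∀ i j, σ (G' j i) = G' i j := by
    intro i j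
    simp only [hG', Matrix.mul_apply, Matrix.transpose_apply, Matrix.map_apply, map_sum, map_mul, hσσ]
    exact Finset.sum_congr rfl fun k _ => mul_comm _ _
  have hrel : ∀ i j, σ a * σ (G0 j i) = a * G0 i j := by
    intro i j
    have := hherm i j
    rw [hG'a, Matrix.smul_apply, Matrix.smul_apply, smul_eq_mul, smul_eq_mul, map_mul] at this
    exact this
  obtain ⟨l, hlmem, hl⟩ : ∃ l ∈ F₁, σ a = l * a := by
    refine ⟨σ a / a, ?_, by rw [div_mul_cancel₀ _ ha0]⟩
    have h0 : G0 i₀ j₀ ≠ 0 := fun h => hL₁ (Subtype.ext h)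
    have h1 : σ (G0 j₀ i₀) ≠ 0 := fun h => by
      have := hrel i₀ j₀
      rw [h, mul_zero] at this
      exact mul_ne_zero ha0 h0 this.symm
    rw [show σ a / a = G0 i₀ j₀ / σ (G0 j₀ i₀) by
      rw [div_eq_div_iff ha0 h1, hrel i₀ j₀, mul_comm]]
    exact div_mem (hG0mem _ _) (hσmem _ (hG0mem _ _))
  have hll : σ l * l = 1 := by
    have h1 := congrArg σ hl
    rw [hσσ, map_mul, hl, ← mul_assoc] at h1
    exact (mul_eq_right₀ ha0).mp h1.symm
  -- the correcting scalar
  obtain ⟨μ, hμmem, hμ0, hμ, hcase⟩ : ∃ μ ∈ F₁, μ ≠ 0 ∧ σ μ = l * μ ∧ (Odd r ∨ (r = 2 ∧ Odd q)) := by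
    by_cases hfix : ∀ x ∈ F₁, σ x = x
    · have hr2 : r = 2 := by
        have : Module.Finite F₁ F := Module.Finite.of_finite
        have : FiniteDimensional F₁ F := this
        have hrk : Module.finrank F₁ F = r := by
          have h1 : Nat.card F = Nat.card F₁ ^ Module.finrank F₁ F := Module.natCard_eq_pow_finrank
          rw [Nat.card_eq_fintype_card (α := F), hcard] at h1
          have h2 : 1 < Nat.card F₁ := Finite.one_lt_card
          exact (Nat.pow_right_injective h2 h1).symm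
        let σA : F ≃ₐ[F₁] F := AlgEquiv.ofRingEquiv (f := conjEquiv hF) (fun x => hfix x x.2)
        have ho : orderOf σA = 2 := orderOf_eq_prime (AlgEquiv.ext fun x => by
          rw [pow_two, AlgEquiv.mul_apply]; exact hσσ x) (fun h => by
          exact Unitary.conjHom_ne_id hF (RingHom.ext fun x => AlgEquiv.congr_fun h x))
        have h3 : 2 ∣ r := by
          rw [← hrk, ← IsGalois.card_aut_eq_finrank, ← ho]
          exact orderOf_dvd_natCard σA
        exact ((Nat.prime_dvd_prime_iff_eq Nat.prime_two hr).mp h3).symm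
      have hl2 : l = 1 ∨ l = -1 := mul_self_eq_one_iff.mp (by rw [hfix l hlmem] at hll; exact hll)
      have hG0T : G0ᵀ = l⁻¹ • G0 := by
        ext i j
        have := hrel i j
        rw [hl, hfix _ (hG0mem j i)] at this
        have hl0 : l ≠ 0 := fun h => by simp [h] at hll
        rw [Matrix.transpose_apply, Matrix.smul_apply, smul_eq_mul, eq_inv_mul_iff_mul_eq₀ hl0]
        exact mul_left_cancel₀ ha0 (by linear_combination this)
      have hG0det : G0.det ≠ 0 := by
        rw [hG0G', Matrix.det_smul]; exact mul_ne_zero (pow_ne_zero _ hc0) hG'det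
      by_cases h2 : (2 : F) = 0
      · exfalso
        have hl1 : l = 1 := hl2.elim id fun h => by rw [h]; linear_combination -h2
        rw [hl1, inv_one, one_smul] at hG0T
        have hsymm : ∀ M : Matrix (Fin n) (Fin n) F, (Mᵀ * G0 * M)ᵀ = Mᵀ * G0 * M := fun M => by
          rw [Matrix.transpose_mul, Matrix.transpose_mul, Matrix.transpose_transpose, hG0T, mul_assoc]
        refine no_symm_invariant_char_two h2 (by simp; omega) (by simpa using hodd) hirr.1
          (G := (B : Matrix (Fin n) (Fin n) F)ᵀ * G0 * (B : Matrix (Fin n) (Fin n) F)) (hsymm _) ?_ fun x hx => ?_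
        · rw [Matrix.det_mul, Matrix.det_mul, Matrix.det_transpose]
          exact mul_ne_zero (mul_ne_zero (Matrix.GeneralLinearGroup.det B).ne_zero hG0det)
            (Matrix.GeneralLinearGroup.det B).ne_zero
        · have e0 : (cj B (x : Matrix (Fin n) (Fin n) F)).map σ = cj B (x : Matrix (Fin n) (Fin n) F) := by
            ext i j; exact hfix _ (hB x hx i j)
          have e1 : (B : Matrix (Fin n) (Fin n) F) * (x : Matrix (Fin n) (Fin n) F)
              = cj B (x : Matrix (Fin n) (Fin n) F) * (B : Matrix (Fin n) (Fin n) F) := by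
            rw [cj_apply, mul_assoc, Units.inv_mul, mul_one]
          have e2 := hinv0 x hx
          rw [e0] at e2
          calc _ = ((B : Matrix (Fin n) (Fin n) F) * (x : Matrix (Fin n) (Fin n) F))ᵀ * G0 *
                ((B : Matrix (Fin n) (Fin n) F) * (x : Matrix (Fin n) (Fin n) F)) := by
                simp [Matrix.transpose_mul, mul_assoc]
            _ = (B : Matrix (Fin n) (Fin n) F)ᵀ * ((cj B (x : Matrix (Fin n) (Fin n) F))ᵀ * G0 *
                cj B (x : Matrix (Fin n) (Fin n) F)) * (B : Matrix (Fin n) (Fin n) F) := by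
                rw [e1]; simp [Matrix.transpose_mul, mul_assoc]
            _ = _ := by rw [e2]
      have hl1 : l = 1 := hl2.resolve_right fun hm => by
        rw [hm, inv_neg, inv_one, neg_one_smul] at hG0T
        have h3 := congrArg Matrix.det hG0T
        rw [Matrix.det_transpose, Matrix.det_neg, Fintype.card_fin, hodd.neg_one_pow, neg_one_mul] at h3
        exact hG0det (by
          have h4 : (2 : F) * G0.det = 0 := by linear_combination h3
          exact (mul_eq_zero.mp h4).resolve_left h2)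
      refine ⟨1, one_mem _, one_ne_zero, by rw [map_one, hl1, mul_one], Or.inr ⟨hr2, ?_⟩⟩
      obtain ⟨p, m, hp, hchar, hqp, -⟩ := Unitary.exists_prime_pow hF
      rw [hqp]
      refine (hp.odd_of_ne_two ?_).pow
      rintro rfl
      exact h2 (by exact_mod_cast CharP.cast_eq_zero F 2)
    · simp only [not_forall, exists_prop] at hfix
      obtain ⟨x, hx, hσx⟩ := hfix
      have hrodd : Odd r := by
        refine hr.odd_of_ne_two fun h => hσx ?_
        subst h
        have h1 : Nat.card F₁ = q := (Nat.pow_left_injective two_ne_zero (hF.symm.trans hcard)).symm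
        have : Fintype F₁ := Fintype.ofFinite F₁
        have h2 : (⟨x, hx⟩ : F₁) ^ Fintype.card F₁ = ⟨x, hx⟩ := FiniteField.pow_card _
        rw [← Nat.card_eq_fintype_card, h1] at h2
        exact congrArg Subtype.val h2
      have hl0 : l ≠ 0 := fun h => by simp [h] at hll
      have key : ∀ t, σ (t + σ t / l) = l * (t + σ t / l) := by
        intro t
        rw [map_add, map_div₀, hσσ, mul_add, mul_div_cancel₀ _ hl0,
          show t / σ l = l * t by rw [div_eq_iff (fun h => by simp [h] at hll)]; linear_combination -t * hll]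
        ring
      by_cases h1 : (1 : F) + σ 1 / l = 0
      · refine ⟨x + σ x / l, add_mem hx (div_mem (hσmem x hx) hlmem), fun h => hσx ?_, key x, Or.inl hrodd⟩
        rw [map_one] at h1
        have h3 : l = -1 := by
          field_simp at h1
          linear_combination h1
        rw [h3, div_neg, div_one, ← sub_eq_add_neg, sub_eq_zero] at h
        exact h.symm
      · exact ⟨1 + σ 1 / l, add_mem (one_mem _) (div_mem (hσmem 1 (one_mem _)) hlmem), h1, key 1, Or.inl hrodd⟩
  -- scale the basis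
  set b := a / μ with hb
  have hb0 : b ≠ 0 := div_ne_zero ha0 hμ0
  have hbfix : b ^ q = b := by
    have hl0 : l ≠ 0 := fun h => by simp [h] at hll
    rw [← conjHom_apply' hF, ← hσ, hb, map_div₀, hl, hμ, mul_div_mul_left _ _ hl0]
  obtain ⟨z, hz⟩ := Unitary.exists_norm_eq hF (c := b⁻¹) (by rw [inv_pow, hbfix])
  have hz0 : z ≠ 0 := fun h => by
    rw [h, zero_pow (Nat.succ_ne_zero q)] at hz
    exact inv_ne_zero hb0 hz.symm
  let Z : GL (Fin n) F := Units.map (Matrix.scalar (Fin n) : F →+* Matrix (Fin n) (Fin n) F).toMonoidHom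
    (Units.mk0 z hz0)
  have hZ : (Z : Matrix (Fin n) (Fin n) F) = z • 1 := by
    ext i j; simp [Z, Matrix.one_apply, Matrix.diagonal_apply]
  refine ⟨F₁, r, Z * B⁻¹, hr, hcard, hne, hcase, fun u v hu hv => ?_, ?_⟩
  · rw [one_mul, Units.val_mul, hZ, Matrix.smul_mul, one_mul, hermForm_eq_sesq hF, sesq_mulVec, ← hσ,
      ← hBi]
    have hmap : (z • Bi).map σ = σ z • Bi.map σ := by ext i j; simp
    rw [mul_one, Matrix.transpose_smul, hmap, Matrix.smul_mul, Matrix.mul_smul, smul_smul, ← hG', hG'a, smul_smul,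
      show z * σ z * a = μ by
        rw [hσ, conjHom_apply', ← pow_succ', hz, hb]
        field_simp]
    simp only [sesq, dotProduct, Matrix.mulVec, Matrix.smul_apply, smul_eq_mul, Function.comp_apply]
    exact sum_mem fun i _ => mul_mem (hu i) (sum_mem fun j _ => mul_mem (mul_mem hμmem (hG0mem i j))
      (hσmem _ (hv j)))
  · have hconj : MulAut.conj (Z * B⁻¹) = MulAut.conj (B⁻¹ : GL (Fin n) F) := by
      refine MulEquiv.ext fun g => Units.ext ?_
      have hcz : Z * (B⁻¹ * g * B) * Z⁻¹ = B⁻¹ * g * B := by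
        rw [mul_inv_eq_iff_eq_mul]
        refine Units.ext ?_
        rw [Units.val_mul, Units.val_mul _ Z, hZ, Matrix.smul_mul, one_mul, Matrix.mul_smul, mul_one]
      simp only [MulAut.conj_apply, _root_.mul_inv_rev, inv_inv]
      rw [show Z * B⁻¹ * g * (B * Z⁻¹) = Z * (B⁻¹ * g * B) * Z⁻¹ by group, hcz]
    simp only [Geo.subfieldSubgroup, hconj]
    exact hle

theorem alg_adjU_mem (hF : Fintype.card F = q ^ 2) {N : Subgroup (GL (Fin n) F)} (hN : N ≤ Cfsg.GU n F q)
    {x : Matrix (Fin n) (Fin n) F} (hx : x ∈ alg N) : adjU hF x ∈ alg N := by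
  induction hx using Algebra.adjoin_induction with
  | mem y hy =>
    obtain ⟨g, hg, rfl⟩ := hy
    rw [adjU_of_mem_GU hF (hN hg)]
    exact Algebra.subset_adjoin (mem_matrixSet (inv_mem hg))
  | algebraMap c =>
    rw [Algebra.algebraMap_eq_smul_one, adjU_smul, adjU_one]
    exact Subalgebra.smul_mem _ (one_mem _) _
  | add a b _ _ ha hb => rw [adjU_add]; exact add_mem ha hb
  | mul a b _ _ ha hb => rw [adjU_mul]; exact mul_mem hb ha

/-- A frame of a group of isometries consists of mutually orthogonal non-degenerate lines. -/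
theorem frame_orthogonal (hF : Fintype.card F = q ^ 2) (hn : 2 ≤ n) (hodd : Odd n)
    {H N : Subgroup (GL (Fin n) F)} (hH : H ≤ Cfsg.GU n F q) (hN : N ≤ H) {e : Fin n → Matrix (Fin n) (Fin n) F}
    (he : IsFrame H N e) :
    ∃ D : Fin n → Submodule F (Fin n → F),
      Geo.IsNondegenerateMDecomposition hq 1 D ∧ H ≤ Geo.decompositionStabilizer D := by
  classical
  have hmem : ∀ i, adjU hF (e i) ∈ alg N := fun i => alg_adjU_mem hF (hN.trans hH) (he.mem i)
  have hidem : ∀ i, adjU hF (e i) * adjU hF (e i) = adjU hF (e i) := fun i => by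
    rw [← adjU_mul, he.idem]
  have hzero : adjU hF (0 : Matrix (Fin n) (Fin n) F) = 0 := by
    ext i j; simp only [adjU, Matrix.transpose_apply, Matrix.map_apply, Matrix.zero_apply, map_zero]
  have hne : ∀ i, adjU hF (e i) ≠ 0 := fun i h => he.frame_ne_zero i (by
    rw [← adjU_adjU hF (e i), h, hzero])
  have hex : ∀ i, ∃ j, adjU hF (e i) = e j := by
    intro i
    obtain ⟨j, hj⟩ : ∃ j, adjU hF (e i) * e j ≠ 0 := by
      by_contra hc
      simp only [not_exists, not_not] at hc
      refine hne i ?_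
      rw [← mul_one (adjU hF (e i)), ← he.sum_eq, Finset.mul_sum]
      exact Finset.sum_eq_zero fun k _ => hc k
    have h1 := (he.atom j _ (hmem i) (hidem i)).resolve_left hj
    have h2 : adjU hF (e j) * e i = adjU hF (e j) := by
      have := congrArg (adjU hF) h1
      rwa [adjU_mul, adjU_adjU] at this
    have h3 : adjU hF (e j) * e i ≠ 0 := fun h => hne j (h2.symm.trans h)
    have h4 := (he.atom i _ (hmem j) (hidem j)).resolve_left h3
    exact ⟨j, by rw [show e i = adjU hF (e j) from h4.symm.trans h2, adjU_adjU]⟩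
  choose π hπ using hex
  have hinj : ∀ i j, e i = e j → i = j := fun i j h => by
    by_contra hne'
    have := he.ortho i j hne'
    rw [← h, he.idem] at this
    exact he.frame_ne_zero i this
  have hππ : ∀ i, π (π i) = i := fun i => hinj _ _ (by rw [← hπ, ← hπ, adjU_adjU])
  obtain ⟨i₀, hi₀⟩ : ∃ i, π i = i := by
    by_contra hc
    simp only [not_exists] at hc
    let πe : Equiv.Perm (Fin n) := ⟨π, π, hππ, hππ⟩
    have hsq : πe ^ 2 ^ 1 = 1 := Equiv.ext fun i => by simp [πe, pow_two, hππ]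
    have hdvd : ¬ 2 ∣ Fintype.card (Fin n) := by
      rw [Fintype.card_fin, ← even_iff_two_dvd]
      exact Nat.not_even_iff_odd.mpr hodd
    have : Fact (Nat.Prime 2) := ⟨Nat.prime_two⟩
    obtain ⟨a, ha⟩ := Equiv.Perm.exists_fixed_point_of_prime hdvd hsq
    exact hc a ha
  have hcjadj : ∀ h ∈ H, ∀ x, adjU hF (cj h x) = cj h (adjU hF x) := by
    intro h hh x
    rw [cj_apply, adjU_mul, adjU_mul, adjU_of_mem_GU hF (hH hh), adjU_of_mem_GU hF (inv_mem (hH hh)), inv_inv,
      cj_apply, mul_assoc]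
  have hall : ∀ i, adjU hF (e i) = e i := by
    intro i
    obtain ⟨h, hh, hhe⟩ := he.trans i₀ i
    rw [← hhe, hcjadj h hh, hπ i₀, hi₀]
  obtain ⟨hD, hle⟩ := he.decomposition (Equiv.refl (Fin n)) hn
  refine ⟨_, ⟨hD, fun i w hw hw0 => ?_, fun i j hij => ?_⟩, hle⟩
  · have hew : e i *ᵥ w = w := by
      obtain ⟨y, rfl⟩ := hw
      simp [Matrix.mulVec_mulVec, he.idem]
    obtain ⟨⟨x, hx⟩, ⟨y, hy⟩⟩ := (hermForm_unitary hF).nondegenerate w hw0
    refine ⟨⟨e i *ᵥ x, ⟨x, rfl⟩, ?_⟩, ⟨e i *ᵥ y, ⟨y, rfl⟩, ?_⟩⟩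
    · rw [herm_adjU hF, hall, hew]; exact hx
    · rw [← hew, herm_adjU hF, hall, Matrix.mulVec_mulVec, he.idem, ← hall i, ← herm_adjU hF, hew]; exact hy
  · rintro _ ⟨u, rfl⟩ _ ⟨v, rfl⟩
    simp only [Matrix.toLin'_apply, Equiv.refl_apply]
    rw [herm_adjU hF, hall, Matrix.mulVec_mulVec, he.ortho i j hij, Matrix.zero_mulVec,
      (Unitary.hermForm_isHerm hF n).zero_right hF]

/-- The maximal subgroups of `SU_n(q)`, `n ≥ 5` prime. -/
theorem unitary_cases (hF : Fintype.card F = q ^ 2) (hn : n.Prime) (h5 : 5 ≤ n)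
    {H : Subgroup (GL (Fin n) F)} (hH : Geo.IsMaximalIn Γ H) :
    (∃ W : Submodule F (Fin n → F), W ≠ ⊥ ∧ Geo.IsTotallySingularFor hq W ∧
      H = Geo.subspaceStabilizer W ⊓ Γ) ∨
    (∃ W : Submodule F (Fin n → F), W ≠ ⊥ ∧ Geo.IsNondegenerateOn hq W ∧ 2 * Module.finrank F W < n ∧
      H = Geo.subspaceStabilizer W ⊓ Γ) ∨
    (∃ D : Fin n → Submodule F (Fin n → F), Geo.IsNondegenerateMDecomposition hq 1 D ∧
      H = Geo.decompositionStabilizer D ⊓ Γ) ∨
    (∃ K : Subalgebra F (Matrix (Fin n) (Fin n) F), Geo.IsFieldSubalgebra n K ∧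
      Geo.IsAdjointClosedFor hq K ∧ H = Geo.subalgebraNormalizer K ⊓ Γ) ∨
    (∃ (F₀ : Subfield F) (r : ℕ) (P : GL (Fin n) F), r.Prime ∧ Odd r ∧ Fintype.card F = Nat.card F₀ ^ r ∧
      Geo.IsFormRationalStructure hq F₀ 1 P ∧ H = Geo.subfieldSubgroup F₀ P ⊓ Γ) ∨
    (Odd q ∧ ∃ (F₀ : Subfield F) (P : GL (Fin n) F), Fintype.card F = Nat.card F₀ ^ 2 ∧
      Geo.IsFormRationalStructure hq F₀ 1 P ∧ H = Geo.subfieldSubgroup F₀ P ⊓ Γ) ∨
    (∃ (p b : ℕ) (R : Subgroup (GL (Fin n) F)), p.Prime ∧ CharP F p ∧ q = p ^ b ∧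
      2 * b = orderOf (p : ZMod n) ∧ Geo.IsSymplecticTypeGroup n R ∧
      Geo.ActsAbsolutelyIrreducibly (Geo.matrixSet R) ∧ R ≤ Cfsg.GU n F q ∧
      R ≤ Geo.similarityGroup hq ∧ Nat.card R = n ^ 3 ∧ Nat.card (Subgroup.center R) = n ∧
      H = Geo.subgroupNormalizer R ⊓ Γ) ∨
    Geo.InUnitaryResidualClass H := by
  classical
  have hodd : Odd n := hn.odd_of_ne_two (by omega)
  have hn3 : 3 ≤ n := by omega
  have hcard : Fintype.card (Fin n) = n := Fintype.card_fin n
  have : Nonempty (Fin n) := ⟨⟨0, by omega⟩⟩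
  have HH := Unitary.hermForm_isHerm hF n
  have key : ∀ M : Subgroup (GL (Fin n) F), H ≤ M → ¬ Γ ≤ M → H = M ⊓ Γ := by
    intro M h1 h2
    rcases hH.2 (M ⊓ Γ) (le_inf h1 hH.1.le) inf_le_right with h | h
    · exact h.symm
    · exact absurd (h ▸ inf_le_left) h2
  have hHU : H ≤ Cfsg.GU n F q := hH.1.le.trans inf_le_left
  have hHS : H ≤ Geo.specialLinear (Fin n) F := hH.1.le.trans inf_le_right
  by_cases hirr : Geo.ActsIrreducibly (Geo.matrixSet H)
  swap
  · simp only [Geo.ActsIrreducibly, not_forall, not_or] at hirr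
    obtain ⟨W, hW, hb, ht⟩ := hirr
    have hWm : ∀ g ∈ H, ∀ w ∈ W, (g : Matrix (Fin n) (Fin n) F) *ᵥ w ∈ W :=
      fun g hg => (mapsTo_iff_mulVec _ W).mp (hW _ (mem_matrixSet hg))
    set k := Module.finrank F W with hk
    let bW := Module.finBasis F W
    let Φ : (Fin n → F) →ₗ[F] (Fin k → F) :=
      LinearMap.pi fun i => Transvect.ufl (hermForm_unitary hF) (bW i : Fin n → F)
    set W' := LinearMap.ker Φ with hW'
    have hmem : ∀ x, x ∈ W' ↔ ∀ w ∈ W, hq x w = 0 := by
      intro x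
      rw [hW', LinearMap.mem_ker]
      constructor
      · intro h w hw
        have h1 := congrArg Subtype.val (bW.sum_repr ⟨w, hw⟩)
        simp only [Submodule.coe_sum, Submodule.coe_smul] at h1
        rw [← h1, HH.sum_right hF]
        refine Finset.sum_eq_zero fun i _ => ?_
        rw [HH.smul_right]
        have h2 : hq x (bW i : Fin n → F) = 0 := congrFun h i
        rw [h2, mul_zero]
      · intro h
        funext i
        exact h _ (bW i).2
    have hstab : H ≤ Geo.subspaceStabilizer W' := by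
      intro g hg
      refine Transvect.mem_stab_of_le fun x hx => ?_
      rw [hmem] at hx ⊢
      intro w hw
      rw [Transvect.app_apply]
      have h1 := hWm g⁻¹ (inv_mem hg) w hw
      have h2 := hHU hg x (((g⁻¹ : GL (Fin n) F) : Matrix (Fin n) (Fin n) F) *ᵥ w)
      simp only [Units.coeHom_apply, Matrix.mulVec_mulVec w, Units.mul_inv, Matrix.one_mulVec] at h2
      rw [h2]
      exact hx _ h1
    have hstabW : H ≤ Geo.subspaceStabilizer W := fun g hg =>
      Transvect.mem_stab_of_le fun w hw => by rw [Transvect.app_apply]; exact hWm g hg w hw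
    have hkn : k < n := by
      have := Submodule.finrank_lt ht
      simpa using this
    have hdim : n ≤ k + Module.finrank F W' := by
      have h1 := LinearMap.finrank_range_add_finrank_ker Φ
      have h2 := Submodule.finrank_le (LinearMap.range Φ)
      simp at h1 h2
      rw [← hW'] at h1
      omega
    have hW'b : W' ≠ ⊥ := fun h => by rw [h, finrank_bot] at hdim; omega
    by_cases hts : W ⊓ W' = ⊥
    swap
    · refine Or.inl ⟨W ⊓ W', hts, fun u hu v hv => (hmem u).mp hu.2 v hv.1, key _ ?_ ?_⟩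
      · exact fun g hg => Transvect.mem_stab_of_le fun w hw =>
          ⟨(Transvect.mem_stab_iff.mp (hstabW hg)) w hw.1, (Transvect.mem_stab_iff.mp (hstab hg)) w hw.2⟩
      · exact not_su_le_subspaceStabilizer hF (by omega) hts fun h => ht (eq_top_iff.mpr (h ▸ inf_le_left))
    have hdim2 : k + Module.finrank F W' ≤ n := by
      have h1 := Submodule.finrank_sup_add_finrank_inf_eq W W'
      have h2 := Submodule.finrank_le (W ⊔ W')
      rw [hts, finrank_bot] at h1
      simp at h2
      omega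
    have htop : W ⊔ W' = ⊤ := by
      refine Submodule.eq_top_of_finrank_eq ?_
      have h1 := Submodule.finrank_sup_add_finrank_inf_eq W W'
      rw [hts, finrank_bot] at h1
      simp
      omega
    have hndW : Geo.IsNondegenerateOn hq W := by
      intro w hw hw0
      obtain ⟨x, hx⟩ : ∃ x ∈ W, hq w x ≠ 0 := by
        by_contra hc
        simp only [not_exists, not_and, not_not] at hc
        have : w ∈ W ⊓ W' := ⟨hw, (hmem w).mpr hc⟩
        rw [hts] at this
        exact hw0 this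
      exact ⟨⟨x, hx.1, fun h => hx.2 ((HH.eq_zero_symm hF).mp h)⟩, x, hx⟩
    have hndW' : Geo.IsNondegenerateOn hq W' := by
      intro w hw hw0
      obtain ⟨y, hy⟩ := ((hermForm_unitary hF).nondegenerate w hw0).2
      obtain ⟨a, ha, c, hc, rfl⟩ := Submodule.mem_sup.mp (htop ▸ Submodule.mem_top : y ∈ W ⊔ W')
      rw [HH.add_right hF, (hmem w).mp hw a ha, zero_add] at hy
      exact ⟨⟨c, hc, fun h => hy ((HH.eq_zero_symm hF).mp h)⟩, c, hc, hy⟩
    right; left
    by_cases h2k : 2 * k < n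
    · exact ⟨W, hb, hndW, h2k, key _ hstabW (not_su_le_subspaceStabilizer hF (by omega) hb ht)⟩
    · have hpar := Nat.odd_iff.mp hodd
      refine ⟨W', hW'b, hndW', by omega, key _ hstab (not_su_le_subspaceStabilizer (n := n) (q := q) hF hn3 hW'b fun h => ?_)⟩
      rw [h, inf_top_eq] at hts
      exact hb hts
  have hsub : ∀ P : Subgroup (GL (Fin n) F), P ≤ H → NormBy H P → Submodule.span F (Geo.matrixSet P) = ⊤ →
      Geo.ActsAbsolutelyIrreducibly (Geo.matrixSet P) →
      ∀ F₀ : Subfield F, F₀ ≠ ⊤ → Geo.RealisableOver F₀ (Geo.matrixSet P) →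
      (∃ (F₀ : Subfield F) (r : ℕ) (P : GL (Fin n) F), r.Prime ∧ Odd r ∧ Fintype.card F = Nat.card F₀ ^ r ∧
        Geo.IsFormRationalStructure hq F₀ 1 P ∧ H = Geo.subfieldSubgroup F₀ P ⊓ Γ) ∨
      (Odd q ∧ ∃ (F₀ : Subfield F) (P : GL (Fin n) F), Fintype.card F = Nat.card F₀ ^ 2 ∧
        Geo.IsFormRationalStructure hq F₀ 1 P ∧ H = Geo.subfieldSubgroup F₀ P ⊓ Γ) := by
    intro P hP hnorm hspan habs F₀ hF₀ hreal
    obtain ⟨F₁, r, B, hr, hc, hne, hcase, hform, hle⟩ :=
      exists_form_rational hF (by omega) hodd hnorm (hP.trans hHU) hspan habs hF₀ hreal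
    have heq := key _ hle (not_su_le_subfieldSubgroup hF h5 hodd hne B)
    rcases hcase with h | ⟨rfl, hq'⟩
    · exact Or.inl ⟨F₁, r, B, hr, h, hc, hform, heq⟩
    · exact Or.inr ⟨hq', F₁, B, hc, hform, heq⟩
  rcases trichotomy (hcard.symm ▸ hn) (hcard.symm ▸ hodd) hHS hirr with
    ⟨N, e, hN, he⟩ | ⟨N, hN, -, hK, hle⟩ | ⟨R, hR⟩ | ⟨P, hP⟩
  · obtain ⟨D, hD, hle⟩ := frame_orthogonal hF (by omega) hodd hHU hN he
    exact Or.inr (Or.inr (Or.inl ⟨D, hD, key _ hle (not_su_le_decompositionStabilizer hF (by omega) hD)⟩))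
  · refine Or.inr (Or.inr (Or.inr (Or.inl ⟨alg N, ⟨hK.comm, hK.inv, hK.finrank_eq.trans hcard⟩, ?_,
      key _ hle (not_su_le_subalgebraNormalizer hF (by omega) (by omega : 2 ≤ n)
        ⟨hK.comm, hK.inv, hK.finrank_eq.trans hcard⟩)⟩)))
    exact fun k hk => ⟨adjU hF k, alg_adjU_mem hF (hN.trans hHU) hk, herm_adjU hF k⟩
  · rcases hR.field_cases with ⟨F₀, hF₀, hreal⟩ | ⟨p, e, hne, hmin, hord⟩
    · exact Or.inr (Or.inr (Or.inr (Or.inr ((hsub R hR.le hR.norm hR.span_eq hR.absIrred F₀ hF₀ hreal).elim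
        Or.inl (fun h => Or.inr (Or.inl h))))))
    obtain ⟨hp, hchar, hqe, -, -⟩ := hmin
    rw [hF] at hqe
    obtain ⟨b, -, hb⟩ := (Nat.dvd_prime_pow hp).mp (hqe ▸ dvd_pow_self q two_ne_zero : q ∣ p ^ e)
    have heb : e = 2 * b := by
      refine (Nat.pow_right_injective hp.two_le ?_).symm
      show p ^ (2 * b) = p ^ e
      rw [← hqe, hb, ← pow_mul, mul_comm]
    refine Or.inr (Or.inr (Or.inr (Or.inr (Or.inr (Or.inr (Or.inl ⟨p, b, R, hp, hchar, hb, ?_, ?_, hR.absIrred,
      hR.le.trans hHU, ?_, ?_, ?_, key _ ?_ (not_su_le_normalizer hF h5 hR)⟩))))))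
    · rw [← heb, hord, hcard]
    · have := hR.sympType; rwa [hcard] at this
    · exact fun g hg => ⟨1, fun u v => by rw [Units.val_one, one_mul]; exact hHU (hR.le hg) u v⟩
    · rw [hR.card_eq, hcard]
    · rw [hR.card_center, hcard]
    · intro g hg
      refine Subgroup.mem_normalizer_iff.mpr fun x => ⟨hR.norm g hg x, fun hx => ?_⟩
      have := hR.norm g⁻¹ (inv_mem hg) _ hx
      simpa [mul_assoc] using this
  · by_cases hreal : ∃ F₀ : Subfield F, F₀ ≠ ⊤ ∧ Geo.RealisableOver F₀ (Geo.matrixSet P)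
    · obtain ⟨F₀, hF₀, hr⟩ := hreal
      exact Or.inr (Or.inr (Or.inr (Or.inr ((hsub P hP.le hP.normal hP.span_eq hP.absIrred F₀ hF₀ hr).elim
        Or.inl (fun h => Or.inr (Or.inl h))))))
    refine Or.inr (Or.inr (Or.inr (Or.inr (Or.inr (Or.inr (Or.inr
      ⟨P, hP.residualCore fun F₀ h hr => hreal ⟨F₀, h, hr⟩, ?_,
        fun ⟨f, hf, _⟩ => not_isSymplecticForm (hcard.symm ▸ hodd) hf⟩))))))
    rintro ⟨Q, hQ, hfix⟩
    refine hreal ⟨Unitary.fixedField hF, fun htop => Unitary.conjHom_ne_id hF (RingHom.ext fun x => ?_), ?_⟩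
    · exact (Unitary.mem_fixedField hF).mp (htop ▸ Subfield.mem_top x)
    refine realisableOver_of_trace hP.span_eq hP.absIrred.2 _ fun x hx => ?_
    rw [Unitary.mem_fixedField]
    set G := Geo.gramMatrix (QuadraticMap.polar Q) with hG
    have he := bilinForm_eq_sesq hQ.polar_bilinear
    have hGdet : G.det ≠ 0 := det_ne_zero_of_nondegenerate _ (he ▸ hQ.nondegenerate)
    have h1 : (x : Matrix (Fin n) (Fin n) F)ᵀ * G * (x : Matrix (Fin n) (Fin n) F) = G := by
      have h0 := (sesq_invariant_iff (RingHom.id F) G (x : Matrix (Fin n) (Fin n) F) 1).mp fun u v => by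
        rw [hG, ← he, one_mul, QuadraticMap.polar, QuadraticMap.polar, ← Matrix.mulVec_add,
          hfix _ (mem_matrixSet hx), hfix _ (mem_matrixSet hx), hfix _ (mem_matrixSet hx)]
      simpa using h0
    set X := (x : Matrix (Fin n) (Fin n) F) with hX
    have h2 := gram_of_mem_GU hF (hHU (hP.le hx))
    rw [mul_one, ← hX, mul_eq_one_comm] at h2
    have h3 : X.map (Unitary.conjHom hF) * G = G * X := by
      conv_lhs => rw [← h1]
      rw [← mul_assoc, ← mul_assoc, h2, one_mul]
    have h4 : (X.map (Unitary.conjHom hF)).trace = X.trace := by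
      have h5 : X.map (Unitary.conjHom hF) = G * X * G⁻¹ := by
        rw [← h3, Matrix.mul_nonsing_inv_cancel_right _ _ (isUnit_iff_ne_zero.mpr hGdet)]
      rw [h5, Matrix.trace_mul_cycle, Matrix.nonsing_inv_mul _ (isUnit_iff_ne_zero.mpr hGdet), one_mul]
    rw [← conjHom_apply' hF]
    conv_rhs => rw [← h4]
    simp [Matrix.trace, map_sum]

end Cfsg.Agent.PrimeDim
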