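import Cfsg.Agent.Lib.PrimeDim.Linear
import Cfsg.Agent.Lib.Transvect.Basic

/-!
# `SL_n` lies in no geometric subgroup; monomial groups over tiny fields; maximal subgroups of `SL_n`, `n` prime

* `not_sl_le_*` : properness of every class;
* `small_monomial` : for `|F| ≤ 4` a line stabiliser lies in another class;
* `sl_maximal_cases` : the maximal subgroups of `SL_n(F)`, `n` an odd prime.
-/

set_option autoImplicit false

namespace Cfsg.Agent.PrimeDim

open Matrix

variable {ι : Type} [Fintype ι] [DecidableEq ι] {F : Type*} [Field F]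

local notation "V" => (ι → F)

theorem exists_ker_ne_zero (h3 : 3 ≤ Fintype.card ι) (φ ψ : V →ₗ[F] F) :
    ∃ x : V, x ≠ 0 ∧ φ x = 0 ∧ ψ x = 0 := by
  have h := LinearMap.ker_ne_bot_of_finrank_lt (f := φ.prod ψ) (by
    simp [Module.finrank_fintype_fun_eq_card]; omega)
  obtain ⟨x, hx, hx0⟩ := Submodule.exists_mem_ne_zero_of_ne_bot h
  have h1 := LinearMap.mem_ker.mp hx
  exact ⟨x, hx0, congrArg Prod.fst h1, congrArg Prod.snd h1⟩

theorem exists_dual_ne_zero (h3 : 3 ≤ Fintype.card ι) (u v : V) :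
    ∃ φ : V →ₗ[F] F, φ ≠ 0 ∧ φ u = 0 ∧ φ v = 0 := by
  have h := LinearMap.ker_ne_bot_of_finrank_lt (f := ((LinearMap.applyₗ (R := F) u).prod (LinearMap.applyₗ (R := F) v)
      : (V →ₗ[F] F) →ₗ[F] F × F)) (by
    simp [Subspace.dual_finrank_eq, Module.finrank_fintype_fun_eq_card, Module.finrank_linearMap]; omega)
  obtain ⟨φ, hφ, hφ0⟩ := Submodule.exists_mem_ne_zero_of_ne_bot h
  have h1 := LinearMap.mem_ker.mp hφ
  exact ⟨φ, hφ0, congrArg Prod.fst h1, congrArg Prod.snd h1⟩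

theorem not_sl_le_subspaceStabilizer {W : Submodule F V} (hb : W ≠ ⊥) (ht : W ≠ ⊤) :
    ¬ Geo.specialLinear ι F ≤ Geo.subspaceStabilizer W := by
  intro hle
  obtain ⟨w, hw, hw0⟩ := Submodule.exists_mem_ne_zero_of_ne_bot hb
  obtain ⟨u, -, hu⟩ := SetLike.exists_of_lt (lt_top_iff_ne_top.mpr ht)
  obtain ⟨φ, hφ, hφw⟩ := Transvect.exists_dual_eq_one (W := Submodule.span F {u}) (u := w) (fun h => by
    obtain ⟨c, hc⟩ := Submodule.mem_span_singleton.mp h
    have hc0 : c ≠ 0 := fun h0 => hw0 (by rw [← hc, h0, zero_smul])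
    refine hu ?_
    have := W.smul_mem c⁻¹ hw
    rwa [← hc, smul_smul, inv_mul_cancel₀ hc0, one_smul] at this)
  have h1 := Transvect.mem_stab_iff.mp (hle (Transvect.tv_mem_sl u φ)) w hw
  rw [Transvect.tv_apply (hφ u (Submodule.mem_span_singleton_self u)), hφw, one_smul] at h1
  exact hu (by simpa using W.sub_mem h1 hw)

theorem not_sl_le_decompositionStabilizer {t : ℕ} {D : Fin t → Submodule F V}
    (hD : Geo.IsMDecomposition 1 D) : ¬ Geo.specialLinear ι F ≤ Geo.decompositionStabilizer D := by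
  intro hle
  have hne : ∀ i, ∃ d ∈ D i, d ≠ 0 := fun i => Submodule.exists_mem_ne_zero_of_ne_bot fun h => by
    have := hD.finrank_eq i
    rw [h, finrank_bot] at this
    omega
  let i₀ : Fin t := ⟨0, by have := hD.two_le; omega⟩
  let i₁ : Fin t := ⟨1, by have := hD.two_le; omega⟩
  have h01 : i₀ ≠ i₁ := by simp [i₀, i₁]
  obtain ⟨a, ha, ha0⟩ := hne i₀
  obtain ⟨b, hb, hb0⟩ := hne i₁
  have hdisj : ∀ i j, i ≠ j → ∀ x, x ∈ D i → x ∈ D j → x = 0 := fun i j hij x hi hj =>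
    Submodule.disjoint_def.mp (hD.indep.pairwiseDisjoint hij) x hi hj
  obtain ⟨φ, hφ, hφa⟩ := Transvect.exists_dual_eq_one (W := Submodule.span F {b}) (u := a) (fun h =>
    ha0 (hdisj _ _ h01 a ha ((Submodule.span_singleton_le_iff_mem _ _).mpr hb h)))
  have hφb := hφ b (Submodule.mem_span_singleton_self b)
  obtain ⟨π, hπ⟩ := hle (Transvect.tv_mem_sl b φ)
  have h1 : a + b ∈ D (π i₀) := by
    rw [← hπ i₀]
    refine ⟨a, ha, ?_⟩
    rw [Matrix.toLin'_apply, ← Transvect.app_apply, Transvect.tv_apply hφb, hφa, one_smul]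
  have h2 : π i₁ = i₁ := by
    by_contra h
    refine hb0 (hdisj _ _ h b ?_ hb)
    rw [← hπ i₁]
    refine ⟨b, hb, ?_⟩
    rw [Matrix.toLin'_apply, ← Transvect.app_apply, Transvect.tv_apply hφb, hφb, zero_smul, add_zero]
  by_cases h : π i₀ = i₀
  · rw [h] at h1
    exact hb0 (hdisj _ _ h01 b (by simpa using (D i₀).sub_mem h1 ha) hb)
  · have hne1 : π i₀ ≠ i₁ := fun h' => h01 (π.injective (h'.trans h2.symm))
    have hsup : D i₁ ⊔ D (π i₀) ≤ ⨆ (j) (_ : j ≠ i₀), D j :=
      sup_le (le_iSup₂_of_le i₁ (Ne.symm h01) le_rfl) (le_iSup₂_of_le (π i₀) h le_rfl)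
    have ha' : a ∈ D i₁ ⊔ D (π i₀) := by
      have := Submodule.sub_mem _ (Submodule.mem_sup_right (S := D i₁) h1) (Submodule.mem_sup_left (T := D (π i₀)) hb)
      simpa using this
    exact ha0 (Submodule.disjoint_def.mp (iSupIndep_def.mp hD.indep i₀) a ha (hsup ha'))

theorem IsFieldSubalgebra.isUnit {r : ℕ} {K : Subalgebra F (Matrix ι ι F)} (hK : Geo.IsFieldSubalgebra r K)
    {k : Matrix ι ι F} (hk : k ∈ K) (hk0 : k ≠ 0) : IsUnit k := by
  obtain ⟨y, hy, h⟩ := hK.inv k hk hk0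
  exact isUnit_iff_exists.mpr ⟨y, h, (hK.comm y hy k hk).trans h⟩

/-- A transvection normalises no field subalgebra of degree at least two. -/
theorem tv_not_mem_subalgebraNormalizer (h3 : 3 ≤ Fintype.card ι) {r : ℕ} (hr : 2 ≤ r)
    {K : Subalgebra F (Matrix ι ι F)} (hK : Geo.IsFieldSubalgebra r K) {v : V} {φ : V →ₗ[F] F}
    (hφv : φ v = 0) (hv : v ≠ 0) (hφ : φ ≠ 0) : Transvect.tv v φ ∉ Geo.subalgebraNormalizer K := by
  intro hmem
  have : Nonempty ι := Fintype.card_pos_iff.mp (by omega)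
  obtain ⟨k, hk, hks⟩ : ∃ k ∈ K, ∀ c : F, k ≠ c • 1 := by
    by_contra hcon
    simp only [not_exists, not_and, not_forall, not_not] at hcon
    have : K = ⊥ := by
      refine eq_bot_iff.mpr fun x hx => ?_
      obtain ⟨c, hc⟩ := hcon x hx
      rw [hc]
      exact Subalgebra.smul_mem _ (one_mem _) c
    have h1 := hK.finrank_eq
    rw [this, Subalgebra.finrank_bot] at h1
    omega
  set T := Transvect.tv v φ with hT
  have hk' : cj T k ∈ K := (hmem k).mp hk
  obtain ⟨x, hx0, hx1, hx2⟩ := exists_ker_ne_zero h3 φ (φ ∘ₗ Matrix.toLin' k)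
  have hTx : ∀ y : V, φ y = 0 → (T : Matrix ι ι F) *ᵥ y = y := fun y hy => by
    rw [← Transvect.app_apply, hT, Transvect.tv_apply hφv, hy, zero_smul, add_zero]
  have hfix : (cj T k - k) *ᵥ x = 0 := by
    have h1 := mulVec_cj T k x
    rw [hTx x hx1, hTx (k *ᵥ x) (by simpa using hx2)] at h1
    rw [Matrix.sub_mulVec, h1, sub_self]
  have heq : cj T k = k := by
    by_contra hne
    obtain ⟨u, hu⟩ := IsFieldSubalgebra.isUnit hK (K.sub_mem hk' hk) (sub_ne_zero.mpr hne)
    rw [← hu] at hfix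
    have := congrArg (((u⁻¹ : GL ι F) : Matrix ι ι F) *ᵥ ·) hfix
    simp [Matrix.mulVec_mulVec] at this
    exact hx0 this
  rw [cj_eq_self_iff] at heq
  have h2 : ∀ y, φ (k *ᵥ y) • v = φ y • (k *ᵥ v) := fun y => by
    have h := congrArg (fun M => M *ᵥ y) heq
    simp only [← Matrix.mulVec_mulVec] at h
    rw [← Transvect.app_apply, ← Transvect.app_apply, hT, Transvect.tv_apply hφv, Transvect.tv_apply hφv,
      Matrix.mulVec_add, Matrix.mulVec_smul] at h
    exact add_left_cancel h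
  obtain ⟨y, hy⟩ : ∃ y, φ y ≠ 0 := by
    by_contra hcon
    simp only [not_exists, not_not] at hcon
    exact hφ (LinearMap.ext fun y => hcon y)
  set a := (φ y)⁻¹ * φ (k *ᵥ y) with ha
  have h4 : (k - a • (1 : Matrix ι ι F)) *ᵥ v = 0 := by
    rw [Matrix.sub_mulVec, Matrix.smul_mulVec, Matrix.one_mulVec, sub_eq_zero, ha, mul_smul, h2 y, smul_smul,
      inv_mul_cancel₀ hy, one_smul]
  obtain ⟨u, hu⟩ := IsFieldSubalgebra.isUnit hK (K.sub_mem hk (K.smul_mem (one_mem _) a))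
    (sub_ne_zero.mpr (hks a))
  rw [← hu] at h4
  have := congrArg (((u⁻¹ : GL ι F) : Matrix ι ι F) *ᵥ ·) h4
  simp [Matrix.mulVec_mulVec] at this
  exact hv this

theorem not_sl_le_subalgebraNormalizer (h3 : 3 ≤ Fintype.card ι) {r : ℕ} (hr : 2 ≤ r)
    {K : Subalgebra F (Matrix ι ι F)} (hK : Geo.IsFieldSubalgebra r K) :
    ¬ Geo.specialLinear ι F ≤ Geo.subalgebraNormalizer K := by
  intro hle
  have : Nonempty ι := Fintype.card_pos_iff.mp (by omega)
  obtain ⟨v, hv⟩ := exists_ne (0 : V)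
  obtain ⟨φ, hφ, hφv, -⟩ := exists_dual_ne_zero h3 v v
  exact tv_not_mem_subalgebraNormalizer h3 hr hK hφv hv hφ (hle (Transvect.tv_mem_sl v φ))

/-- The entries of a member of a subfield group. -/
theorem exists_smul_entries {F₀ : Subfield F} {B g : GL ι F} (hg : g ∈ Geo.subfieldSubgroup F₀ B) :
    ∃ c : F, c ≠ 0 ∧ ∀ i j, c * cj B⁻¹ (g : Matrix ι ι F) i j ∈ F₀ := by
  obtain ⟨h, hh, rfl⟩ := hg
  have hback : cj B⁻¹ (((MulAut.conj B).toMonoidHom h : GL ι F) : Matrix ι ι F) = (h : Matrix ι ι F) := by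
    rw [cj_coe]; congr 1; simp [mul_assoc]
  rw [hback]
  clear hback
  replace hh : h ∈ (Matrix.GeneralLinearGroup.map (n := ι) (F₀.subtype : F₀ →+* F)).range ⊔ Geo.scalars ι F := hh
  rw [Subgroup.mem_sup_of_normal_right] at hh
  obtain ⟨_, ⟨m, rfl⟩, z, hz, rfl⟩ := hh
  obtain ⟨c, hc⟩ := (Geo.mem_scalars_iff _).mp hz
  refine ⟨(c : F)⁻¹, inv_ne_zero c.ne_zero, fun i j => ?_⟩
  rw [Units.val_mul, hc, Matrix.mul_smul, mul_one, Matrix.smul_apply, smul_eq_mul, ← mul_assoc,
    inv_mul_cancel₀ c.ne_zero, one_mul]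
  exact ((m : Matrix ι ι F₀) i j).2

theorem not_sl_le_subfieldSubgroup (h2 : 2 ≤ Fintype.card ι) {F₀ : Subfield F} (hF₀ : F₀ ≠ ⊤) (B : GL ι F) :
    ¬ Geo.specialLinear ι F ≤ Geo.subfieldSubgroup F₀ B := by
  intro hle
  obtain ⟨a, -, ha⟩ := SetLike.exists_of_lt (lt_top_iff_ne_top.mpr hF₀)
  have : Nonempty ι := Fintype.card_pos_iff.mp (by omega)
  obtain ⟨i⟩ := ‹Nonempty ι›
  obtain ⟨j, hj⟩ := Fintype.exists_ne_of_one_lt_card (by omega) i
  set T := Transvect.elem i j a with hT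
  have hTm : B * T * B⁻¹ ∈ Geo.specialLinear ι F := by
    have h1 : T ∈ Geo.specialLinear ι F := Transvect.tv_mem_sl _ _
    rw [Geo.specialLinear, MonoidHom.mem_ker] at h1 ⊢
    rw [map_mul, map_mul, h1, mul_one, ← map_mul, mul_inv_cancel, map_one]
  obtain ⟨c, hc0, hc⟩ := exists_smul_entries (hle hTm)
  have hback : cj B⁻¹ ((B * T * B⁻¹ : GL ι F) : Matrix ι ι F) = (T : Matrix ι ι F) := by
    rw [cj_coe]; congr 1; simp [mul_assoc]
  rw [hback, hT, Transvect.elem_val (Ne.symm hj)] at hc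
  have h1 := hc i i
  have h2 := hc i j
  simp [Matrix.transvection, hj, Ne.symm hj, Matrix.single] at h1 h2
  refine ha ?_
  have := mul_mem (inv_mem h1) h2
  rwa [← mul_assoc, inv_mul_cancel₀ hc0, one_mul] at this

theorem not_sl_le_similarityGroup (h3 : 3 ≤ Fintype.card ι) {f : V → V → F}
    (hadd : ∀ v x y, f v (x + y) = f v x + f v y)
    (hsmul : ∀ (c : F) (v x : V), c ≠ 0 → f v x ≠ 0 → f v (c • x) ≠ 0) (hne : Geo.IsNondegenerateForm f) :
    ¬ Geo.specialLinear ι F ≤ Geo.similarityGroup f := by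
  intro hle
  have : Nonempty ι := Fintype.card_pos_iff.mp (by omega)
  obtain ⟨v, hv⟩ := exists_ne (0 : V)
  obtain ⟨u, hu⟩ := (hne v hv).1
  obtain ⟨φ, hφ, hφu, hφv⟩ := exists_dual_ne_zero h3 u v
  obtain ⟨c, hc⟩ := hle (Transvect.tv_mem_sl v φ)
  have hT : ∀ y : V, (Transvect.tv v φ : Matrix ι ι F) *ᵥ y = y + φ y • v := fun y => by
    rw [← Transvect.app_apply, Transvect.tv_apply hφv]
  have h1 := hc u v
  rw [hT, hT, hφu, hφv, zero_smul, add_zero, add_zero] at h1
  have hc1 : (c : F) = 1 := (mul_eq_right₀ hu).mp h1.symm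
  obtain ⟨y, hy⟩ : ∃ y, φ y ≠ 0 := by
    by_contra hcon
    simp only [not_exists, not_not] at hcon
    exact hφ (LinearMap.ext fun y => hcon y)
  have h2 := hc u y
  rw [hT, hT, hφu, zero_smul, add_zero, hc1, one_mul, hadd, add_eq_left] at h2
  exact hsmul (φ y) u v hy hu h2

theorem not_sl_le_normalizer (h3 : 3 ≤ Fintype.card ι) {H R : Subgroup (GL ι F)}
    (hR : IsExtraspecialData H R) : ¬ Geo.specialLinear ι F ≤ Geo.subgroupNormalizer R := by
  classical
  intro hle
  have : Nonempty ι := Fintype.card_pos_iff.mp (by omega)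
  set n := Fintype.card ι with hn
  have hnp : n.Prime := hR.sympType.prime
  obtain ⟨ζ, hζ, -⟩ := hR.root
  have hn0 : (n : F) ≠ 0 := by
    have : NeZero n := ⟨hnp.ne_zero⟩
    exact (hζ.neZero').out
  have hpow : ∀ x ∈ R, x ^ n = 1 := by
    intro x hx
    have h1 : Monoid.exponent R = n := by
      rw [hR.sympType.exponent_eq,
        show Nat.gcd 2 n = 1 from Nat.coprime_two_left.mpr (hnp.odd_of_ne_two (by omega)), mul_one]
    have h2 := Monoid.pow_exponent_eq_one (⟨x, hx⟩ : R)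
    rw [h1] at h2
    exact congrArg Subtype.val h2
  obtain ⟨x, hx, hxs⟩ : ∃ x ∈ R, x ∉ Geo.scalars ι F := by
    by_contra hcon
    simp only [not_exists, not_and, not_not] at hcon
    have hspan : ∀ M ∈ Submodule.span F (Geo.matrixSet R), ∃ c : F, M = c • 1 := by
      intro M hM
      induction hM using Submodule.span_induction with
      | mem y hy =>
        obtain ⟨y, hy, rfl⟩ := hy
        obtain ⟨c, hc⟩ := (Geo.mem_scalars_iff _).mp (hcon y hy)
        exact ⟨c, hc⟩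
      | zero => exact ⟨0, by simp⟩
      | add p q _ _ hp hq => obtain ⟨a, rfl⟩ := hp; obtain ⟨b, rfl⟩ := hq; exact ⟨a + b, (add_smul _ _ _).symm⟩
      | smul r p _ hp => obtain ⟨a, rfl⟩ := hp; exact ⟨r * a, smul_smul _ _ _⟩
    obtain ⟨i⟩ := ‹Nonempty ι›
    obtain ⟨j, hj⟩ := Fintype.exists_ne_of_one_lt_card (by omega) i
    obtain ⟨c, hc⟩ := hspan (Matrix.single i j 1) (by rw [hR.span_eq]; trivial)
    have := congrFun (congrFun hc i) j
    simp [Ne.symm hj] at this
  set X : Matrix ι ι F := (x : Matrix ι ι F) with hX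
  have hXn : X ^ n = 1 := by
    rw [hX, ← Units.val_pow_eq_pow_val, hpow x hx, Units.val_one]
  set S : Matrix ι ι F := ∑ i ∈ Finset.range n, X ^ i with hS
  have hXS : X * S = S := by
    have h1 := mul_geom_sum X n
    rw [← hS, hXn, sub_self, sub_mul, one_mul] at h1
    exact sub_eq_zero.mp h1
  have htr : S.trace = (n : F) := by
    rw [hS, trace_sum, Finset.sum_eq_single 0]
    · simp [hn]
    · intro i hi hi0
      rw [hX, ← Units.val_pow_eq_pow_val]
      rcases hR.trace_eq _ (pow_mem hx i) with h | ⟨c, hc, hxc⟩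
      · exact h
      · exfalso
        refine hxs ?_
        have hcop : Nat.Coprime i n := by
          refine (Nat.Coprime.symm ?_)
          rw [hnp.coprime_iff_not_dvd]
          exact Nat.not_dvd_of_pos_of_lt (Nat.pos_of_ne_zero hi0) (Finset.mem_range.mp hi)
        obtain ⟨m, hm⟩ := Nat.exists_mul_mod_eq_one_of_coprime hcop hnp.one_lt
        have h1 : (x ^ i) ^ m = x := by
          rw [← pow_mul, ← Nat.div_add_mod (i * m) n, pow_add, pow_mul x n, hpow x hx, one_pow, one_mul, hm.2, pow_one]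
        rw [← h1]
        exact pow_mem (smul_one_mem_scalars hxc) m
    · intro h; exact absurd (Finset.mem_range.mpr hnp.pos) h
  obtain ⟨w, hw0, hxw⟩ : ∃ w : V, w ≠ 0 ∧ X *ᵥ w = w := by
    obtain ⟨i, hi⟩ : ∃ i, S *ᵥ Pi.single i 1 ≠ 0 := by
      by_contra hcon
      simp only [not_exists, not_not] at hcon
      have hS0 : S = 0 := Matrix.ext_of_mulVec_single fun i => by rw [hcon, Matrix.zero_mulVec]
      rw [hS0, Matrix.trace_zero] at htr
      exact hn0 htr.symm
    exact ⟨_, hi, by rw [Matrix.mulVec_mulVec, hXS]⟩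
  have hkey : ∀ φ : V →ₗ[F] F, φ w = 0 → ∀ z, φ (((x⁻¹ : GL ι F) : Matrix ι ι F) *ᵥ z - z) = 0 := by
    intro φ hφ
    set ψ : V →ₗ[F] F := φ - φ ∘ₗ (Transvect.app x⁻¹).toLinearMap with hψ
    have hxw' : Transvect.app x w = w := hxw
    have hxw'' : Transvect.app x⁻¹ w = w := by
      conv_lhs => rw [← hxw', Transvect.app_inv_app]
    have hcomp : (φ ∘ₗ (Transvect.app x⁻¹).toLinearMap) w = 0 := by
      simp only [LinearMap.comp_apply, LinearEquiv.coe_coe, hxw'', hφ]
    have hψw : ψ w = 0 := by rw [hψ, LinearMap.sub_apply, hφ, hcomp, sub_zero]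
    have hy : Transvect.tv w ψ ∈ R := by
      have h1 := (Subgroup.mem_normalizer_iff.mp (hle (Transvect.tv_mem_sl w φ)) x).mp hx
      have h2 : Transvect.tv w ψ = Transvect.tv w φ * x * (Transvect.tv w φ)⁻¹ * x⁻¹ := by
        have h3 : x * (Transvect.tv w φ)⁻¹ * x⁻¹ = Transvect.tv w (-(φ ∘ₗ (Transvect.app x⁻¹).toLinearMap)) := by
          rw [Transvect.tv_inv hφ, Transvect.tv_conj (by simp [hφ]), hxw', LinearMap.neg_comp]
        rw [mul_assoc (Transvect.tv w φ) x, mul_assoc, h3,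
          ← Transvect.tv_add hφ (by simp only [LinearMap.neg_apply, hcomp, neg_zero]), ← sub_eq_add_neg]
      rw [h2]
      exact mul_mem h1 (inv_mem hx)
    have hpw : ∀ m : ℕ, Transvect.tv w ψ ^ m = Transvect.tv w ((m : F) • ψ) := by
      intro m
      induction m with
      | zero => simp
      | succ m ih =>
        rw [pow_succ, ih, ← Transvect.tv_add (by simp [hψw]) hψw, Nat.cast_succ, add_smul, one_smul]
    intro z
    have h4 := congrArg (fun g => Transvect.app g z) ((hpw n).symm.trans (hpow _ hy))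
    simp only [Transvect.tv_apply (show ((n : F) • ψ) w = 0 by simp [hψw]), map_one, LinearEquiv.coe_one,
      id_eq, add_eq_left, smul_eq_zero, LinearMap.smul_apply] at h4
    have h5 : ψ z = 0 := (h4.resolve_right hw0).resolve_left hn0
    rw [map_sub, ← neg_eq_zero, neg_sub]
    exact h5
  have hline : ∀ z, ∃ a : F, a • w = ((x⁻¹ : GL ι F) : Matrix ι ι F) *ᵥ z - z := by
    intro z
    by_contra hcon
    obtain ⟨φ, hφ, h1⟩ := Transvect.exists_dual_eq_one (W := Submodule.span F {w})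
      (u := ((x⁻¹ : GL ι F) : Matrix ι ι F) *ᵥ z - z) (fun h => hcon (Submodule.mem_span_singleton.mp h))
    exact zero_ne_one ((hkey φ (hφ w (Submodule.mem_span_singleton_self w)) z).symm.trans h1)
  set Y : Matrix ι ι F := ((x⁻¹ : GL ι F) : Matrix ι ι F) with hY
  have hYw : Y *ᵥ w = w := by
    conv_lhs => rw [← hxw]
    rw [hY, hX, Matrix.mulVec_mulVec, ← Units.val_mul, inv_mul_cancel, Units.val_one, Matrix.one_mulVec]
  have hpowY : ∀ (m : ℕ) (z : V), (Y ^ m) *ᵥ z = z + (m : F) • (Y *ᵥ z - z) := by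
    intro m
    induction m with
    | zero => intro z; simp
    | succ m ih =>
      intro z
      obtain ⟨a, ha⟩ := hline z
      rw [pow_succ', ← Matrix.mulVec_mulVec, ih, Matrix.mulVec_add, Matrix.mulVec_smul, ← ha, Matrix.mulVec_smul,
        hYw, Nat.cast_succ, add_smul, one_smul, ha]
      abel
  have hY1 : Y = 1 := by
    refine Matrix.ext_of_mulVec_single fun i => ?_
    have hYn : Y ^ n = 1 := by
      rw [hY, ← Units.val_pow_eq_pow_val, inv_pow, hpow x hx, inv_one, Units.val_one]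
    have := hpowY n (Pi.single i 1)
    rw [hYn, Matrix.one_mulVec, eq_comm, add_eq_left, smul_eq_zero, sub_eq_zero] at this
    rw [Matrix.one_mulVec]
    exact this.resolve_left hn0
  have hx1 : x = 1 := by
    rw [← inv_eq_one]
    exact Units.ext hY1
  exact hxs (hx1 ▸ one_mem _)

end Cfsg.Agent.PrimeDim
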