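import Cfsg.Agent.Lib.PrimeDim.SLProper

/-!
# Maximal subgroups of `SL_n(q)` for `n` an odd prime: the geometric/residual case list

* `small_monomial` : over fields of order at most four a monomial group is in another class;
* `sl_maximal_cases` : the case list with `n` an odd prime.
-/

set_option autoImplicit false

namespace Cfsg.Agent.PrimeDim

open Matrix

variable {ι : Type} [Fintype ι] [DecidableEq ι] {F : Type*} [Field F]

/-- A basis adapted to a decomposition into lines, permuted with scalars by its stabiliser. -/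
theorem exists_line_basis {t : ℕ} (ht : t = Fintype.card ι) {D : Fin t → Submodule F (ι → F)}
    (hD : Geo.IsMDecomposition 1 D) :
    ∃ b : Module.Basis (Fin t) F (ι → F), ∀ g ∈ Geo.decompositionStabilizer D,
      ∃ (π : Equiv.Perm (Fin t)) (c : Fin t → F), (∀ i, c i ≠ 0) ∧
        (∀ i, (g : Matrix ι ι F) *ᵥ b i = c i • b (π i)) ∧
        ∀ v i, b.repr ((g : Matrix ι ι F) *ᵥ v) (π i) = c i * b.repr v i := by
  classical
  choose d hd using fun i => finrank_eq_one_iff'.mp (hD.finrank_eq i)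
  have hne : ∀ i, ((d i : D i) : ι → F) ≠ 0 := fun i h => (hd i).1 (Subtype.ext h)
  have hli : LinearIndependent F fun i => ((d i : D i) : ι → F) :=
    hD.indep.linearIndependent D (fun i => (d i).2) hne
  have hne' : Nonempty (Fin t) := ⟨⟨0, by have := hD.two_le; omega⟩⟩
  let b := basisOfLinearIndependentOfCardEqFinrank hli (by simp [Module.finrank_fintype_fun_eq_card, ht])
  have hb : ∀ i, b i = ((d i : D i) : ι → F) := fun i => by simp [b]
  refine ⟨b, fun g hg => ?_⟩
  obtain ⟨π, hπ⟩ := hg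
  have hmem : ∀ i, (g : Matrix ι ι F) *ᵥ b i ∈ D (π i) := fun i => by
    rw [← hπ i, hb]; exact ⟨_, (d i).2, rfl⟩
  choose c hc using fun i => (hd (π i)).2 ⟨_, hmem i⟩
  have hc' : ∀ i, (g : Matrix ι ι F) *ᵥ b i = c i • b (π i) := fun i => by
    rw [hb (π i)]; exact (congrArg Subtype.val (hc i)).symm
  refine ⟨π, c, fun i h => ?_, hc', fun v i => ?_⟩
  · have := hc' i
    rw [h, zero_smul] at this
    have h2 := congrArg (((g⁻¹ : GL ι F) : Matrix ι ι F) *ᵥ ·) this
    simp [Matrix.mulVec_mulVec] at h2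
    exact b.ne_zero i h2
  · conv_lhs => rw [← b.sum_repr v]
    simp only [Matrix.mulVec_sum, Matrix.mulVec_smul, hc', smul_smul, map_sum, map_smul, Module.Basis.repr_self,
      Finsupp.coe_finset_sum, Finset.sum_apply, Finsupp.smul_apply, Finsupp.single_apply, smul_eq_mul, mul_ite,
      mul_one, mul_zero, π.injective.eq_iff, Finset.sum_ite_eq', Finset.mem_univ, if_true]
    exact mul_comm _ _

/-- An invariant sum over an adapted basis. -/
theorem sum_repr_invariant {t : ℕ} {b : Module.Basis (Fin t) F (ι → F)} {g : GL ι F} {π : Equiv.Perm (Fin t)}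
    {c : Fin t → F} (h : ∀ v i, b.repr ((g : Matrix ι ι F) *ᵥ v) (π i) = c i * b.repr v i)
    (θ : F → F → F) (hθ : ∀ i x y, θ (c i * x) (c i * y) = θ x y) (u v : ι → F) :
    (∑ i, θ (b.repr ((g : Matrix ι ι F) *ᵥ u) i) (b.repr ((g : Matrix ι ι F) *ᵥ v) i))
      = ∑ i, θ (b.repr u i) (b.repr v i) := by
  rw [← Equiv.sum_comp π]
  simp only [h, hθ]

/-- Over a field with at most four elements a monomial group lies in another class. -/
theorem small_monomial [Fintype F] (h3 : 3 ≤ Fintype.card ι) {t : ℕ} (ht : t = Fintype.card ι)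
    {D : Fin t → Submodule F (ι → F)} (hD : Geo.IsMDecomposition 1 D) (hq : Fintype.card F < 5) :
    (∃ W : Submodule F (ι → F), W ≠ ⊥ ∧ W ≠ ⊤ ∧ Geo.decompositionStabilizer D ≤ Geo.subspaceStabilizer W) ∨
    (Odd (Fintype.card F) ∧ ∃ Q : (ι → F) → F, Geo.IsNondegenerateQuadraticForm Q ∧
      Geo.decompositionStabilizer D ≤ Geo.quadSimilarityGroup Q) ∨
    (∃ (σ : F ≃+* F) (f : (ι → F) → (ι → F) → F), Geo.IsUnitaryForm σ f ∧
      Geo.decompositionStabilizer D ≤ Geo.similarityGroup f) := by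
  classical
  obtain ⟨b, hb⟩ := exists_line_basis ht hD
  have hF : 2 ≤ Fintype.card F := Fintype.one_lt_card
  have hcard : ∀ x : F, x ≠ 0 → x ^ (Fintype.card F - 1) = 1 := fun x hx =>
    FiniteField.pow_card_sub_one_eq_one x hx
  have hsum : ∀ (g : F → F → F) (v : ι → F) i, (∀ y, g 0 y = 0) →
      (∑ j, g (b.repr (b i) j) (b.repr v j)) = g 1 (b.repr v i) := by
    intro g v i hg
    rw [Finset.sum_eq_single i]
    · simp
    · intro j _ hj; simp [Finsupp.single_apply, Ne.symm hj, hg]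
    · simp
  interval_cases hc : Fintype.card F
  · left
    have ht2 := hD.two_le
    let i₀ : Fin t := ⟨0, by omega⟩
    set s : ι → F := ∑ i, b i with hs
    have hrepr : ∀ i, b.repr s i = 1 := fun i => by simp [hs, Finsupp.single_apply]
    have hs0 : s ≠ 0 := fun h => by simpa [h] using hrepr i₀
    refine ⟨Submodule.span F {s}, by simpa using hs0, fun h => ?_, fun g hg => ?_⟩
    · have h1 : Module.finrank F (⊤ : Submodule F (ι → F)) = 1 := by rw [← h]; exact finrank_span_singleton hs0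
      rw [finrank_top, Module.finrank_fintype_fun_eq_card] at h1
      omega
    · obtain ⟨π, c, hc0, hcb, -⟩ := hb g hg
      have hfix : (g : Matrix ι ι F) *ᵥ s = s := by
        rw [hs, Matrix.mulVec_sum]
        conv_rhs => rw [← Equiv.sum_comp π]
        refine Finset.sum_congr rfl fun i _ => ?_
        rw [hcb, show c i = 1 from by simpa using hcard _ (hc0 i), one_smul]
      refine Transvect.mem_stab_of_le fun w hw => ?_
      obtain ⟨a, rfl⟩ := Submodule.mem_span_singleton.mp hw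
      rw [Transvect.app_apply, Matrix.mulVec_smul, hfix]
      exact Submodule.smul_mem _ a (Submodule.mem_span_singleton_self s)
  · right; left
    have h2 : (2 : F) ≠ 0 := by
      intro h
      have h3' : ((3 : ℕ) : F) = 0 := hc ▸ FiniteField.cast_card_eq_zero F
      exact one_ne_zero (α := F) (by push_cast at h3'; linear_combination h3' - h)
    let Q : (ι → F) → F := fun v => ∑ i, (b.repr v i) ^ 2
    have hpolar : QuadraticMap.polar Q = fun u v => ∑ i, 2 * (b.repr u i * b.repr v i) := by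
      funext u v
      simp only [QuadraticMap.polar, Q, map_add, Finsupp.coe_add, Pi.add_apply]
      rw [← Finset.sum_sub_distrib, ← Finset.sum_sub_distrib]
      exact Finset.sum_congr rfl fun i _ => by ring
    refine ⟨by decide, Q, ⟨fun a v => ?_, ?_, ?_⟩, fun g hg => ?_⟩
    · simp [Q, Finset.mul_sum, mul_pow]
    · rw [hpolar]
      constructor <;> intros <;> simp [Finset.mul_sum, ← Finset.sum_add_distrib] <;>
        exact Finset.sum_congr rfl fun i _ => by ring
    · intro v hv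
      obtain ⟨i, hi⟩ : ∃ i, b.repr v i ≠ 0 := by
        by_contra hcon
        simp only [not_exists, not_not] at hcon
        exact hv (b.repr.injective (Finsupp.ext fun i => by simp [hcon i]))
      have h1 : QuadraticMap.polar Q (b i) v = 2 * b.repr v i := by
        rw [hpolar]
        refine (hsum (fun x y => 2 * (x * y)) v i (fun y => by simp)).trans ?_
        simp
      exact ⟨⟨b i, by rw [h1]; exact mul_ne_zero h2 hi⟩,
        ⟨b i, by rw [QuadraticMap.polar_comm, h1]; exact mul_ne_zero h2 hi⟩⟩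
    · obtain ⟨π, c, hc0, -, hcr⟩ := hb g hg
      refine ⟨1, fun v => ?_⟩
      rw [Units.val_one, one_mul]
      exact sum_repr_invariant hcr (fun x _ => x ^ 2) (fun i x y => by
        show (c i * x) ^ 2 = x ^ 2
        rw [mul_pow, show c i ^ 2 = 1 from hcard _ (hc0 i), one_mul]) v v
  · right; right
    obtain ⟨p, hp⟩ := CharP.exists F
    obtain ⟨e, hpp, hpe⟩ := FiniteField.card F p
    have h24 : p = 2 := by
      have : p ∣ 2 ^ 2 := by
        rw [show (2 : ℕ) ^ 2 = p ^ (e : ℕ) by omega]; exact dvd_pow_self p (PNat.ne_zero e)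
      exact (Nat.prime_dvd_prime_iff_eq hpp Nat.prime_two).mp (hpp.dvd_of_dvd_pow this)
    subst h24
    have : ExpChar F 2 := ExpChar.prime Nat.prime_two
    let σ : F ≃+* F := RingEquiv.ofBijective (frobenius F 2)
      (Finite.injective_iff_bijective.mp (frobenius F 2).injective)
    have hσ : ∀ x, σ x = x ^ 2 := fun x => frobenius_def 2 x
    have hσσ : ∀ x, σ (σ x) = x := fun x => by
      rw [hσ, hσ, ← pow_mul]
      calc x ^ (2 * 2) = x ^ Fintype.card F := by rw [hc]
        _ = x := FiniteField.pow_card x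
    have hne : σ ≠ RingEquiv.refl F := by
      intro h
      obtain ⟨g, hg⟩ := IsCyclic.exists_ofOrder_eq_natCard (α := Fˣ)
      have h1 : (g : F) ^ 2 = g := by rw [← hσ, h]; rfl
      have h2 : g = 1 := Units.ext (mul_right_cancel₀ g.ne_zero (by rw [Units.val_one, one_mul, ← sq, h1]))
      rw [h2, orderOf_one, Nat.card_units, Nat.card_eq_fintype_card, hc] at hg
      omega
    let f : (ι → F) → (ι → F) → F := fun u v => ∑ i, b.repr u i * σ (b.repr v i)
    refine ⟨σ, f, ⟨hne, hσσ, ?_, ?_, ?_, ?_⟩, fun g hg => ?_⟩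
    · intro x y v; simp [f, add_mul, Finset.sum_add_distrib]
    · intro a x v; simp [f, mul_assoc, Finset.mul_sum]
    · intro u v; simp [f, map_sum, hσσ, mul_comm]
    · intro v hv
      obtain ⟨i, hi⟩ : ∃ i, b.repr v i ≠ 0 := by
        by_contra hcon
        simp only [not_exists, not_not] at hcon
        exact hv (b.repr.injective (Finsupp.ext fun i => by simp [hcon i]))
      have h1 : f (b i) v = σ (b.repr v i) := by
        refine (hsum (fun x y => x * σ y) v i (fun y => by simp)).trans ?_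
        simp
      have h2 : f v (b i) = b.repr v i := by
        show (∑ j, b.repr v j * σ (b.repr (b i) j)) = _
        rw [Finset.sum_eq_single i]
        · simp
        · intro j _ hj; simp [Finsupp.single_apply, Ne.symm hj]
        · simp
      exact ⟨⟨b i, by rw [h1]; exact (map_ne_zero σ).mpr hi⟩, ⟨b i, by rw [h2]; exact hi⟩⟩
    · obtain ⟨π, c, hc0, -, hcr⟩ := hb g hg
      refine ⟨1, fun u v => ?_⟩
      rw [Units.val_one, one_mul]
      exact sum_repr_invariant hcr (fun x y => x * σ y) (fun i x y => by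
        show c i * x * σ (c i * y) = x * σ y
        rw [map_mul]
        have h3 : c i * σ (c i) = 1 := by rw [hσ, ← pow_succ']; exact hcard _ (hc0 i)
        linear_combination x * σ y * h3) u v

theorem similarity_hyp_unitary {σ : F ≃+* F} {f : (ι → F) → (ι → F) → F} (hf : Geo.IsUnitaryForm σ f) :
    (∀ v x y, f v (x + y) = f v x + f v y) ∧ ∀ (c : F) v x, c ≠ 0 → f v x ≠ 0 → f v (c • x) ≠ 0 := by
  refine ⟨fun v x y => ?_, fun c v x hc hv => ?_⟩
  · rw [hf.herm, hf.add_left, map_add, ← hf.herm, ← hf.herm]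
  · rw [hf.herm, hf.smul_left, map_mul, ← hf.herm]
    exact mul_ne_zero ((map_ne_zero σ).mpr hc) hv

theorem not_sl_le_quadSimilarityGroup (h3 : 3 ≤ Fintype.card ι) {Q : (ι → F) → F}
    (hQ : Geo.IsNondegenerateQuadraticForm Q) : ¬ Geo.specialLinear ι F ≤ Geo.quadSimilarityGroup Q := by
  intro hle
  refine not_sl_le_similarityGroup h3 hQ.polar_bilinear.add_right (fun c v x hc hv => ?_) hQ.nondegenerate
    (hle.trans fun g hg => ?_)
  · rw [hQ.polar_bilinear.smul_right]; exact mul_ne_zero hc hv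
  · obtain ⟨c, hc⟩ := hg
    refine ⟨c, fun u v => ?_⟩
    simp only [QuadraticMap.polar, ← Matrix.mulVec_add, hc]
    ring

/-- The maximal subgroups of `SL_n(F)`, `n` an odd prime. -/
theorem sl_maximal_cases [Fintype F] {n : ℕ} (hn : n.Prime) (hodd : Odd n) {H : Subgroup (GL (Fin n) F)}
    (hH : Geo.IsMaximalIn (Geo.specialLinear (Fin n) F) H) :
    (∃ W : Submodule F (Fin n → F), W ≠ ⊥ ∧ W ≠ ⊤ ∧
      H = Geo.subspaceStabilizer W ⊓ Geo.specialLinear (Fin n) F) ∨
    (5 ≤ Fintype.card F ∧ ∃ D : Fin n → Submodule F (Fin n → F), Geo.IsMDecomposition 1 D ∧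
      H = Geo.decompositionStabilizer D ⊓ Geo.specialLinear (Fin n) F) ∨
    (∃ K : Subalgebra F (Matrix (Fin n) (Fin n) F), Geo.IsFieldSubalgebra n K ∧
      H = Geo.subalgebraNormalizer K ⊓ Geo.specialLinear (Fin n) F) ∨
    (∃ (F₀ : Subfield F) (r : ℕ) (P : GL (Fin n) F), r.Prime ∧ Fintype.card F = Nat.card F₀ ^ r ∧
      H = Geo.subfieldSubgroup F₀ P ⊓ Geo.specialLinear (Fin n) F) ∨
    ((∃ p e : ℕ, p.Prime ∧ CharP F p ∧ Odd e ∧ Fintype.card F = p ^ e ∧ e = orderOf (p : ZMod n)) ∧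
      ∃ R : Subgroup (GL (Fin n) F), Geo.IsLinearSymplecticTypeData n R ∧
      H = Geo.subgroupNormalizer R ⊓ Geo.specialLinear (Fin n) F) ∨
    (Odd (Fintype.card F) ∧ ∃ Q : (Fin n → F) → F, Geo.IsNondegenerateQuadraticForm Q ∧
      H = Geo.quadSimilarityGroup Q ⊓ Geo.specialLinear (Fin n) F) ∨
    (∃ (σ : F ≃+* F) (f : (Fin n → F) → (Fin n → F) → F), Geo.IsUnitaryForm σ f ∧
      H = Geo.similarityGroup f ⊓ Geo.specialLinear (Fin n) F) ∨
    Geo.InLinearResidualClass H := by
  classical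
  have hcard : Fintype.card (Fin n) = n := Fintype.card_fin n
  have h3 : 3 ≤ Fintype.card (Fin n) := by
    rw [hcard]
    obtain ⟨k, hk⟩ := hodd
    have := hn.two_le
    omega
  have key : ∀ M : Subgroup (GL (Fin n) F), H ≤ M → ¬ Geo.specialLinear (Fin n) F ≤ M →
      H = M ⊓ Geo.specialLinear (Fin n) F := by
    intro M h1 h2
    rcases hH.2 (M ⊓ Geo.specialLinear (Fin n) F) (le_inf h1 hH.1.le) inf_le_right with h | h
    · exact h.symm
    · exact absurd (h ▸ inf_le_left) h2
  have hW : ∀ W : Submodule F (Fin n → F), W ≠ ⊥ → W ≠ ⊤ → H ≤ Geo.subspaceStabilizer W →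
      H = Geo.subspaceStabilizer W ⊓ Geo.specialLinear (Fin n) F :=
    fun W hb ht hle => key _ hle (not_sl_le_subspaceStabilizer hb ht)
  have hQ : ∀ Q : (Fin n → F) → F, Geo.IsNondegenerateQuadraticForm Q → H ≤ Geo.quadSimilarityGroup Q →
      H = Geo.quadSimilarityGroup Q ⊓ Geo.specialLinear (Fin n) F :=
    fun Q hQ hle => key _ hle (not_sl_le_quadSimilarityGroup h3 hQ)
  have hU : ∀ (σ : F ≃+* F) (f : (Fin n → F) → (Fin n → F) → F), Geo.IsUnitaryForm σ f →
      H ≤ Geo.similarityGroup f → H = Geo.similarityGroup f ⊓ Geo.specialLinear (Fin n) F :=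
    fun σ f hf hle => key _ hle (not_sl_le_similarityGroup h3 (similarity_hyp_unitary hf).1
      (similarity_hyp_unitary hf).2 hf.nondegenerate)
  rcases linear_cases (hcard.symm ▸ hn) (hcard.symm ▸ hodd) hH.1.le with
    ⟨W, hb, ht, hle⟩ | ⟨D, hD, hle⟩ | ⟨K, hK, hle⟩ | ⟨F₀, r, B, hr, hc, hne, hle⟩ |
    ⟨R, p, e, hR, hp, hpc, he, hpe, hord, hdata, hle⟩ | ⟨ho, Q, hQ', hle⟩ | ⟨σ, f, hf, hle⟩ | h
  · exact Or.inl ⟨W, hb, ht, hW W hb ht hle⟩
  · let D' : Fin n → Submodule F (Fin n → F) := D ∘ Fin.cast hcard.symm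
    have hD' : Geo.IsMDecomposition 1 D' :=
      ⟨hn.two_le, one_pos, fun i => hD.finrank_eq _, hD.indep.comp (Fin.cast_injective _),
        by rw [← hD.iSup_eq_top]; exact (finCongr hcard.symm).iSup_comp (g := D)⟩
    have hle' : H ≤ Geo.decompositionStabilizer D' := by
      intro g hg
      obtain ⟨π, hπ⟩ := hle hg
      refine ⟨((finCongr hcard.symm).trans π).trans (finCongr hcard), fun i => ?_⟩
      exact hπ (Fin.cast hcard.symm i)
    by_cases hq : 5 ≤ Fintype.card F
    · exact Or.inr (Or.inl ⟨hq, D', hD', key _ hle' (not_sl_le_decompositionStabilizer hD')⟩)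
    rcases small_monomial h3 hcard.symm hD' (by omega) with
      ⟨W, hb, ht, h⟩ | ⟨ho, Q, hQ', h⟩ | ⟨σ, f, hf, h⟩
    · exact Or.inl ⟨W, hb, ht, hW W hb ht (hle'.trans h)⟩
    · exact Or.inr (Or.inr (Or.inr (Or.inr (Or.inr (Or.inl ⟨ho, Q, hQ', hQ Q hQ' (hle'.trans h)⟩)))))
    · exact Or.inr (Or.inr (Or.inr (Or.inr (Or.inr (Or.inr (Or.inl
        ⟨σ, f, hf, hU σ f hf (hle'.trans h)⟩))))))
  · refine Or.inr (Or.inr (Or.inl ⟨K, ⟨hK.comm, hK.inv, hK.finrank_eq.trans hcard⟩, key _ hle ?_⟩))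
    exact not_sl_le_subalgebraNormalizer h3 (hcard.symm ▸ hn.two_le) hK
  · exact Or.inr (Or.inr (Or.inr (Or.inl ⟨F₀, r, B, hr, hc,
      key _ hle (not_sl_le_subfieldSubgroup (by omega) hne B)⟩)))
  · refine Or.inr (Or.inr (Or.inr (Or.inr (Or.inl ⟨⟨p, e, hp, hpc, he, hpe, ?_⟩, R, ?_,
      key _ hle (not_sl_le_normalizer h3 hR)⟩))))
    · rw [hord, hcard]
    · rw [hcard] at hdata; exact hdata
  · exact Or.inr (Or.inr (Or.inr (Or.inr (Or.inr (Or.inl ⟨ho, Q, hQ', hQ Q hQ' hle⟩)))))
  · exact Or.inr (Or.inr (Or.inr (Or.inr (Or.inr (Or.inr (Or.inl ⟨σ, f, hf, hU σ f hf hle⟩))))))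
  · exact Or.inr (Or.inr (Or.inr (Or.inr (Or.inr (Or.inr (Or.inr h))))))

/-- The degree of the minimal field, as an element order. -/
theorem odd_order_facts {n p e : ℕ} (hn : n.Prime) (he : Odd e) (hord : e = orderOf (p : ZMod n)) :
    e ∣ n - 1 ∧ (p : ZMod n) ^ e = 1 ∧ ((p : ZMod n) = 1 → e = 1) ∧ p % n = (p : ZMod n).val := by
  have : Fact n.Prime := ⟨hn⟩
  have h1 : (p : ZMod n) ^ e = 1 := hord ▸ pow_orderOf_eq_one _
  have h0 : (p : ZMod n) ≠ 0 := fun h => by
    rw [h, zero_pow (by rcases he with ⟨k, hk⟩; omega)] at h1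
    exact zero_ne_one h1
  exact ⟨hord ▸ orderOf_dvd_of_pow_eq_one (ZMod.pow_card_sub_one_eq_one h0), h1,
    fun h => by rw [hord, h, orderOf_one], (ZMod.val_natCast n p).symm⟩

end Cfsg.Agent.PrimeDim
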