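import Cfsg.Agent.Lib.PrimeDim.SLProper

/-!
# The field normaliser in `SL_3(4)` lies in a subfield group
-/

set_option autoImplicit false

namespace Cfsg.Agent.PrimeDim

open Matrix

variable {F : Type*} [Field F]

private theorem mem_subfield_bit {F₀ : Subfield F} {x : F} (h : x = 0 ∨ x = 1) : x ∈ F₀ := by
  rcases h with rfl | rfl
  · exact zero_mem _
  · exact one_mem _

theorem mem_subfieldSubgroup_of_entries {ι : Type} [Fintype ι] [DecidableEq ι] {F₀ : Subfield F} {P g : GL ι F}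
    (h : ∀ i j, cj P⁻¹ (g : Matrix ι ι F) i j ∈ F₀) : g ∈ Geo.subfieldSubgroup F₀ P := by
  let M : Matrix ι ι F₀ := Matrix.of fun i j => ⟨_, h i j⟩
  have hM : M.map (F₀.subtype : F₀ →+* F) = cj P⁻¹ (g : Matrix ι ι F) := by ext i j; rfl
  have hdet : M.det ≠ 0 := by
    intro h0
    have h1 := RingHom.map_det (F₀.subtype : F₀ →+* F) M
    rw [h0, map_zero, RingHom.mapMatrix_apply, hM] at h1
    have h2 : IsUnit (cj P⁻¹ (g : Matrix ι ι F)) := by
      rw [cj_coe]; exact Units.isUnit _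
    exact ((Matrix.isUnit_iff_isUnit_det _).mp h2).ne_zero h1.symm
  refine ⟨_, Subgroup.mem_sup_left ⟨Matrix.GeneralLinearGroup.mkOfDetNeZero M hdet, rfl⟩, Units.ext ?_⟩
  simp only [MulEquiv.coe_toMonoidHom, MulAut.conj_apply, Units.val_mul]
  rw [show ((Matrix.GeneralLinearGroup.map (n := ι) (F₀.subtype : F₀ →+* F)
      (Matrix.GeneralLinearGroup.mkOfDetNeZero M hdet) : GL ι F) : Matrix ι ι F)
      = cj P⁻¹ (g : Matrix ι ι F) from hM, ← cj_apply, cj_cj_inv]

/-- Over the field with four elements a degree-3 field normaliser lies, in `SL_3`, in a subfield group. -/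
theorem field_le_subfield_four [Fintype F] (h4 : Fintype.card F = 4)
    {K : Subalgebra F (Matrix (Fin 3) (Fin 3) F)} (hK : Geo.IsFieldSubalgebra 3 K) :
    ∃ (F₀ : Subfield F) (P : GL (Fin 3) F), Fintype.card F = Nat.card F₀ ^ 2 ∧ F₀ ≠ ⊤ ∧
      Geo.subalgebraNormalizer K ⊓ Geo.specialLinear (Fin 3) F ≤ Geo.subfieldSubgroup F₀ P := by
  classical
  -- characteristic and the prime subfield
  obtain ⟨p, hp⟩ := CharP.exists F
  obtain ⟨e, hpp, hpe⟩ := FiniteField.card F p
  have h24 : p = 2 := by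
    have : p ∣ 2 ^ 2 := by
      rw [show (2 : ℕ) ^ 2 = p ^ (e : ℕ) by omega]; exact dvd_pow_self p (PNat.ne_zero e)
    exact (Nat.prime_dvd_prime_iff_eq hpp Nat.prime_two).mp (hpp.dvd_of_dvd_pow this)
  subst h24
  have : Fact (Nat.Prime 2) := ⟨Nat.prime_two⟩
  have hF4 : ∀ a : F, a ^ 4 = a := fun a => by rw [← h4]; exact FiniteField.pow_card a
  have h2 : (2 : F) = 0 := CharP.cast_eq_zero F 2
  have noroot : ∀ a : F, a ^ 3 ≠ a + 1 := by
    intro a h
    have ha := hF4 a
    have : a ^ 2 = 0 := by linear_combination a * h2 * 0 + ha - a * h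
    have : a = 0 := pow_eq_zero_iff (n := 2) two_ne_zero |>.mp this
    subst this
    simp at h
  let F₀ : Subfield F := ⊥
  have hF₀ : Nat.card F₀ = 2 := by
    have h := Subfield.card_bot F 2
    simpa using h
  have hne : F₀ ≠ ⊤ := by
    intro h
    rw [h] at hF₀
    rw [Nat.card_congr (Equiv.subtypeUnivEquiv (fun x => Subfield.mem_top x) : (⊤ : Subfield F) ≃ F), Nat.card_eq_fintype_card] at hF₀
    omega
  -- the field K
  let : CommRing K :=
    { (inferInstance : Ring K) with mul_comm := fun a b => Subtype.ext (hK.comm _ a.2 _ b.2) }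
  have : Nontrivial K := ⟨⟨0, 1, fun h => zero_ne_one (congrArg Subtype.val h)⟩⟩
  have hfield : IsField K := ⟨⟨0, 1, zero_ne_one⟩, mul_comm, fun {a} ha => by
    obtain ⟨y, hy, h⟩ := hK.inv a.1 a.2 (fun h => ha (Subtype.ext h))
    exact ⟨⟨y, hy⟩, Subtype.ext h⟩⟩
  let := hfield.toField
  have : Fintype K := Fintype.ofFinite K
  have hKc : Fintype.card K = 64 := by
    rw [Module.card_eq_pow_finrank (K := F) (V := K), hK.finrank_eq, h4]; norm_num
  have h2K : (2 : K) = 0 := by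
    rw [← map_ofNat (algebraMap F K), h2, map_zero]
  have : Fact (Nat.Prime 7) := ⟨by norm_num⟩
  obtain ⟨x₀, hx₀⟩ := exists_prime_orderOf_dvd_card (G := Kˣ) 7 (by rw [Fintype.card_units, hKc]; norm_num)
  have hx7 : (x₀ : K) ^ 7 = 1 := by rw [← Units.val_pow_eq_pow_val, ← hx₀, pow_orderOf_eq_one]; rfl
  have hx1 : (x₀ : K) - 1 ≠ 0 := by
    intro h
    rw [sub_eq_zero, Units.val_eq_one] at h
    rw [h, orderOf_one] at hx₀
    omega
  have hcub : ((x₀ : K) ^ 3 + x₀ + 1) * ((x₀ : K) ^ 3 + x₀ ^ 2 + 1) = 0 := by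
    refine (mul_eq_zero.mp ?_).resolve_left hx1
    linear_combination hx7 + ((x₀ : K) ^ 4 - (x₀ : K) ^ 3) * h2K
  obtain ⟨y, hy0, hy⟩ : ∃ y : K, y ≠ 0 ∧ y ^ 3 = y + 1 := by
    rcases mul_eq_zero.mp hcub with h | h
    · exact ⟨x₀, x₀.ne_zero, by linear_combination h - ((x₀ : K) + 1) * h2K⟩
    · refine ⟨(x₀ : K)⁻¹, inv_ne_zero x₀.ne_zero, ?_⟩
      field_simp
      linear_combination -h + h2K * ((x₀ : K) ^ 3 + (x₀ : K) ^ 2 + 1) * 0 + h2K
  have hyF : ∀ a : F, y ≠ algebraMap F K a := by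
    intro a h
    rw [h, ← map_pow, ← map_one (algebraMap F K), ← map_add] at hy
    exact noroot a ((algebraMap F K).injective hy)
  have hy2 : ∀ a b : F, y ^ 2 ≠ algebraMap F K a * y + algebraMap F K b := by
    intro a b h
    have h1 : algebraMap F K (a ^ 2 + b - 1) * y + algebraMap F K (a * b - 1) = 0 := by
      simp only [map_add, map_sub, map_mul, map_pow, map_one]
      linear_combination hy - (y + algebraMap F K a) * h
    by_cases hc : a ^ 2 + b - 1 = 0
    · rw [hc, map_zero, zero_mul, zero_add, map_eq_zero] at h1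
      refine noroot a ?_
      linear_combination -h1 + a * hc - h2
    · refine hyF (-(a * b - 1) / (a ^ 2 + b - 1)) ?_
      rw [map_div₀, eq_div_iff ((map_ne_zero _).mpr hc), map_neg]
      linear_combination h1
  have hind : ∀ a b c : F, algebraMap F K a + algebraMap F K b * y + algebraMap F K c * y ^ 2 = 0 →
      a = 0 ∧ b = 0 ∧ c = 0 := by
    intro a b c h
    by_cases hc : c = 0
    · by_cases hb : b = 0
      · subst hc hb; simpa using h
      · refine absurd ?_ (hyF (-a / b))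
        rw [map_div₀, eq_div_iff ((map_ne_zero _).mpr hb), map_neg]
        subst hc
        simp at h
        linear_combination h
    · refine absurd ?_ (hy2 (-b / c) (-a / c))
      have := (map_ne_zero (algebraMap F K)).mpr hc
      rw [map_div₀, map_div₀, map_neg, map_neg]
      field_simp
      linear_combination h
  -- the adapted basis
  let X : Matrix (Fin 3) (Fin 3) F := (y : Matrix (Fin 3) (Fin 3) F)
  have hact : ∀ k : K, k ≠ 0 → ∀ v : Fin 3 → F, (k : Matrix (Fin 3) (Fin 3) F) *ᵥ v = 0 → v = 0 := by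
    intro k hk v hv
    have := congrArg (((k⁻¹ : K) : Matrix (Fin 3) (Fin 3) F) *ᵥ ·) hv
    rw [Matrix.mulVec_mulVec, ← Subalgebra.coe_mul, inv_mul_cancel₀ hk, Subalgebra.coe_one,
      Matrix.one_mulVec, Matrix.mulVec_zero] at this
    exact this
  let v : Fin 3 → F := Pi.single 0 1
  have hv : v ≠ 0 := by simp [v]
  let P₀ : Matrix (Fin 3) (Fin 3) F := Matrix.of fun i j => ((X ^ (j : ℕ)) *ᵥ v) i
  have hP₀ : IsUnit P₀ := by
    rw [← Matrix.linearIndependent_cols_iff_isUnit, Fintype.linearIndependent_iff]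
    intro g hg
    have hcol : ∀ j, P₀.col j = (X ^ (j : ℕ)) *ᵥ v := fun j => rfl
    let k : K := algebraMap F K (g 0) + algebraMap F K (g 1) * y + algebraMap F K (g 2) * y ^ 2
    have hkv : (k : Matrix (Fin 3) (Fin 3) F) *ᵥ v = 0 := by
      rw [← hg]
      simp [k, Fin.sum_univ_three, hcol, Matrix.add_mulVec, Algebra.algebraMap_eq_smul_one, smul_mul_assoc,
        Matrix.smul_mulVec, X]
    have hk : k = 0 := by by_contra h; exact hv (hact k h v hkv)
    obtain ⟨h0, h1, h2⟩ := hind _ _ _ hk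
    intro j; fin_cases j <;> assumption
  let P : GL (Fin 3) F := hP₀.unit
  let C : Matrix (Fin 3) (Fin 3) F := !![0, 0, 1; 1, 0, 1; 0, 1, 0]
  have hcolP : ∀ j, (P : Matrix (Fin 3) (Fin 3) F) *ᵥ Pi.single j 1 = (X ^ (j : ℕ)) *ᵥ v := fun j => by
    rw [Matrix.mulVec_single_one]; rfl
  have hX3 : X ^ 3 = X + 1 := by
    have := congrArg (Subtype.val : K → _) hy
    simpa [X] using this
  have hXC : X * P = (P : Matrix (Fin 3) (Fin 3) F) * C := by
    apply Matrix.ext_of_mulVec_single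
    intro j
    rw [← Matrix.mulVec_mulVec, hcolP, Matrix.mulVec_mulVec, ← pow_succ', ← Matrix.mulVec_mulVec]
    fin_cases j <;> simp only [Fin.zero_eta, Fin.mk_one, Fin.reduceFinMk, Fin.isValue]
    · rw [show C *ᵥ Pi.single (0 : Fin 3) 1 = Pi.single 1 1 by
        ext i; fin_cases i <;> simp [C, Matrix.mulVec_single_one], hcolP]
      rfl
    · rw [show C *ᵥ Pi.single (1 : Fin 3) 1 = Pi.single 2 1 by
        ext i; fin_cases i <;> simp [C, Matrix.mulVec_single_one], hcolP]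
      rfl
    · rw [show C *ᵥ Pi.single (2 : Fin 3) 1 = Pi.single 0 1 + Pi.single 1 1 by
        ext i; fin_cases i <;> simp [C, Matrix.mulVec_single_one], Matrix.mulVec_add, hcolP, hcolP]
      simp [hX3, Matrix.add_mulVec, add_comm]
  have hcjX : cj P⁻¹ X = C := by
    rw [cj_apply, inv_inv, mul_assoc, hXC, ← mul_assoc, Units.inv_mul, one_mul]
  have hCbit : ∀ i j, C i j ∈ F₀ := fun i j => mem_subfield_bit (by fin_cases i <;> fin_cases j <;> simp [C])
  -- units of K in GL
  let f : Kˣ →* GL (Fin 3) F := Units.map (K.val : K →ₐ[F] _).toMonoidHom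
  have hf : ∀ k : Kˣ, ((f k : GL (Fin 3) F) : Matrix (Fin 3) (Fin 3) F) = ((k : K) : Matrix (Fin 3) (Fin 3) F) :=
    fun _ => rfl
  let δ : Kˣ →* Fˣ := (Matrix.GeneralLinearGroup.det).comp f
  have hδ : ∀ k : Kˣ, ((δ k : Fˣ) : F) = ((k : K) : Matrix (Fin 3) (Fin 3) F).det := fun _ => rfl
  obtain ⟨ω, hω0, hω1⟩ : ∃ ω : F, ω ≠ 0 ∧ ω ≠ 1 := by
    by_contra hcon
    simp only [not_exists, not_and, not_not] at hcon
    have : (Finset.univ : Finset F) ⊆ {0, 1} := fun a _ => by
      by_cases ha : a = 0 <;> simp [ha, hcon a]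
    have h := Finset.card_le_card this
    rw [Finset.card_univ, h4] at h
    exact absurd (h.trans Finset.card_le_two) (by norm_num)
  have hω3 : ω ^ 3 = 1 := by
    have := hF4 ω
    exact mul_left_cancel₀ hω0 (by linear_combination this)
  have hdetX : X.det = 1 := by
    have h1 : (cj P⁻¹ X).det = X.det := by
      rw [cj_apply, Matrix.det_mul_right_comm, inv_inv, Units.inv_mul, one_mul]
    rw [← h1, hcjX, Matrix.det_fin_three]
    simp [C]
  let yU : Kˣ := Units.mk0 y hy0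
  let wU : Kˣ := Units.mk0 (algebraMap F K ω) ((map_ne_zero _).mpr hω0)
  have hy7 : yU ^ 7 = 1 := by
    ext1
    show y ^ 7 = 1
    linear_combination (y ^ 4 + y ^ 2 + y + 1) * hy + (y ^ 2 + y) * h2K
  have ho : orderOf (yU * wU) = 21 := by
    have h1 : orderOf yU = 7 := orderOf_eq_prime hy7 fun h => hyF 1 (by
      rw [map_one]; exact congrArg Units.val h)
    have h2' : orderOf wU = 3 := by
      refine orderOf_eq_prime (Units.ext ?_) fun h => hω1 ?_
      · show algebraMap F K ω ^ 3 = 1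
        rw [← map_pow, hω3, map_one]
      · exact (algebraMap F K).injective (by rw [map_one]; exact congrArg Units.val h)
    rw [(Commute.all _ _).orderOf_mul_eq_mul_orderOf_of_coprime (by rw [h1, h2']; norm_num), h1, h2']
  have hmem : yU * wU ∈ δ.ker := by
    rw [MonoidHom.mem_ker]
    ext1
    rw [hδ]
    show (((y : K) * algebraMap F K ω : K) : Matrix (Fin 3) (Fin 3) F).det = 1
    rw [Subalgebra.coe_mul, Matrix.det_mul, Subalgebra.coe_algebraMap, Matrix.algebraMap_eq_diagonal,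
      Matrix.det_diagonal]
    show X.det * _ = 1
    rw [hdetX]
    simp [Fin.prod_univ_three]
    linear_combination hω3
  have hker : δ.ker = Subgroup.zpowers (yU * wU) := by
    have hcard : Nat.card Kˣ = 63 := by rw [Nat.card_units, Nat.card_eq_fintype_card, hKc]
    have hsub : Subgroup.zpowers (yU * wU) ≤ δ.ker := Subgroup.zpowers_le.mpr hmem
    refine (Subgroup.eq_of_le_of_card_ge hsub ?_).symm
    rw [Nat.card_zpowers, ho]
    obtain ⟨c, hc⟩ := δ.ker.card_subgroup_dvd_card.trans (dvd_of_eq hcard)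
    have hdvd : 21 ∣ Nat.card δ.ker := by
      have := Subgroup.card_dvd_of_le hsub
      rwa [Nat.card_zpowers, ho] at this
    obtain ⟨m, hm⟩ := hdvd
    have hne' : Nat.card δ.ker ≠ 63 := by
      intro h
      have htop : δ.ker = ⊤ := Subgroup.eq_top_of_card_eq _ (h.trans hcard.symm)
      have hz : (y + algebraMap F K ω) ≠ 0 := fun hh => hyF (-ω) (by rw [map_neg]; linear_combination hh)
      have h1 : δ (Units.mk0 _ hz) = 1 := MonoidHom.mem_ker.mp (htop ▸ Subgroup.mem_top _)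
      have h1' := congrArg Units.val h1
      rw [hδ] at h1'
      have h3 : (cj P⁻¹ (X + ω • (1 : Matrix (Fin 3) (Fin 3) F))).det = 1 := by
        rw [cj_apply, Matrix.det_mul_right_comm, inv_inv, Units.inv_mul, one_mul]
        simpa [X, Algebra.algebraMap_eq_smul_one] using h1'
      rw [map_add, map_smul, map_one, hcjX, Matrix.det_fin_three] at h3
      simp [C] at h3
      exact hω1 (by linear_combination (-1 : F) * h3 + hω3 - h2 * 0)
    have h63 : Nat.card δ.ker ∣ 63 := ⟨c, hc⟩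
    have hle : Nat.card δ.ker ≤ 63 := Nat.le_of_dvd (by norm_num) h63
    rw [hm] at h63 hne' hle ⊢
    have : m ≤ 3 := by omega
    interval_cases m <;> omega
  set M := Geo.subfieldSubgroup F₀ P with hM
  have hyM : f yU ∈ M := mem_subfieldSubgroup_of_entries fun i j => by
    rw [hf]; show cj P⁻¹ X i j ∈ F₀; rw [hcjX]; exact hCbit i j
  have hsc : ∀ z ∈ Geo.scalars (Fin 3) F, z ∈ M := fun z hz =>
    ⟨z, Subgroup.mem_sup_right hz, by
      obtain ⟨c, hc⟩ := (Geo.mem_scalars_iff _).mp hz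
      refine Units.ext ?_
      simp [MulAut.conj_apply, hc]⟩
  have hwM : f wU ∈ M := hsc _ ((Geo.mem_scalars_iff _).mpr ⟨Units.mk0 ω hω0, by
    rw [hf]; show ((algebraMap F K ω : K) : Matrix (Fin 3) (Fin 3) F) = _
    rw [Subalgebra.coe_algebraMap, Algebra.algebraMap_eq_smul_one]; rfl⟩)
  refine ⟨F₀, P, by rw [hF₀, h4]; norm_num, hne, ?_⟩
  rintro g ⟨hg, hgd⟩
  -- the Galois part
  have hgy : cj g X ∈ K := (hg X).mp y.2
  let z : K := ⟨cj g X, hgy⟩
  have hz3 : z ^ 3 = z + 1 := by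
    apply Subtype.ext
    simp [z, ← map_pow, hX3, map_add]
  have hcases : z = y ∨ z = y ^ 2 ∨ z = y ^ 2 + y := by
    have hprod : (z - y) * (z - y ^ 2) * (z - (y ^ 2 + y)) = 0 := by
      linear_combination hz3 + ((y + 3) * z - (y ^ 2 + y + 1)) * hy
        + (-(y ^ 2 + y) * z ^ 2 + (y ^ 2 + 2 * y + 2) * z - (y ^ 2 + y)) * h2K
    rcases mul_eq_zero.mp hprod with h | h
    · rcases mul_eq_zero.mp h with h | h
      · exact Or.inl (sub_eq_zero.mp h)
      · exact Or.inr (Or.inl (sub_eq_zero.mp h))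
    · exact Or.inr (Or.inr (sub_eq_zero.mp h))
  obtain ⟨Φ, hbit, hΦd, hΦC⟩ : ∃ Φ : Matrix (Fin 3) (Fin 3) F, (∀ i j, Φ i j ∈ F₀) ∧ Φ.det = 1 ∧
      Φ * C = cj P⁻¹ (cj g X) * Φ := by
    have hz : cj P⁻¹ (cj g X) = cj P⁻¹ ((z : K) : Matrix (Fin 3) (Fin 3) F) := rfl
    rcases hcases with h | h | h
    · exact ⟨1, fun i j => by rw [Matrix.one_apply]; split <;> simp,
        Matrix.det_one, by rw [hz, h, one_mul, mul_one]; exact hcjX.symm⟩
    · refine ⟨!![1, 0, 0; 0, 0, 1; 0, 1, 1], fun i j => mem_subfield_bit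
        (by fin_cases i <;> fin_cases j <;> simp), ?_, ?_⟩
      · rw [Matrix.det_fin_three]; simp; linear_combination (-1 : F) * h2
      · rw [hz, h, Subalgebra.coe_pow, map_pow, show cj P⁻¹ (y : Matrix (Fin 3) (Fin 3) F) = C from hcjX]
        ext i j
        fin_cases i <;> fin_cases j <;> simp [C, pow_two, Matrix.mul_apply, Fin.sum_univ_three] <;>
          first | linear_combination h2 | linear_combination -h2 | linear_combination 2 * h2 | linear_combination -2 * h2
    · refine ⟨!![1, 0, 0; 0, 1, 1; 0, 1, 0], fun i j => mem_subfield_bit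
        (by fin_cases i <;> fin_cases j <;> simp), ?_, ?_⟩
      · rw [Matrix.det_fin_three]; simp; linear_combination (-1 : F) * h2
      · rw [hz, h, Subalgebra.coe_add, Subalgebra.coe_pow, map_add, map_pow,
          show cj P⁻¹ (y : Matrix (Fin 3) (Fin 3) F) = C from hcjX]
        ext i j
        fin_cases i <;> fin_cases j <;> simp [C, pow_two, Matrix.mul_apply, Fin.sum_univ_three] <;>
          first | linear_combination h2 | linear_combination -h2 | linear_combination 2 * h2 | linear_combination -2 * h2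
  let φ : GL (Fin 3) F := P * Matrix.GeneralLinearGroup.mkOfDetNeZero Φ (by rw [hΦd]; exact one_ne_zero) * P⁻¹
  have hcjφ : cj P⁻¹ (φ : Matrix (Fin 3) (Fin 3) F) = Φ := by
    rw [cj_coe, show P⁻¹ * φ * P⁻¹⁻¹ = Matrix.GeneralLinearGroup.mkOfDetNeZero Φ (by rw [hΦd]; exact one_ne_zero) by
      simp [φ, mul_assoc]]
    rfl
  have hφM : φ ∈ M := mem_subfieldSubgroup_of_entries fun i j => by rw [hcjφ]; exact hbit i j
  set k : Matrix (Fin 3) (Fin 3) F := ((g * φ⁻¹ : GL (Fin 3) F) : Matrix (Fin 3) (Fin 3) F) with hk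
  -- g φ⁻¹ centralises X, hence lies in K
  have hφX : cj φ X = cj g X := by
    apply (cj P⁻¹).injective
    have h1 : cj P⁻¹ ((φ : Matrix (Fin 3) (Fin 3) F) * X) = cj P⁻¹ (cj g X * φ) := by
      rw [map_mul, map_mul, hcjφ, hcjX, hΦC]
    have h2 := (cj P⁻¹).injective h1
    rw [cj_apply φ X, h2, mul_assoc, Units.mul_inv, mul_one]
  have hkX : k * cj φ X = cj φ X * k := by
    have h1 : cj (g * φ⁻¹) (cj φ X) = cj φ X := by
      conv_rhs => rw [hφX]
      rw [cj_cj, inv_mul_cancel_right]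
    rw [cj_eq_self_iff] at h1
    exact h1
  obtain ⟨κ, hκ⟩ : ∃ κ : K, (κ : Matrix (Fin 3) (Fin 3) F) = k := by
    set z' : Matrix (Fin 3) (Fin 3) F := cj φ X with hz'
    let Q₀ : GL (Fin 3) F := φ * P
    have hQ : ∀ j, (Q₀ : Matrix (Fin 3) (Fin 3) F) *ᵥ Pi.single j 1
        = (z' ^ (j : ℕ)) *ᵥ ((φ : Matrix (Fin 3) (Fin 3) F) *ᵥ v) := fun j => by
      rw [hz', ← map_pow, mulVec_cj, ← hcolP, Units.val_mul, ← Matrix.mulVec_mulVec]
    set w := (φ : Matrix (Fin 3) (Fin 3) F) *ᵥ v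
    set c := ((Q₀⁻¹ : GL (Fin 3) F) : Matrix (Fin 3) (Fin 3) F) *ᵥ (k *ᵥ w) with hc
    have hzK : z' ∈ K := hφX ▸ hgy
    let κ : Matrix (Fin 3) (Fin 3) F := ∑ j : Fin 3, c j • z' ^ (j : ℕ)
    have hκK : κ ∈ K := K.sum_mem fun j _ => K.smul_mem (K.pow_mem hzK _) _
    refine ⟨⟨κ, hκK⟩, ?_⟩
    have hkw : κ *ᵥ w = k *ᵥ w := by
      have h1 : κ *ᵥ w = (Q₀ : Matrix (Fin 3) (Fin 3) F) *ᵥ c := by
        conv_rhs => rw [show c = ∑ j, c j • (Pi.single j 1 : Fin 3 → F) from pi_eq_sum_univ' c]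
        simp only [κ, Matrix.sum_mulVec, Matrix.smul_mulVec, Matrix.mulVec_sum, Matrix.mulVec_smul, hQ]
      rw [h1, hc, Matrix.mulVec_mulVec, Units.mul_inv, Matrix.one_mulVec]
    show κ = k
    have hcomm : κ * z' = z' * κ := hK.comm κ hκK z' hzK
    have hpk : ∀ (A : Matrix (Fin 3) (Fin 3) F), A * z' = z' * A → ∀ j : ℕ, A * z' ^ j = z' ^ j * A :=
      fun A hA j => Commute.pow_right hA j
    have key : ∀ (A : Matrix (Fin 3) (Fin 3) F), A * z' = z' * A → ∀ j : Fin 3,
        (A * (Q₀ : Matrix (Fin 3) (Fin 3) F)) *ᵥ Pi.single j 1 = (z' ^ (j : ℕ)) *ᵥ (A *ᵥ w) := fun A hA j => by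
      rw [← Matrix.mulVec_mulVec, hQ, Matrix.mulVec_mulVec w, hpk A hA, ← Matrix.mulVec_mulVec w]
    have hz : (κ : Matrix (Fin 3) (Fin 3) F) * Q₀ = k * Q₀ := by
      apply Matrix.ext_of_mulVec_single
      intro j
      rw [key κ hcomm, key k hkX, hkw]
    exact Units.mul_left_inj Q₀ |>.mp hz
  have hκ0 : κ ≠ 0 := by
    intro h
    have h1 : k = 0 := by rw [← hκ, h]; rfl
    exact Units.ne_zero (g * φ⁻¹) h1
  have hκU : f (Units.mk0 κ hκ0) = g * φ⁻¹ := Units.ext hκ
  have hκd : Units.mk0 κ hκ0 ∈ δ.ker := by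
    rw [MonoidHom.mem_ker]
    show Matrix.GeneralLinearGroup.det (f _) = 1
    rw [hκU, map_mul, map_inv, MonoidHom.mem_ker.mp hgd, one_mul, inv_eq_one]
    refine Units.ext ?_
    show ((φ : Matrix (Fin 3) (Fin 3) F)).det = 1
    rw [← hΦd, ← hcjφ, cj_apply, Matrix.det_mul_right_comm, inv_inv, Units.inv_mul, one_mul]
  rw [hker] at hκd
  have : g * φ⁻¹ ∈ M := by
    rw [← hκU]
    have hle : Subgroup.zpowers (yU * wU) ≤ M.comap f := by
      rw [Subgroup.zpowers_le, Subgroup.mem_comap, map_mul]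
      exact mul_mem hyM hwM
    exact hle hκd
  have := mul_mem this hφM
  rwa [inv_mul_cancel_right] at this

end Cfsg.Agent.PrimeDim
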