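import Cfsg.Agent.EqLemmas

/-!
# Spanning subgroups of `GL(ι, F)`: Skolem-Noether, descent to a subfield, invariant forms

For a subgroup `P` of `GL ι F` whose matrices span the whole matrix algebra:
* `span_eq_top` : absolutely irreducible implies spanning (Burnside);
* `exists_conj` : a ring map `Matrix ι ι F₀ →+* Matrix ι ι F` that is scalar on scalars is a conjugation;
* `exists_intertwiner` : two representations with the same trace, one spanning, are conjugate;
* `realisableOver_of_trace` : traces in a subfield imply `RealisableOver` that subfield;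
* `mem_subfieldSubgroup_of_normalizes` : the normaliser of a realised spanning group is in the subfield group;
* `invariant_unique` : an invariant sesquilinear Gram matrix is unique up to scalars.
-/

set_option autoImplicit false

namespace Cfsg.Agent.PrimeDim

open Matrix

variable {ι : Type} [Fintype ι] [DecidableEq ι] {F : Type*} [Field F]

/-- Conjugation by a unit as an algebra map. -/
def cj (g : GL ι F) : Matrix ι ι F →ₐ[F] Matrix ι ι F where
  toFun x := (g : Matrix ι ι F) * x * ((g⁻¹ : GL ι F) : Matrix ι ι F)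
  map_one' := by simp
  map_mul' x y := by
    simp [mul_assoc]
  map_zero' := by simp
  map_add' x y := by simp [mul_add, add_mul]
  commutes' r := by
    rw [← Algebra.commutes r (g : Matrix ι ι F), mul_assoc]
    simp

theorem cj_apply (g : GL ι F) (x : Matrix ι ι F) :
    cj g x = (g : Matrix ι ι F) * x * ((g⁻¹ : GL ι F) : Matrix ι ι F) := rfl

theorem cj_cj (g h : GL ι F) (x : Matrix ι ι F) : cj g (cj h x) = cj (g * h) x := by
  simp [cj_apply, mul_assoc]

theorem cj_inv_cj (g : GL ι F) (x : Matrix ι ι F) : cj g⁻¹ (cj g x) = x := by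
  rw [cj_cj, inv_mul_cancel]; simp [cj_apply]

theorem cj_cj_inv (g : GL ι F) (x : Matrix ι ι F) : cj g (cj g⁻¹ x) = x := by
  rw [cj_cj, mul_inv_cancel]; simp [cj_apply]

theorem cj_coe (g h : GL ι F) : cj g (h : Matrix ι ι F) = ((g * h * g⁻¹ : GL ι F) : Matrix ι ι F) := by
  simp [cj_apply]

theorem cj_eq_self_iff (g : GL ι F) (x : Matrix ι ι F) :
    cj g x = x ↔ (g : Matrix ι ι F) * x = x * (g : Matrix ι ι F) := by
  constructor
  · intro h
    calc (g : Matrix ι ι F) * x = cj g x * (g : Matrix ι ι F) := by simp [cj_apply, mul_assoc]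
      _ = x * (g : Matrix ι ι F) := by rw [h]
  · intro h
    rw [cj_apply, h, mul_assoc]
    simp

theorem mem_matrixSet {P : Subgroup (GL ι F)} {x : GL ι F} (hx : x ∈ P) :
    (x : Matrix ι ι F) ∈ Geo.matrixSet P := ⟨x, hx, rfl⟩

theorem mapsTo_iff_mulVec (s : Matrix ι ι F) (W : Submodule F (ι → F)) :
    W.map (Matrix.toLin' s) ≤ W ↔ ∀ w ∈ W, s *ᵥ w ∈ W := by
  simp [Submodule.map_le_iff_le_comap, SetLike.le_def]

/-- Burnside: an absolutely irreducible group spans the matrix algebra. -/
theorem span_eq_top [Nonempty ι] {P : Subgroup (GL ι F)}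
    (h : Geo.ActsAbsolutelyIrreducibly (Geo.matrixSet P)) :
    Submodule.span F (Geo.matrixSet P) = ⊤ := by
  classical
  set Q : Submonoid (Matrix ι ι F) := P.toSubmonoid.map (Units.coeHom (Matrix ι ι F)) with hQ
  have hQs : (Q : Set (Matrix ι ι F)) = Geo.matrixSet P := rfl
  have hadj : Subalgebra.toSubmodule (Algebra.adjoin F (Geo.matrixSet P)) = Submodule.span F (Geo.matrixSet P) := by
    rw [← hQs, Algebra.adjoin_eq_span, Submonoid.closure_eq]
  rw [← hadj]
  set e : Matrix ι ι F ≃ₐ[F] Module.End F (ι → F) := Matrix.toLinAlgEquiv' with he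
  set A : Subalgebra F (Module.End F (ι → F)) := (Algebra.adjoin F (Geo.matrixSet P)).map e.toAlgHom with hA
  have memA : ∀ x ∈ Geo.matrixSet P, e x ∈ A := fun x hx => ⟨x, Algebra.subset_adjoin hx, rfl⟩
  have hact : ∀ (a : A) (v : ι → F), a • v = (a : Module.End F (ι → F)) v := fun _ _ => rfl
  have halg : ∀ (c : F) (v : ι → F), algebraMap F A c • v = c • v := fun c v => by
    rw [hact]; rfl
  have hsimple : IsSimpleModule A (ι → F) := by
    refine isSimpleModule_iff _ _ |>.mpr ?_
    refine IsSimpleOrder.mk ?_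
    intro W
    let W' : Submodule F (ι → F) :=
      { carrier := W
        add_mem' := fun a b => W.add_mem a b
        zero_mem' := W.zero_mem
        smul_mem' := fun c v hv => by
          have := W.smul_mem (algebraMap F A c) hv
          rwa [halg] at this }
    have hW : W' = ⊥ ∨ W' = ⊤ := by
      refine h.1 W' fun s hs => (mapsTo_iff_mulVec s W').mpr fun w hw => ?_
      have := W.smul_mem (⟨e s, memA s hs⟩ : A) hw
      rw [hact] at this
      exact this
    rcases hW with hW | hW
    · left
      apply SetLike.ext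
      intro v
      exact (SetLike.ext_iff.mp hW v)
    · right
      apply SetLike.ext
      intro v
      exact (SetLike.ext_iff.mp hW v)
  apply eq_top_iff.mpr
  intro X _
  have hlin : ∀ (φ : Module.End A (ι → F)), ∃ c : F, ∀ v, φ v = c • v := by
    intro φ
    let φ' : (ι → F) →ₗ[F] (ι → F) :=
      { toFun := φ
        map_add' := φ.map_add
        map_smul' := fun c v => by
          have := φ.map_smul (algebraMap F A c) v
          rw [halg, halg] at this
          exact this }
    obtain ⟨c, hc⟩ := h.2 (LinearMap.toMatrix' φ') (by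
      intro s hs
      apply e.injective
      rw [map_mul, map_mul]
      refine LinearMap.ext fun v => ?_
      have := φ.map_smul (⟨e s, memA s hs⟩ : A) v
      rw [hact, hact] at this
      rw [← map_mul, ← map_mul]
      show (LinearMap.toMatrix' φ' * s) *ᵥ v = (s * LinearMap.toMatrix' φ') *ᵥ v
      rw [← Matrix.mulVec_mulVec, ← Matrix.mulVec_mulVec, ← Matrix.toLin'_apply (LinearMap.toMatrix' φ'),
        ← Matrix.toLin'_apply (LinearMap.toMatrix' φ'), Matrix.toLin'_toMatrix']
      simpa [he, φ'] using this)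
    refine ⟨c, fun v => ?_⟩
    have h2 : (LinearMap.toMatrix' φ') *ᵥ v = φ v := by
      rw [← Matrix.toLin'_apply, Matrix.toLin'_toMatrix']
      rfl
    rw [← h2, hc, Matrix.smul_mulVec, Matrix.one_mulVec]
  let f : Module.End (Module.End A (ι → F)) (ι → F) :=
    { toFun := fun v => X *ᵥ v
      map_add' := fun a b => Matrix.mulVec_add _ _ _
      map_smul' := fun φ v => by
        obtain ⟨c, hc⟩ := hlin φ
        simp only [Module.End.smul_def, RingHom.id_apply, hc, Matrix.mulVec_smul] }
  obtain ⟨⟨a, x, hx, hxa⟩, hr⟩ :=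
    jacobson_density (R := A) f (Finset.univ.image fun i : ι => (Pi.single i (1 : F) : ι → F))
  suffices X = x by rw [this]; exact hx
  refine Matrix.ext fun i j => ?_
  have := congrFun (hr (Pi.single j 1) (Finset.mem_image_of_mem _ (Finset.mem_univ j))) i
  subst hxa
  simpa [f, he, Subalgebra.smul_def] using this

section Trace

omit [DecidableEq ι] in
theorem eq_zero_of_trace_mul {κ : Type*} (b : κ → Matrix ι ι F)
    (hb : Submodule.span F (Set.range b) = ⊤) {Y : Matrix ι ι F}
    (h : ∀ k, (Y * b k).trace = 0) : Y = 0 := by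
  classical
  have hall : ∀ Z, (Y * Z).trace = 0 := by
    intro Z
    have hZ : Z ∈ Submodule.span F (Set.range b) := by rw [hb]; trivial
    induction hZ using Submodule.span_induction with
    | mem z hz => obtain ⟨k, rfl⟩ := hz; exact h k
    | zero => simp
    | add a b _ _ ha hb => rw [mul_add, trace_add, ha, hb, add_zero]
    | smul c a _ ha => rw [Matrix.mul_smul, trace_smul, ha, smul_zero]
  ext i j
  have := hall (Matrix.single j i 1)
  simpa [Matrix.trace_mul_single] using this

variable (P : Subgroup (GL ι F))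

/-- A spanning group contains a basis of the matrix algebra. -/
theorem exists_basis_mem (hP : Submodule.span F (Geo.matrixSet P) = ⊤) :
    ∃ b : Module.Basis (ι × ι) F (Matrix ι ι F), ∀ k, ∃ x ∈ P, b k = (x : Matrix ι ι F) := by
  obtain ⟨s, hs, hsspan, hsind⟩ := exists_linearIndependent F (Geo.matrixSet P)
  let b₀ : Module.Basis s F (Matrix ι ι F) := Module.Basis.mk hsind (by simp [hsspan, hP])
  let e := b₀.indexEquiv (Matrix.stdBasis F ι ι)
  refine ⟨b₀.reindex e, fun k => ?_⟩
  obtain ⟨x, hx, hxe⟩ := hs (e.symm k).2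
  refine ⟨x, hx, ?_⟩
  rw [Module.Basis.reindex_apply, Module.Basis.mk_apply]
  exact hxe.symm

variable (F₀ : Subfield F)

/-- Membership in the `F₀`-span of a basis, tested by traces. -/
theorem coeff_mem_of_trace (b : Module.Basis (ι × ι) F (Matrix ι ι F))
    (hb : ∀ k l, (b k * b l).trace ∈ F₀) {X : Matrix ι ι F} (hX : ∀ l, (X * b l).trace ∈ F₀) :
    ∀ k, b.repr X k ∈ F₀ := by
  classical
  let T : Matrix (ι × ι) (ι × ι) F₀ := fun l k => ⟨(b k * b l).trace, hb k l⟩
  have hdet : T.det ≠ 0 := by
    intro h0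
    obtain ⟨v, hv, hTv⟩ := Matrix.exists_mulVec_eq_zero_iff.mpr h0
    have hY : (∑ k, (v k : F) • b k) = 0 := by
      refine eq_zero_of_trace_mul b b.span_eq fun l => ?_
      have h1 := congrArg Subtype.val (congrFun hTv l)
      rw [Finset.sum_mul, trace_sum]
      refine Eq.trans ?_ h1
      simp [T, Matrix.mulVec, dotProduct, mul_comm]
    exact hv (funext fun k => Subtype.ext (Fintype.linearIndependent_iff.mp b.linearIndependent _ hY k))
  intro k
  let r : ι × ι → F₀ := fun l => ⟨(X * b l).trace, hX l⟩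
  let a : ι × ι → F₀ := T⁻¹ *ᵥ r
  have ha : T *ᵥ a = r := by
    rw [Matrix.mulVec_mulVec, Matrix.mul_nonsing_inv T (isUnit_iff_ne_zero.mpr hdet), Matrix.one_mulVec]
  have hXa : X = ∑ j, (a j : F) • b j := by
    refine sub_eq_zero.mp (eq_zero_of_trace_mul b b.span_eq fun l => ?_)
    have h1 := congrArg Subtype.val (congrFun ha l)
    rw [sub_mul, trace_sub, sub_eq_zero, Finset.sum_mul, trace_sum]
    refine h1.symm.trans ?_
    simp [T, Matrix.mulVec, dotProduct, mul_comm]
  rw [hXa, b.repr_sum_self]
  exact (a k).2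

theorem mem_span_of_trace (b : Module.Basis (ι × ι) F (Matrix ι ι F))
    (hb : ∀ k l, (b k * b l).trace ∈ F₀) {X : Matrix ι ι F} (hX : ∀ l, (X * b l).trace ∈ F₀) :
    X ∈ Submodule.span F₀ (Set.range b) := by
  rw [← b.sum_repr X]
  refine Submodule.sum_mem _ fun k _ => ?_
  have hk := coeff_mem_of_trace F₀ b hb hX k
  have : b.repr X k • b k = (⟨b.repr X k, hk⟩ : F₀) • b k := rfl
  rw [this]
  exact Submodule.smul_mem _ _ (Submodule.subset_span ⟨k, rfl⟩)

end Trace

/-- Skolem-Noether: a ring map from a matrix algebra, scalar on scalars, is a conjugation. -/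
theorem exists_conj [Nonempty ι] {F₀ : Type*} [Field F₀] (ψ : F₀ →+* F)
    (φ : Matrix ι ι F₀ →+* Matrix ι ι F) (hψ : ∀ c : F₀, φ (c • 1) = ψ c • (1 : Matrix ι ι F)) :
    ∃ B : GL ι F, ∀ X, φ X = cj B (X.map ψ) := by
  obtain ⟨i₀⟩ := ‹Nonempty ι›
  have hne : φ (single i₀ i₀ 1) ≠ 0 := by
    intro h0
    have hall : ∀ i, φ (single i i 1) = 0 := by
      intro i
      have : single i i (1 : F₀) = single i i₀ 1 * single i₀ i₀ 1 * single i₀ i 1 := by
        simp [single_mul_single_same]
      rw [this, map_mul, map_mul, h0]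
      simp
    have h1 : (1 : Matrix ι ι F₀) = ∑ i, single i i 1 := by
      ext a b
      rw [Matrix.sum_apply, Finset.sum_eq_single a]
      · simp [Matrix.single, Matrix.one_apply]
      · intro x _ hx; simp [Matrix.single, hx]
      · simp
    have := map_one φ
    rw [h1, map_sum, Finset.sum_congr rfl fun i _ => hall i, Finset.sum_const_zero] at this
    exact one_ne_zero this.symm
  obtain ⟨v, hv⟩ : ∃ v, φ (single i₀ i₀ 1) *ᵥ v ≠ 0 := by
    by_contra hc
    simp only [not_exists, not_not] at hc
    exact hne (Matrix.ext_of_mulVec_single fun i => by rw [hc, Matrix.zero_mulVec])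
  let bv : ι → ι → F := fun i => φ (single i i₀ 1) *ᵥ v
  have key : ∀ j k i, φ (single j k 1) *ᵥ bv i = if k = i then bv j else 0 := by
    intro j k i
    simp only [bv, Matrix.mulVec_mulVec, ← map_mul]
    split
    · subst_vars; simp [single_mul_single_same]
    · next h => simp [single_mul_single_of_ne, h]
  have hind : LinearIndependent F bv := by
    rw [Fintype.linearIndependent_iff]
    intro c hc k
    have := congrArg (φ (single i₀ k 1) *ᵥ ·) hc
    simp only [Matrix.mulVec_sum, Matrix.mulVec_smul, key, Matrix.mulVec_zero, smul_ite, smul_zero,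
      Finset.sum_ite_eq, Finset.mem_univ, if_true] at this
    exact (smul_eq_zero.mp this).resolve_right hv
  let B₀ : Matrix ι ι F := Matrix.of fun a b => bv b a
  have hunit : IsUnit B₀ := by
    rw [← Matrix.linearIndependent_cols_iff_isUnit]
    exact hind
  refine ⟨hunit.unit, fun X => ?_⟩
  have hmain : φ X * B₀ = B₀ * X.map ψ := by
    induction X using Matrix.induction_on' with
    | h_zero => simp
    | h_add p q hp hq => rw [map_add, add_mul, hp, hq, Matrix.map_add _ (map_add ψ), mul_add]
    | h_std_basis j k c =>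
      have : single j k c = (c • (1 : Matrix ι ι F₀)) * single j k 1 := by simp
      ext a i
      rw [this, map_mul, hψ, smul_mul, one_mul, smul_mul, ← this]
      have h2 : (φ (single j k 1) * B₀) a i = (φ (single j k 1) *ᵥ bv i) a := rfl
      rw [Matrix.smul_apply, h2, key, Matrix.mul_apply]
      by_cases h : k = i
      · subst h
        rw [if_pos rfl, Finset.sum_eq_single j]
        · simp [B₀, mul_comm]
        · intro x _ hx; simp [Matrix.single, Ne.symm hx]
        · simp
      · simp [Matrix.single, h]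
  rw [cj_apply]
  calc φ X = φ X * B₀ * ((hunit.unit⁻¹ : GL ι F) : Matrix ι ι F) := by
        rw [mul_assoc]
        conv_lhs => rw [← mul_one (φ X)]
        congr 1
        exact (hunit.mul_val_inv).symm
    _ = _ := by rw [hmain]; rfl

/-- A representation with the same trace as a spanning one is conjugate to it. -/
theorem exists_intertwiner [Nonempty ι] {P : Subgroup (GL ι F)}
    (hP : Submodule.span F (Geo.matrixSet P) = ⊤) (θ : P →* GL ι F)
    (htr : ∀ x : P, (θ x : Matrix ι ι F).trace = ((x : GL ι F) : Matrix ι ι F).trace) :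
    ∃ B : GL ι F, ∀ x : P, θ x = B * (x : GL ι F) * B⁻¹ := by
  classical
  obtain ⟨b, hb⟩ := exists_basis_mem P hP
  choose g hg hbg using hb
  let L : Matrix ι ι F →ₗ[F] Matrix ι ι F :=
    b.constr F fun k => (θ ⟨g k, hg k⟩ : Matrix ι ι F)
  have hLb : ∀ k, L (b k) = (θ ⟨g k, hg k⟩ : Matrix ι ι F) := fun k => b.constr_basis F _ k
  have htr2 : ∀ x y : P, ((θ x : Matrix ι ι F) * (θ y : Matrix ι ι F)).trace
      = (((x : GL ι F) : Matrix ι ι F) * ((y : GL ι F) : Matrix ι ι F)).trace := by
    intro x y
    simpa using htr (x * y)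
  have hind : LinearIndependent F fun k => (θ ⟨g k, hg k⟩ : Matrix ι ι F) := by
    rw [Fintype.linearIndependent_iff]
    intro c hc
    refine Fintype.linearIndependent_iff.mp b.linearIndependent c ?_
    refine eq_zero_of_trace_mul b b.span_eq fun l => ?_
    have h1 := congrArg (fun Y => (Y * (θ ⟨g l, hg l⟩ : Matrix ι ι F)).trace) hc
    simpa [Finset.sum_mul, trace_sum, Matrix.smul_mul, trace_smul, htr2, hbg] using h1
  have hspan : Submodule.span F (Set.range fun k => (θ ⟨g k, hg k⟩ : Matrix ι ι F)) = ⊤ :=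
    hind.span_eq_top_of_card_eq_finrank' (by simp [Module.finrank_matrix])
  have hL : ∀ x : P, L ((x : GL ι F) : Matrix ι ι F) = (θ x : Matrix ι ι F) := by
    intro x
    refine sub_eq_zero.mp (eq_zero_of_trace_mul _ hspan fun l => ?_)
    rw [sub_mul, trace_sub, sub_eq_zero, htr2, ← b.sum_repr ((x : GL ι F) : Matrix ι ι F)]
    simp only [map_sum, map_smul, hLb, Finset.sum_mul, trace_sum, Matrix.smul_mul, trace_smul, htr2]
    simp [hbg]
  have hLmem : ∀ k, L (b k) = (θ ⟨g k, hg k⟩ : Matrix ι ι F) := hLb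
  have hmul : ∀ X Y, L (X * Y) = L X * L Y := by
    intro X Y
    rw [← b.sum_repr X, ← b.sum_repr Y]
    simp only [Finset.sum_mul, Finset.mul_sum, map_sum, map_smul, Matrix.smul_mul, Matrix.mul_smul, hLmem]
    refine Finset.sum_congr rfl fun k _ => Finset.sum_congr rfl fun l _ => ?_
    congr 2
    have h3 : ∀ k l, L (b k * b l) = (θ ⟨g k, hg k⟩ : Matrix ι ι F) * (θ ⟨g l, hg l⟩ : Matrix ι ι F) := by
      intro k l
      rw [hbg, hbg, ← Units.val_mul, ← Units.val_mul, ← map_mul]
      exact hL ⟨g k * g l, mul_mem (hg k) (hg l)⟩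
    exact h3 _ _
  have hone : L 1 = 1 := by simpa using hL 1
  let φ : Matrix ι ι F →+* Matrix ι ι F :=
    { toFun := L, map_one' := hone, map_mul' := hmul, map_zero' := map_zero L, map_add' := map_add L }
  obtain ⟨B, hB⟩ := exists_conj (RingHom.id F) φ (fun c => by
    show L (c • 1) = _
    rw [map_smul, hone]; rfl)
  refine ⟨B, fun x => Units.ext ?_⟩
  rw [← hL x]
  refine (hB _).trans ?_
  simp [cj_apply]

/-- An `F₀`-algebra with an `F₀`-basis that is an `F`-basis of the matrix algebra is simple. -/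
theorem isSimpleRing_of_form [Nonempty ι] (F₀ : Subfield F) (A : Subalgebra F₀ (Matrix ι ι F))
    (b : Module.Basis (ι × ι) F (Matrix ι ι F)) (hAmem : ∀ k, b k ∈ A)
    (hrankA : Module.finrank F₀ A = Fintype.card ι * Fintype.card ι) [Module.Finite F₀ A] :
    IsSimpleRing A := by
  classical
  refine IsSimpleRing.of_eq_bot_or_eq_top fun I => ?_
  by_cases hI : I = ⊥
  · exact Or.inl hI
  right
  obtain ⟨x, hxI, hx0⟩ : ∃ x ∈ I, x ≠ 0 := by
    by_contra hc
    simp only [not_exists, not_and, not_not] at hc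
    refine hI (le_antisymm (fun y hy => ?_) bot_le)
    exact (TwoSidedIdeal.mem_bot A).mpr (hc y hy)
  let S : Submodule F (Matrix ι ι F) := Submodule.span F ((fun z : A => (z : Matrix ι ι F)) '' (I : Set A))
  have hSmem : ∀ Y Z, Y * (x : Matrix ι ι F) * Z ∈ S := by
    intro Y Z
    have hh : ∀ k l, b k * (x : Matrix ι ι F) * b l ∈ S := by
      intro k l
      have hI1 : (⟨b k, hAmem k⟩ * x * ⟨b l, hAmem l⟩ : A) ∈ (I : Set A) :=
        I.mul_mem_right _ _ (I.mul_mem_left _ _ hxI)
      exact Submodule.subset_span ⟨_, hI1, by simp⟩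
    rw [← b.sum_repr Y, ← b.sum_repr Z]
    simp only [Finset.sum_mul, Finset.mul_sum, Matrix.smul_mul, Matrix.mul_smul]
    exact S.sum_mem fun k _ => S.sum_mem fun l _ => S.smul_mem _ (S.smul_mem _ (hh _ _))
  have hStop : S = ⊤ := by
    have hx0' : (x : Matrix ι ι F) ≠ 0 := fun h => hx0 (Subtype.ext h)
    obtain ⟨a, c, hac⟩ : ∃ a c, (x : Matrix ι ι F) a c ≠ 0 := by
      by_contra hc
      simp only [not_exists, not_not] at hc
      exact hx0' (Matrix.ext hc)
    apply eq_top_iff.mpr
    intro Y _
    induction Y using Matrix.induction_on' with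
    | h_zero => exact S.zero_mem
    | h_add p q hp hq => exact S.add_mem (hp trivial) (hq trivial)
    | h_std_basis i j r =>
      have := S.smul_mem (r * ((x : Matrix ι ι F) a c)⁻¹) (hSmem (single i a 1) (single c j 1))
      rw [Matrix.single_mul_mul_single, one_mul, mul_one, Matrix.smul_single, smul_eq_mul,
        mul_assoc, inv_mul_cancel₀ hac, mul_one] at this
      exact this
  have hIfull : (fun z : A => (z : Matrix ι ι F)) '' (I : Set A) = (A : Set (Matrix ι ι F)) := by
    let I₀ : Submodule F₀ A :=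
      { carrier := I
        add_mem' := fun h h' => I.add_mem h h'
        zero_mem' := I.zero_mem
        smul_mem' := fun c z hz => by
          show c • z ∈ (I : Set A)
          rw [Algebra.smul_def]; exact I.mul_mem_left _ _ hz }
    obtain ⟨s, hs, hsspan, hsind⟩ := exists_linearIndependent F ((fun z : A => (z : Matrix ι ι F)) '' (I : Set A))
    have hsfin : Fintype s := hsind.setFinite.fintype
    have hcard : Fintype.card s = Fintype.card ι * Fintype.card ι := by
      have := finrank_span_eq_card hsind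
      rw [Subtype.range_coe] at this
      rw [← this, hsspan]
      show Module.finrank F S = _
      rw [hStop, finrank_top, Module.finrank_matrix]
      simp
    choose z hz hze using hs
    let u : s → I₀ := fun y => ⟨z y.2, hz y.2⟩
    have hu : LinearIndependent F₀ u := by
      refine LinearIndependent.of_comp (A.val.toLinearMap.comp I₀.subtype) ?_
      have : (A.val.toLinearMap.comp I₀.subtype) ∘ u = fun y : s => (y : Matrix ι ι F) := by
        funext y; exact hze y.2
      rw [this]
      exact LinearIndependent.restrict_scalars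
        (by intro x y h; exact Subtype.ext (by simpa [Subfield.smul_def] using h)) hsind
    have hle := hu.fintype_card_le_finrank
    have hI₀ : I₀ = ⊤ := by
      refine Submodule.eq_top_of_finrank_eq (le_antisymm (Submodule.finrank_le _) ?_)
      rw [hrankA, ← hcard]; exact hle
    ext y
    constructor
    · rintro ⟨w, _, rfl⟩; exact w.2
    · intro hy
      exact ⟨⟨y, hy⟩, (SetLike.ext_iff.mp hI₀ ⟨y, hy⟩).mpr trivial, rfl⟩
  refine eq_top_iff.mpr fun y _ => ?_
  obtain ⟨w, hw, hwy⟩ : (y : Matrix ι ι F) ∈ (fun z : A => (z : Matrix ι ι F)) '' (I : Set A) := by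
    rw [hIfull]; exact y.2
  rwa [← Subtype.ext hwy]

/-- Traces in a subfield give a realisation over it (finite fields: Wedderburn). -/
theorem realisableOver_of_trace [Nonempty ι] [Finite F] {P : Subgroup (GL ι F)}
    (hP : Submodule.span F (Geo.matrixSet P) = ⊤)
    (hcomm : ∀ M : Matrix ι ι F, (∀ s ∈ Geo.matrixSet P, M * s = s * M) → ∃ c : F, M = c • 1)
    (F₀ : Subfield F) (htr : ∀ x ∈ P, (x : Matrix ι ι F).trace ∈ F₀) :
    Geo.RealisableOver F₀ (Geo.matrixSet P) := by
  classical
  obtain ⟨b, hb⟩ := exists_basis_mem P hP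
  choose g hg hbg using hb
  have hbt : ∀ k l, (b k * b l).trace ∈ F₀ := by
    intro k l
    simpa [hbg] using htr _ (mul_mem (hg k) (hg l))
  let A : Subalgebra F₀ (Matrix ι ι F) := Algebra.adjoin F₀ (Geo.matrixSet P)
  let Q : Submonoid (Matrix ι ι F) := P.toSubmonoid.map (Units.coeHom (Matrix ι ι F))
  have hQs : (Q : Set (Matrix ι ι F)) = Geo.matrixSet P := rfl
  have hAspan : Subalgebra.toSubmodule A = Submodule.span F₀ (Set.range b) := by
    refine le_antisymm ?_ ?_
    · show Subalgebra.toSubmodule (Algebra.adjoin F₀ (Geo.matrixSet P)) ≤ _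
      rw [← hQs, Algebra.adjoin_eq_span, Submonoid.closure_eq, Submodule.span_le]
      rintro _ ⟨x, hx, rfl⟩
      refine mem_span_of_trace F₀ b hbt fun l => ?_
      simpa [hbg] using htr _ (mul_mem hx (hg l))
    · rw [Submodule.span_le]
      rintro _ ⟨k, rfl⟩
      rw [hbg]
      exact Algebra.subset_adjoin (mem_matrixSet (hg k))
  have hli : LinearIndependent F₀ b :=
    LinearIndependent.restrict_scalars (by intro x y h; exact Subtype.ext (by simpa [Subfield.smul_def] using h))
      b.linearIndependent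
  have hrankA : Module.finrank F₀ A = Fintype.card ι * Fintype.card ι := by
    show Module.finrank F₀ (Subalgebra.toSubmodule A) = _
    rw [hAspan, finrank_span_eq_card hli, Fintype.card_prod]
  have hAmem : ∀ k, b k ∈ A := fun k => by
    rw [hbg]; exact Algebra.subset_adjoin (mem_matrixSet (hg k))
  have hntA : Nontrivial A := by infer_instance
  have hsimple : IsSimpleRing A := isSimpleRing_of_form F₀ A b hAmem hrankA
  obtain ⟨m, hm, D, hD, hDalg, hDfin, ⟨e⟩⟩ := IsSimpleRing.exists_algEquiv_matrix_divisionRing_finite F₀ A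
  have : Finite D := Module.finite_of_finite F₀
  have hcent : Function.Surjective (algebraMap F₀ D) := by
    intro d
    have hcommD : ∀ a c : D, a * c = c * a := fun a c => (littleWedderburn D).mul_comm a c
    let z : A := e.symm (Matrix.scalar (Fin m) d)
    have hzc : ∀ s ∈ Geo.matrixSet P, (z : Matrix ι ι F) * s = s * (z : Matrix ι ι F) := by
      intro s hs
      have hz' : z * ⟨s, Algebra.subset_adjoin hs⟩ = ⟨s, Algebra.subset_adjoin hs⟩ * z := by
        apply e.injective
        rw [map_mul, map_mul, AlgEquiv.apply_symm_apply]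
        exact (Matrix.scalar_commute d (fun r => hcommD d r) _)
      exact congrArg Subtype.val hz'
    obtain ⟨c, hc⟩ := hcomm _ hzc
    have hzmem : (z : Matrix ι ι F) ∈ Submodule.span F₀ (Set.range b) := hAspan ▸ z.2
    have h1mem : (1 : Matrix ι ι F) ∈ Submodule.span F₀ (Set.range b) := hAspan ▸ (one_mem A)
    have hrepr : ∀ Y ∈ Submodule.span F₀ (Set.range b), ∀ k, b.repr Y k ∈ F₀ := by
      intro Y hY
      induction hY using Submodule.span_induction with
      | mem y hy =>
        obtain ⟨l, rfl⟩ := hy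
        intro k
        rw [b.repr_self, Finsupp.single_apply]
        split
        · exact one_mem _
        · exact zero_mem _
      | zero => intro k; simp [zero_mem]
      | add p q _ _ hp hq => intro k; rw [map_add]; exact add_mem (hp k) (hq k)
      | smul r p _ hp =>
        intro k
        rw [show r • p = (r : F) • p from rfl, map_smul, Finsupp.smul_apply, smul_eq_mul]
        exact mul_mem r.2 (hp k)
    obtain ⟨k, hk⟩ : ∃ k, b.repr 1 k ≠ 0 := by
      by_contra hc
      simp only [not_exists, not_not] at hc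
      have : (1 : Matrix ι ι F) = 0 := b.repr.injective (by rw [map_zero]; exact Finsupp.ext hc)
      exact one_ne_zero this
    have hcF : c ∈ F₀ := by
      have h1 := hrepr _ hzmem k
      rw [hc, map_smul, Finsupp.smul_apply, smul_eq_mul] at h1
      have h2 := mul_mem h1 (inv_mem (hrepr _ h1mem k))
      rwa [mul_assoc, mul_inv_cancel₀ hk, mul_one] at h2
    refine ⟨⟨c, hcF⟩, ?_⟩
    have hz : z = algebraMap F₀ A ⟨c, hcF⟩ := Subtype.ext (by rw [hc, ← Algebra.algebraMap_eq_smul_one]; rfl)
    have h3 : Matrix.scalar (Fin m) d = algebraMap F₀ (Matrix (Fin m) (Fin m) D) ⟨c, hcF⟩ := by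
      rw [← e.commutes, ← hz, AlgEquiv.apply_symm_apply]
    have h4 := congrFun (congrFun h3 0) 0
    simpa [Matrix.algebraMap_matrix_apply] using h4.symm
  let eD : F₀ ≃ₐ[F₀] D := AlgEquiv.ofBijective (Algebra.ofId F₀ D) ⟨(algebraMap F₀ D).injective, hcent⟩
  let e' : A ≃ₐ[F₀] Matrix (Fin m) (Fin m) F₀ := e.trans eD.symm.mapMatrix
  have hm' : m = Fintype.card ι := by
    have := e'.toLinearEquiv.finrank_eq
    rw [hrankA, Module.finrank_matrix] at this
    simp at this
    exact (Nat.mul_self_inj.mp this).symm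
  let ee : Fin m ≃ ι := (finCongr hm').trans (Fintype.equivFin ι).symm
  let e'' : Matrix ι ι F₀ ≃ₐ[F₀] A := (Matrix.reindexAlgEquiv F₀ F₀ ee.symm).trans e'.symm
  obtain ⟨B, hB⟩ := exists_conj F₀.subtype (A.val.comp e''.toAlgHom).toRingHom (fun c => by
    rw [AlgHom.toRingHom_eq_coe, RingHom.coe_coe, map_smul, map_one]; rfl)
  refine ⟨B⁻¹, fun s hs i j => ?_⟩
  obtain ⟨X, hX⟩ := e''.surjective ⟨s, Algebra.subset_adjoin hs⟩
  have hs' : s = cj B (X.map F₀.subtype) := by
    rw [← hB X]
    exact (congrArg Subtype.val hX).symm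
  show cj B⁻¹ s i j ∈ F₀
  rw [hs', cj_cj, inv_mul_cancel]
  simp [cj_apply]

/-- An element with entries in `F₀`, up to a scalar, lies in the standard subfield group. -/
theorem mem_range_sup_scalars {F₀ : Subfield F} {h : GL ι F} (a : Fˣ)
    (ha : ∀ i j, (a : F) * (h : Matrix ι ι F) i j ∈ F₀) :
    h ∈ (Matrix.GeneralLinearGroup.map (n := ι) (F₀.subtype : F₀ →+* F)).range ⊔ Geo.scalars ι F := by
  classical
  let g₀ : Matrix ι ι F₀ := fun i j => ⟨(a : F) * (h : Matrix ι ι F) i j, ha i j⟩
  have hmap : g₀.map F₀.subtype = (a : F) • (h : Matrix ι ι F) := by ext i j; rfl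
  have hdet : g₀.det ≠ 0 := by
    intro h0
    have h1 : (g₀.map F₀.subtype).det = 0 := by
      rw [← RingHom.mapMatrix_apply, ← RingHom.map_det, h0, map_zero]
    rw [hmap, Matrix.det_smul] at h1
    rcases mul_eq_zero.mp h1 with h2 | h2
    · exact a.ne_zero (pow_eq_zero_iff'.mp h2).1
    · exact (Matrix.GeneralLinearGroup.det h).ne_zero h2
  let g : GL ι F₀ := Matrix.GeneralLinearGroup.mkOfDetNeZero g₀ hdet
  let z : GL ι F := Units.map (Matrix.scalar ι : F →+* Matrix ι ι F).toMonoidHom a⁻¹
  have hz : z ∈ Geo.scalars ι F := ⟨a⁻¹, rfl⟩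
  have heq : h = Matrix.GeneralLinearGroup.map (F₀.subtype : F₀ →+* F) g * z := by
    apply Units.ext
    ext i j
    have hg : ((Matrix.GeneralLinearGroup.map (F₀.subtype : F₀ →+* F) g : GL ι F) : Matrix ι ι F)
        = g₀.map F₀.subtype := rfl
    rw [Units.val_mul, hg, hmap]
    simp [z, Matrix.mul_diagonal, mul_comm (a : F)]
  rw [heq]
  exact mul_mem (Subgroup.mem_sup_left ⟨g, rfl⟩) (Subgroup.mem_sup_right hz)

/-- The normaliser of a spanning group realised over `F₀` lies in the subfield group. -/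
theorem mem_subfieldSubgroup_of_normalizes [Nonempty ι] {P : Subgroup (GL ι F)}
    (hP : Submodule.span F (Geo.matrixSet P) = ⊤) {F₀ : Subfield F} {B : GL ι F}
    (hB : ∀ x ∈ P, ∀ i j, cj B (x : Matrix ι ι F) i j ∈ F₀) {h : GL ι F}
    (hn : ∀ x ∈ P, h * x * h⁻¹ ∈ P) : h ∈ Geo.subfieldSubgroup F₀ B⁻¹ := by
  classical
  obtain ⟨b, hb⟩ := exists_basis_mem P hP
  choose g hg hbg using hb
  have htr : ∀ X : Matrix ι ι F, (∀ i j, cj B X i j ∈ F₀) → X.trace ∈ F₀ := by
    intro X hX
    have : X.trace = (cj B X).trace := by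
      rw [cj_apply, Matrix.trace_mul_cycle, ← Units.val_mul, inv_mul_cancel, Units.val_one, one_mul]
    rw [this]
    exact sum_mem fun i _ => hX i i
  let E : ι → ι → Matrix ι ι F := fun i j => cj B⁻¹ (single i j 1)
  have hE : ∀ i j, E i j ∈ Submodule.span F₀ (Set.range b) := by
    intro i j
    refine mem_span_of_trace F₀ b (fun k l => ?_) fun l => htr _ fun x y => ?_
    · rw [hbg, hbg, ← Units.val_mul]; exact htr _ (hB _ (mul_mem (hg k) (hg l)))
    · rw [map_mul, cj_cj, mul_inv_cancel, hbg]
      have h1 : cj (1 : GL ι F) (single i j (1 : F)) = single i j 1 := by simp [cj_apply]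
      rw [h1, Matrix.mul_apply]
      refine sum_mem fun t _ => mul_mem ?_ (hB _ (hg l) t y)
      simp only [Matrix.single, of_apply]
      split
      · exact one_mem _
      · exact zero_mem _
  let h' : GL ι F := B * h * B⁻¹
  have hkey : ∀ i j x y, cj h' (single i j 1) x y ∈ F₀ := by
    intro i j
    have hcj : cj h' (single i j 1) = cj (B * h) (E i j) := by simp [E, cj_cj, h', mul_assoc]
    rw [hcj]
    have : ∀ Y ∈ Submodule.span F₀ (Set.range b), ∀ x y, cj (B * h) Y x y ∈ F₀ := by
      intro Y hY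
      induction hY using Submodule.span_induction with
      | mem y hy =>
        obtain ⟨l, rfl⟩ := hy
        rw [hbg, ← cj_cj, cj_coe]
        exact hB _ (hn _ (hg l))
      | zero => intro x y; simp [zero_mem]
      | add p q _ _ hp hq => intro x y; rw [map_add]; exact add_mem (hp x y) (hq x y)
      | smul r p _ hp =>
        intro x y
        rw [show r • p = (r : F) • p from rfl, map_smul]
        exact mul_mem r.2 (hp x y)
    exact this _ (hE i j)
  obtain ⟨i₀⟩ := ‹Nonempty ι›
  obtain ⟨c, hc⟩ : ∃ c, ((h'⁻¹ : GL ι F) : Matrix ι ι F) c i₀ ≠ 0 := by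
    by_contra hc
    simp only [not_exists, not_not] at hc
    have h1 : ((h' : Matrix ι ι F) * ((h'⁻¹ : GL ι F) : Matrix ι ι F)) i₀ i₀ = 1 := by
      rw [← Units.val_mul, mul_inv_cancel]; simp
    rw [Matrix.mul_apply] at h1
    simp [hc] at h1
  have hmem := mem_range_sup_scalars (F₀ := F₀) (h := h') (Units.mk0 _ hc) (fun i j => by
    have h1 := hkey j c i i₀
    rw [cj_apply, Matrix.mul_apply] at h1
    rw [Finset.sum_eq_single c] at h1
    · simpa [Matrix.mul_apply, Matrix.single, mul_comm] using h1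
    · intro t _ ht; simp [Matrix.mul_apply, Matrix.single, Ne.symm ht]
    · simp)
  refine ⟨h', hmem, ?_⟩
  simp [h', mul_assoc]

/-- An invariant Gram matrix of a group with only scalar centralizer is unique up to a scalar. -/
theorem invariant_unique {P : Subgroup (GL ι F)}
    (hcomm : ∀ M : Matrix ι ι F, (∀ s ∈ Geo.matrixSet P, M * s = s * M) → ∃ c : F, M = c • 1)
    (σ : F →+* F) {G G' : Matrix ι ι F} (hG : IsUnit G.det)
    (h1 : ∀ x ∈ P, (x : Matrix ι ι F)ᵀ * G * (x : Matrix ι ι F).map σ = G)
    (h2 : ∀ x ∈ P, (x : Matrix ι ι F)ᵀ * G' * (x : Matrix ι ι F).map σ = G') :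
    ∃ c : F, G' = c • G := by
  obtain ⟨c, hc⟩ := hcomm (G' * G⁻¹)ᵀ (by
    rintro _ ⟨x, hx, rfl⟩
    obtain ⟨X, hX⟩ : ∃ X : Matrix ι ι F, X = (x : Matrix ι ι F) := ⟨_, rfl⟩
    have hx1 := h1 x hx
    have hx2 := h2 x hx
    rw [← hX] at hx1 hx2
    show _ * (x : Matrix ι ι F) = (x : Matrix ι ι F) * _
    rw [← hX]
    have hXu : IsUnit (X.map σ).det := by
      rw [← RingHom.mapMatrix_apply, ← RingHom.map_det, hX]
      exact (Matrix.GeneralLinearGroup.det x).isUnit.map σ
    have key : G' * G⁻¹ * Xᵀ = Xᵀ * (G' * G⁻¹) := by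
      have e1 : Xᵀ = G * (X.map σ)⁻¹ * G⁻¹ := by
        have := congrArg (fun Y => Y * (X.map σ)⁻¹ * G⁻¹) hx1
        simpa [Matrix.mul_nonsing_inv_cancel_right _ _ hXu, Matrix.mul_nonsing_inv_cancel_right _ _ hG]
          using this
      have e2 : Xᵀ * G' = G' * (X.map σ)⁻¹ := by
        have := congrArg (fun Y => Y * (X.map σ)⁻¹) hx2
        simpa [Matrix.mul_nonsing_inv_cancel_right _ _ hXu] using this
      rw [← mul_assoc, e2]
      conv_lhs => rw [e1]
      simp [mul_assoc, Matrix.nonsing_inv_mul_cancel_left _ _ hG]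
    have := congrArg Matrix.transpose key
    simpa [Matrix.transpose_mul, mul_assoc] using this.symm)
  refine ⟨c, ?_⟩
  have h3 := congrArg (fun Y => Yᵀ * G) hc
  simpa [Matrix.nonsing_inv_mul_cancel_right _ _ hG] using h3

end Cfsg.Agent.PrimeDim
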