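import Cfsg.Agent.Lib.PrimeDim.Trichotomy

/-!
# Subfields of finite fields and the field of an extraspecial group

* `exists_maximal_subfield`, `le_subfield_of_realisable` : realisable over a proper subfield gives class C5;
* `primeField_card`, `fixedSubfield`, `natCast_pow_eq_one_iff`;
* `IsExtraspecialData.field_cases` : the group is realisable over a proper subfield, or its field is minimal.
-/

set_option autoImplicit false

namespace Cfsg.Agent.PrimeDim

open Matrix

variable {ι : Type} [Fintype ι] [DecidableEq ι] {F : Type*} [Field F]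

/-- A proper subfield of a finite field lies in a subfield of prime index. -/
theorem exists_maximal_subfield [Fintype F] (F₀ : Subfield F) (h : F₀ ≠ ⊤) :
    ∃ F₁ : Subfield F, F₀ ≤ F₁ ∧ F₁ ≠ ⊤ ∧ ∃ r : ℕ, r.Prime ∧ Fintype.card F = Nat.card F₁ ^ r := by
  classical
  have : Module.Finite F₀ F := Module.Finite.of_finite
  have : FiniteDimensional F₀ F := this
  have hgal : IsGalois F₀ F := inferInstance
  have hd : Module.finrank F₀ F ≠ 1 := by
    intro h1
    refine h (eq_top_iff.mpr fun x _ => ?_)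
    obtain ⟨c, hc⟩ := (finrank_eq_one_iff_of_nonzero' (1 : F) one_ne_zero).mp h1 x
    rw [← hc, Subfield.smul_def, smul_eq_mul, mul_one]
    exact c.2
  obtain ⟨r, hr, hrd⟩ := Nat.exists_prime_and_dvd hd
  rw [← IsGalois.card_aut_eq_finrank] at hrd
  have : Fact r.Prime := ⟨hr⟩
  obtain ⟨g, hg⟩ := exists_prime_orderOf_dvd_card' r hrd
  let E : IntermediateField F₀ F := IntermediateField.fixedField (Subgroup.zpowers g)
  have hrk : Module.finrank E F = r := by
    rw [IntermediateField.finrank_fixedField_eq_card, Nat.card_zpowers, hg]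
  have hcard : Fintype.card F = Nat.card E ^ r := by
    rw [← Nat.card_eq_fintype_card, Module.natCard_eq_pow_finrank (K := E) (V := F), hrk]
  have hEc : Nat.card E.toSubfield = Nat.card E := rfl
  refine ⟨E.toSubfield, fun x hx => E.algebraMap_mem ⟨x, hx⟩, fun htop => ?_, r, hr, by rw [hEc]; exact hcard⟩
  have h2 : Nat.card E.toSubfield = Nat.card F := by
    rw [htop]; exact Nat.card_congr (Equiv.subtypeUnivEquiv fun x => trivial)
  rw [hEc, Nat.card_eq_fintype_card (α := F)] at h2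
  have h3 : 1 < Fintype.card F := Fintype.one_lt_card
  rw [h2] at hcard
  have h4 : Fintype.card F ^ 1 < Fintype.card F ^ r := Nat.pow_lt_pow_right h3 hr.one_lt
  rw [pow_one] at h4
  omega

/-- A normalised spanning group realisable over a proper subfield puts the normaliser in class C5. -/
theorem le_subfield_of_realisable [Nonempty ι] [Fintype F] {H P : Subgroup (GL ι F)} (hn : NormBy H P)
    (hspan : Submodule.span F (Geo.matrixSet P) = ⊤) {F₀ : Subfield F} (h : F₀ ≠ ⊤)
    (hreal : Geo.RealisableOver F₀ (Geo.matrixSet P)) :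
    ∃ (F₁ : Subfield F) (r : ℕ) (B : GL ι F), r.Prime ∧ Fintype.card F = Nat.card F₁ ^ r ∧ F₁ ≠ ⊤ ∧ F₀ ≤ F₁ ∧
      (∀ x ∈ P, ∀ i j, cj B (x : Matrix ι ι F) i j ∈ F₁) ∧ H ≤ Geo.subfieldSubgroup F₁ B⁻¹ := by
  obtain ⟨F₁, hle, hne, r, hr, hcard⟩ := exists_maximal_subfield F₀ h
  obtain ⟨B, hB⟩ := hreal
  have hB' : ∀ x ∈ P, ∀ i j, cj B (x : Matrix ι ι F) i j ∈ F₁ := fun x hx i j =>
    hle (hB _ (mem_matrixSet hx) i j)
  exact ⟨F₁, r, B, hr, hcard, hne, hle, hB', fun g hg =>
    mem_subfieldSubgroup_of_normalizes hspan hB' (hn g hg)⟩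

/-- The subfield fixed by `x ↦ x ^ (p ^ d)`. -/
def fixedSubfield (F : Type*) [Field F] (p : ℕ) [ExpChar F p] (d : ℕ) : Subfield F :=
  RingHom.eqLocusField (iterateFrobenius F p d) (RingHom.id F)

theorem mem_fixedSubfield {p : ℕ} [ExpChar F p] {d : ℕ} {x : F} :
    x ∈ fixedSubfield F p d ↔ x ^ p ^ d = x := by
  show iterateFrobenius F p d x = RingHom.id F x ↔ _
  rw [iterateFrobenius_def, RingHom.id_apply]

theorem fixedSubfield_ne_top [Fintype F] {p e : ℕ} [ExpChar F p] (hp : p.Prime) (hq : Fintype.card F = p ^ e)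
    {d : ℕ} (hd : 0 < d) (hde : d < e) : fixedSubfield F p d ≠ ⊤ := by
  classical
  intro htop
  obtain ⟨g, hg⟩ := IsCyclic.exists_ofOrder_eq_natCard (α := Fˣ)
  have hpd : 1 < p ^ d := Nat.one_lt_pow (by omega) hp.one_lt
  have h1 : (g : F) ^ p ^ d = g := mem_fixedSubfield.mp (by rw [htop]; trivial)
  have h2 : g ^ (p ^ d - 1) = 1 := by
    refine Units.ext ?_
    rw [Units.val_pow_eq_pow_val, Units.val_one]
    refine mul_right_cancel₀ g.ne_zero ?_
    rw [← pow_succ, one_mul, Nat.sub_add_cancel hpd.le, h1]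
  have h3 := Nat.le_of_dvd (by omega) (orderOf_dvd_of_pow_eq_one h2)
  rw [hg, Nat.card_units, Nat.card_eq_fintype_card, hq] at h3
  have : p ^ d < p ^ e := Nat.pow_lt_pow_right hp.one_lt hde
  omega

theorem natCast_pow_eq_one_iff {n p d : ℕ} (hp : 0 < p) : ((p : ZMod n) ^ d = 1) ↔ n ∣ p ^ d - 1 := by
  rw [← Nat.cast_pow, ← Nat.cast_one (R := ZMod n), ZMod.natCast_eq_natCast_iff]
  exact ⟨fun h => (Nat.modEq_iff_dvd' (Nat.one_le_pow _ _ hp)).mp h.symm,
    fun h => ((Nat.modEq_iff_dvd' (Nat.one_le_pow _ _ hp)).mpr h).symm⟩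

/-- The smallest field of characteristic `p` with the `n`-th roots of unity. -/
theorem minimal_degree [Fintype F] {n p e : ℕ} (hn : n.Prime) (hp : p.Prime) [CharP F p]
    (hq : Fintype.card F = p ^ e) {ζ : F} (hζ : IsPrimitiveRoot ζ n) :
    n ≠ p ∧ (n : ℕ) ∣ p ^ e - 1 ∧ 0 < orderOf (p : ZMod n) ∧ orderOf (p : ZMod n) ∣ e := by
  have hne : n ≠ p := by
    rintro rfl
    have := Fact.mk hn
    haveI : ExpChar F n := ExpChar.prime hn
    have h1 : (ζ - 1) ^ n = 0 := by rw [sub_pow_expChar, hζ.pow_eq_one, one_pow, sub_self]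
    exact hζ.ne_one hn.one_lt (sub_eq_zero.mp (pow_eq_zero_iff hn.ne_zero |>.mp h1))
  have hdvd : n ∣ p ^ e - 1 := by
    have h1 : ζ ^ (Fintype.card F - 1) = 1 := FiniteField.pow_card_sub_one_eq_one ζ (hζ.ne_zero hn.ne_zero)
    rw [hq] at h1
    exact (hζ.pow_eq_one_iff_dvd _).mp h1
  refine ⟨hne, hdvd, ?_, orderOf_dvd_of_pow_eq_one ((natCast_pow_eq_one_iff hp.pos).mpr hdvd)⟩
  have : Fact n.Prime := ⟨hn⟩
  refine orderOf_pos_iff.mpr (isOfFinOrder_iff_pow_eq_one.mpr ⟨n - 1, by have := hn.two_le; omega, ?_⟩)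
  refine ZMod.pow_card_sub_one_eq_one ?_
  intro h0
  exact hne ((Nat.prime_dvd_prime_iff_eq hn hp).mp ((ZMod.natCast_eq_zero_iff _ _).mp h0))

/-- The field of extraspecial data: realisable over a proper subfield, or minimal. -/
theorem IsExtraspecialData.field_cases [Nonempty ι] [Fintype F] {H R : Subgroup (GL ι F)}
    (hR : IsExtraspecialData H R) :
    (∃ F₀ : Subfield F, F₀ ≠ ⊤ ∧ Geo.RealisableOver F₀ (Geo.matrixSet R)) ∨
    (∃ p e : ℕ, Fintype.card ι ≠ p ∧ Geo.IsMinimalFieldFor (Fintype.card ι) p e F ∧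
      e = orderOf (p : ZMod (Fintype.card ι))) := by
  classical
  obtain ⟨ζ, hζ, z, hz, hzζ⟩ := hR.root
  have hn := hR.sympType.prime
  obtain ⟨p, hp⟩ := CharP.exists F
  obtain ⟨e, hpp, hq⟩ := FiniteField.card F p
  have : Fact p.Prime := ⟨hpp⟩
  have : ExpChar F p := ExpChar.prime hpp
  obtain ⟨hne, hdvd, hpos, hde⟩ := minimal_degree hn hpp hq hζ
  set d := orderOf (p : ZMod (Fintype.card ι)) with hd
  by_cases hlt : d < e
  · left
    refine ⟨fixedSubfield F p d, fixedSubfield_ne_top hpp hq hpos hlt,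
      realisableOver_of_trace hR.span_eq hR.absIrred.2 _ fun x hx => ?_⟩
    rcases hR.trace_eq x hx with h | ⟨c, hc, hxc⟩
    · rw [h]; exact zero_mem _
    · rw [hxc, Matrix.trace_smul, Matrix.trace_one, smul_eq_mul]
      refine mul_mem ?_ (natCast_mem _ _)
      rw [mem_fixedSubfield]
      have hdd : Fintype.card ι ∣ p ^ d - 1 := (natCast_pow_eq_one_iff hpp.pos).mp (pow_orderOf_eq_one _)
      obtain ⟨k, hk⟩ := hdd
      have h1 : p ^ d = Fintype.card ι * k + 1 := by
        have := Nat.one_le_pow d p hpp.pos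
        omega
      rw [h1, pow_succ, pow_mul, hc, one_pow, one_mul]
  · right
    have hed : (e : ℕ) = d := le_antisymm (not_lt.mp hlt) (Nat.le_of_dvd e.pos hde)
    refine ⟨p, e, hne, ⟨hpp, hp, hq, hdvd, fun k hk hke hkd => ?_⟩, hed⟩
    have := Nat.le_of_dvd hk (orderOf_dvd_of_pow_eq_one ((natCast_pow_eq_one_iff hpp.pos).mpr hkd))
    omega

end Cfsg.Agent.PrimeDim
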