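import Cfsg.Agent.Lib.PrimeDim.Fields
import Cfsg.Agent.Lib.PrimeDim.Forms

/-!
# Aschbacher's theorem for `SL_n(q)`, `n` an odd prime

* `IsExtraspecialData.exists_unitary` : an extraspecial group with field of even degree fixes a unitary form;
* `linear_cases` : every subgroup of `SL_n(F)` is in a geometric class or in the residual class.
-/

set_option autoImplicit false

namespace Cfsg.Agent.PrimeDim

open Matrix

variable {ι : Type} [Fintype ι] [DecidableEq ι] {F : Type*} [Field F]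

/-- The inverse transpose composed with a field automorphism. -/
def dualHom (σ : F →+* F) : GL ι F →* GL ι F where
  toFun x := ⟨(((x⁻¹ : GL ι F) : Matrix ι ι F).map σ)ᵀ, ((x : Matrix ι ι F).map σ)ᵀ,
    by rw [← Matrix.transpose_mul, ← Matrix.map_mul, ← Units.val_mul, mul_inv_cancel]; simp,
    by rw [← Matrix.transpose_mul, ← Matrix.map_mul, ← Units.val_mul, inv_mul_cancel]; simp⟩
  map_one' := by ext1; simp
  map_mul' x y := by
    ext1
    simp [Matrix.transpose_mul, Matrix.map_mul]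

theorem dualHom_val (σ : F →+* F) (x : GL ι F) :
    (dualHom σ x : Matrix ι ι F) = (((x⁻¹ : GL ι F) : Matrix ι ι F).map σ)ᵀ := rfl

/-- Extraspecial data over a field of even minimal degree fixes a unitary form. -/
theorem IsExtraspecialData.exists_unitary [Nonempty ι] [Fintype F] {H R : Subgroup (GL ι F)}
    (hR : IsExtraspecialData H R) {p e : ℕ} (hmin : Geo.IsMinimalFieldFor (Fintype.card ι) p e F)
    (heven : Even e) (hord : e = orderOf (p : ZMod (Fintype.card ι))) :
    ∃ (σ : F ≃+* F) (f : (ι → F) → (ι → F) → F), Geo.IsUnitaryForm σ f ∧ H ≤ Geo.similarityGroup f := by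
  classical
  obtain ⟨hp, hchar, hq, hdvd, -⟩ := hmin
  have : CharP F p := hchar
  have : ExpChar F p := ExpChar.prime hp
  have : Fact (Fintype.card ι).Prime := ⟨hR.sympType.prime⟩
  obtain ⟨k, hk⟩ := heven
  have he0 : 0 < e := by
    rcases Nat.eq_zero_or_pos e with h | h
    · have := Fintype.one_lt_card (α := F)
      rw [hq, h] at this
      simp at this
    · exact h
  let σ : F ≃+* F := RingEquiv.ofBijective (iterateFrobenius F p k)
    (Finite.injective_iff_bijective.mp (iterateFrobenius F p k).injective)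
  have hσ : ∀ x, σ x = x ^ p ^ k := fun x => iterateFrobenius_def p k x
  have hinv : ∀ x, σ (σ x) = x := by
    intro x
    rw [hσ, hσ, ← pow_mul, ← pow_add, ← hk, ← hq, FiniteField.pow_card]
  have hne : σ ≠ RingEquiv.refl F := by
    intro h
    refine fixedSubfield_ne_top hp hq (d := k) (by omega) (by omega) ?_
    refine eq_top_iff.mpr fun x _ => mem_fixedSubfield.mpr ?_
    rw [← hσ, h]; rfl
  have hnk : Fintype.card ι ∣ p ^ k + 1 := by
    have h1 : ((p : ZMod (Fintype.card ι)) ^ k) * ((p : ZMod (Fintype.card ι)) ^ k) = 1 := by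
      rw [← pow_add, ← hk, natCast_pow_eq_one_iff hp.pos]; exact hdvd
    have h2 : (p : ZMod (Fintype.card ι)) ^ k ≠ 1 := pow_ne_one_of_lt_orderOf (by omega) (by omega)
    have h3 := (mul_self_eq_one_iff.mp h1).resolve_left h2
    rw [← ZMod.natCast_eq_zero_iff]
    push_cast
    rw [h3]; ring
  have hscal : ∀ c : F, c ^ Fintype.card ι = 1 → σ c * c = 1 := by
    intro c hc
    obtain ⟨m, hm⟩ := hnk
    rw [hσ, ← pow_succ, hm, pow_mul, hc, one_pow]
  let θ : R →* GL ι F := (dualHom (σ : F →+* F)).comp R.subtype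
  obtain ⟨ζ, hζ, -⟩ := hR.root
  have hn0 : (Fintype.card ι : F) ≠ 0 := fun h => by
    have h1 : p ∣ Fintype.card ι := (CharP.cast_eq_zero_iff F p _).mp h
    have h2 := (Nat.prime_dvd_prime_iff_eq hp hR.sympType.prime).mp h1
    have h3 : p ∣ p ^ e := dvd_pow_self p (by omega)
    rw [← h2] at hdvd
    have h4 : 1 ≤ p ^ e := Nat.one_le_pow _ _ hp.pos
    exact hp.one_lt.ne' (Nat.dvd_one.mp ((Nat.dvd_add_right hdvd).mp (by rwa [Nat.sub_add_cancel h4])))
  have htr : ∀ x : R, (θ x : Matrix ι ι F).trace = ((x : GL ι F) : Matrix ι ι F).trace := by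
    intro x
    have h1 : (θ x : Matrix ι ι F).trace = σ ((((x⁻¹ : R) : GL ι F) : Matrix ι ι F).trace) := by
      simp only [θ, MonoidHom.comp_apply, dualHom_val, Matrix.trace_transpose]
      simp [Matrix.trace, map_sum]
    rw [h1]
    have hmul : (((x⁻¹ : R) : GL ι F) : Matrix ι ι F) * ((x : GL ι F) : Matrix ι ι F) = 1 := by
      rw [Subgroup.coe_inv, ← Units.val_mul, inv_mul_cancel, Units.val_one]
    rcases hR.trace_eq _ x.2 with h | ⟨c, hc, hxc⟩
    · rcases hR.trace_eq _ (x⁻¹).2 with h' | ⟨d, hd, hxd⟩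
      · rw [h, h', map_zero]
      · exfalso
        have hx : ((x : GL ι F) : Matrix ι ι F) = d⁻¹ • 1 := by
          have hd0 : d ≠ 0 := fun h0 => by simp [h0, zero_pow hR.sympType.prime.ne_zero] at hd
          rw [hxd, Matrix.smul_mul, one_mul] at hmul
          rw [← hmul, smul_smul, inv_mul_cancel₀ hd0, one_smul]
        rw [hx, Matrix.trace_smul, Matrix.trace_one, smul_eq_mul] at h
        rcases mul_eq_zero.mp h with h0 | h0
        · rw [inv_eq_zero] at h0
          simp [h0, zero_pow hR.sympType.prime.ne_zero] at hd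
        · exact hn0 h0
    · have hxi : (((x⁻¹ : R) : GL ι F) : Matrix ι ι F) = σ c • 1 := by
        have h2 : ((x : GL ι F) : Matrix ι ι F) * (σ c • 1) = 1 := by
          rw [hxc, Matrix.smul_mul, one_mul, smul_smul, mul_comm, hscal c hc, one_smul]
        calc (((x⁻¹ : R) : GL ι F) : Matrix ι ι F)
            = (((x⁻¹ : R) : GL ι F) : Matrix ι ι F) * (((x : GL ι F) : Matrix ι ι F) * (σ c • 1)) := by
              rw [h2, mul_one]
          _ = σ c • 1 := by rw [← mul_assoc, hmul, one_mul]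
      rw [hxi, hxc, Matrix.trace_smul, Matrix.trace_smul, Matrix.trace_one, smul_eq_mul, smul_eq_mul, map_mul,
        hinv, map_natCast]
  obtain ⟨B, hB⟩ := exists_intertwiner hR.span_eq θ htr
  set G : Matrix ι ι F := (B : Matrix ι ι F)ᵀ with hG
  have hGdet : G.det ≠ 0 := by
    rw [hG, Matrix.det_transpose]; exact (Matrix.GeneralLinearGroup.det B).ne_zero
  have hinvG : ∀ x ∈ R, (x : Matrix ι ι F)ᵀ * G * (x : Matrix ι ι F).map (σ : F →+* F) = G := by
    intro x hx
    have h1 := congrArg Units.val (hB ⟨x, hx⟩)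
    simp only [θ, MonoidHom.comp_apply, Subgroup.coe_subtype, Units.val_mul, dualHom_val] at h1
    have h2 : ((x : Matrix ι ι F).map (σ : F →+* F))ᵀ * (B : Matrix ι ι F) * (x : Matrix ι ι F)
        = (B : Matrix ι ι F) := by
      have h3 : (((x⁻¹ : GL ι F) : Matrix ι ι F).map (σ : F →+* F))ᵀ * (B : Matrix ι ι F)
          = (B : Matrix ι ι F) * (x : Matrix ι ι F) := by
        rw [h1, mul_assoc _ ((B⁻¹ : GL ι F) : Matrix ι ι F), Units.inv_mul, mul_one]
      rw [mul_assoc, ← h3, ← mul_assoc, ← Matrix.transpose_mul, ← Matrix.map_mul, ← Units.val_mul, inv_mul_cancel]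
      simp
    have := congrArg Matrix.transpose h2
    simpa [Matrix.transpose_mul, hG, mul_assoc] using this
  set G' : Matrix ι ι F := (G.map (σ : F →+* F))ᵀ with hG'
  have hinvG' : ∀ x ∈ R, (x : Matrix ι ι F)ᵀ * G' * (x : Matrix ι ι F).map (σ : F →+* F) = G' := by
    intro x hx
    have h1 := congrArg (fun M => (M.map (σ : F →+* F))ᵀ) (hinvG x hx)
    have h2 : ((x : Matrix ι ι F).map (σ : F →+* F)).map (σ : F →+* F) = (x : Matrix ι ι F) := by
      ext i j; exact hinv _
    have h3 : (⇑σ ∘ ⇑σ) = id := funext hinv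
    simpa [Matrix.map_mul, Matrix.transpose_mul, Matrix.transpose_map, h2, h3, hG', mul_assoc] using h1
  obtain ⟨c, hc⟩ := invariant_unique hR.absIrred.2 _ (isUnit_iff_ne_zero.mpr hGdet) hinvG hinvG'
  have hcc : c * σ c = 1 := by
    have h1 : (G'.map (σ : F →+* F))ᵀ = G := by ext i j; simp [hG', hinv]
    rw [hc] at h1
    have h2 : (σ c * c) • G = G := by
      rw [mul_smul, ← hc]
      conv_rhs => rw [← h1]
      rw [hG']
      ext i j
      simp
    have h3 : (σ c * c - 1) • G = 0 := by rw [sub_smul, h2, one_smul, sub_self]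
    rcases smul_eq_zero.mp h3 with h | h
    · rw [mul_comm]; exact sub_eq_zero.mp h
    · exact absurd (by rw [h, Matrix.det_zero]) hGdet
  obtain ⟨μ, hμ0, hμ⟩ : ∃ μ : F, μ ≠ 0 ∧ σ μ * c = μ := by
    have key : ∀ a : F, σ (a + c * σ a) * c = a + c * σ a := by
      intro a
      rw [map_add, map_mul, hinv]
      linear_combination a * hcc
    by_cases hc1 : (1 : F) + c * σ 1 = 0
    · obtain ⟨b, hb⟩ : ∃ b, σ b ≠ b := by
        by_contra hcon
        simp only [not_exists, not_not] at hcon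
        exact hne (RingEquiv.ext hcon)
      refine ⟨b + c * σ b, fun h0 => hb ?_, key b⟩
      rw [map_one, mul_one] at hc1
      linear_combination σ b * hc1 - h0
    · exact ⟨_, hc1, key 1⟩
  refine ⟨σ, sesq (σ : F →+* F) (μ • G), unitaryForm_of_gram hne hinv ?_ ?_, fun g hg => ?_⟩
  · have h1 : ((μ • G).map σ)ᵀ = σ μ • G' := by ext i j; simp [hG']
    rw [h1, hc, smul_smul, hμ]
  · rw [Matrix.det_smul]; exact mul_ne_zero (pow_ne_zero _ hμ0) hGdet
  · refine similar_of_normalizes hR.absIrred.2 _ ?_ (fun x hx => ?_) (hR.norm g hg)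
    · rw [Matrix.det_smul]; exact mul_ne_zero (pow_ne_zero _ hμ0) hGdet
    · rw [Matrix.mul_smul, Matrix.smul_mul, hinvG x hx]

/-- Aschbacher's theorem for the special linear group in odd prime dimension. -/
theorem linear_cases [Fintype F] (hn : (Fintype.card ι).Prime) (hodd : Odd (Fintype.card ι))
    {H : Subgroup (GL ι F)} (hSL : H ≤ Geo.specialLinear ι F) :
    (∃ W : Submodule F (ι → F), W ≠ ⊥ ∧ W ≠ ⊤ ∧ H ≤ Geo.subspaceStabilizer W) ∨
    (∃ D : Fin (Fintype.card ι) → Submodule F (ι → F),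
      Geo.IsMDecomposition 1 D ∧ H ≤ Geo.decompositionStabilizer D) ∨
    (∃ K : Subalgebra F (Matrix ι ι F),
      Geo.IsFieldSubalgebra (Fintype.card ι) K ∧ H ≤ Geo.subalgebraNormalizer K) ∨
    (∃ (F₀ : Subfield F) (r : ℕ) (B : GL ι F), r.Prime ∧ Fintype.card F = Nat.card F₀ ^ r ∧ F₀ ≠ ⊤ ∧
      H ≤ Geo.subfieldSubgroup F₀ B) ∨
    (∃ (R : Subgroup (GL ι F)) (p e : ℕ), IsExtraspecialData H R ∧ p.Prime ∧ CharP F p ∧ Odd e ∧
      Fintype.card F = p ^ e ∧ e = orderOf (p : ZMod (Fintype.card ι)) ∧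
      Geo.IsLinearSymplecticTypeData (Fintype.card ι) R ∧ H ≤ Geo.subgroupNormalizer R) ∨
    (Odd (Fintype.card F) ∧ ∃ Q : (ι → F) → F,
      Geo.IsNondegenerateQuadraticForm Q ∧ H ≤ Geo.quadSimilarityGroup Q) ∨
    (∃ (σ : F ≃+* F) (f : (ι → F) → (ι → F) → F), Geo.IsUnitaryForm σ f ∧ H ≤ Geo.similarityGroup f) ∨
    Geo.InLinearResidualClass H := by
  classical
  have : Nonempty ι := Fintype.card_pos_iff.mp hn.pos
  by_cases hirr : Geo.ActsIrreducibly (Geo.matrixSet H)
  swap
  · left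
    simp only [Geo.ActsIrreducibly, not_forall, not_or] at hirr
    obtain ⟨W, hW, hb, ht⟩ := hirr
    refine ⟨W, hb, ht, fun g hg v => ?_⟩
    have key : ∀ g ∈ H, ∀ w ∈ W, (g : Matrix ι ι F) *ᵥ w ∈ W :=
      fun g hg => (mapsTo_iff_mulVec _ W).mp (hW _ (mem_matrixSet hg))
    refine ⟨key g hg v, fun hv => ?_⟩
    have := key g⁻¹ (inv_mem hg) _ hv
    simpa [Matrix.mulVec_mulVec] using this
  rcases trichotomy hn hodd hSL hirr with ⟨N, e, -, he⟩ | ⟨N, -, -, hK, hle⟩ | ⟨R, hR⟩ | ⟨P, hP⟩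
  · right; left
    obtain ⟨h1, h2⟩ := he.decomposition (Fintype.equivFin ι).symm hn.two_le
    exact ⟨_, h1, h2⟩
  · exact Or.inr (Or.inr (Or.inl ⟨_, hK, hle⟩))
  · right; right; right
    rcases hR.field_cases with ⟨F₀, hF₀, hreal⟩ | ⟨p, e, hne, hmin, hord⟩
    · left
      obtain ⟨F₁, r, B, hr, hc, hne, -, -, hle⟩ := le_subfield_of_realisable hR.norm hR.span_eq hF₀ hreal
      exact ⟨F₁, r, B⁻¹, hr, hc, hne, hle⟩
    rcases Nat.even_or_odd e with he | he
    · right; right; right; left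
      exact hR.exists_unitary hmin he hord
    · right; left
      refine ⟨R, p, e, hR, hmin.1, hmin.2.1, he, hmin.2.2.1, hord, ?_, fun g hg => ?_⟩
      · refine ⟨hR.sympType, hR.absIrred, p, e, hne, hR.card_center.symm ▸ hmin,
          Or.inl ⟨hodd, he, hR.card_center, 1, le_rfl, ?_⟩⟩
        rw [hR.card_eq]
      · refine Subgroup.mem_normalizer_iff.mpr fun x => ⟨hR.norm g hg x, fun hx => ?_⟩
        have := hR.norm g⁻¹ (inv_mem hg) _ hx
        simpa [mul_assoc] using this
  · right; right; right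
    by_cases hsub : ∃ F₀ : Subfield F, F₀ ≠ ⊤ ∧ Geo.RealisableOver F₀ (Geo.matrixSet P)
    · left
      obtain ⟨F₀, hF₀, hreal⟩ := hsub
      obtain ⟨F₁, r, B, hr, hc, hne, -, -, hle⟩ := le_subfield_of_realisable hP.normal hP.span_eq hF₀ hreal
      exact ⟨F₁, r, B⁻¹, hr, hc, hne, hle⟩
    right; right
    by_cases hq : ∃ Q : (ι → F) → F, Geo.IsNondegenerateQuadraticForm Q ∧ Geo.FixesQuadForm (Geo.matrixSet P) Q
    · left
      obtain ⟨Q, hQ, hfix⟩ := hq
      have h2 := two_ne_zero_of_quadratic hodd hQ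
      refine ⟨?_, Q, hQ, fun g hg => quadSimilar_of_normalizes hP.absIrred.2 hQ h2 hfix (hP.normal g hg)⟩
      obtain ⟨p, hp⟩ := CharP.exists F
      obtain ⟨e, hpp, hcard⟩ := FiniteField.card F p
      rw [hcard]
      refine (hpp.odd_of_ne_two ?_).pow
      rintro rfl
      exact h2 (CharP.cast_eq_zero F 2)
    by_cases hu : ∃ (σ : F ≃+* F) (f : (ι → F) → (ι → F) → F),
        Geo.IsUnitaryForm σ f ∧ Geo.FixesForm (Geo.matrixSet P) f
    · right; left
      obtain ⟨σ, f, hf, hfix⟩ := hu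
      have he := unitaryForm_eq_sesq hf
      refine ⟨σ, f, hf, fun g hg => ?_⟩
      rw [he]
      refine similar_of_normalizes hP.absIrred.2 _ (det_ne_zero_of_nondegenerate _ (he ▸ hf.nondegenerate)) ?_
        (hP.normal g hg)
      intro x hx
      refine Eq.trans ((sesq_invariant_iff _ _ (x : Matrix ι ι F) 1).mp fun u v => ?_) (one_smul F _)
      rw [← he, one_mul, hfix _ (mem_matrixSet hx)]
    · right; right
      exact ⟨P, hP.residualCore fun F₀ h hr => hsub ⟨F₀, h, hr⟩, hq,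
        fun ⟨f, hf, _⟩ => not_isSymplecticForm hodd hf, hu⟩

end Cfsg.Agent.PrimeDim
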