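import Cfsg.Agent.Lib.PrimeDim.UnitaryBasic
import Cfsg.Agent.Lib.Unitary.Witt

/-!
# The field normaliser `11:5` is not maximal in `SU_5(2)`

`model_exists` builds, for a degree-five adjoint-closed field `K`, a vector `v` and an element `y` of order 11 with
`h(y^i v, y^j v)` depending only on the quadratic character of `i - j`; the map `i ↦ -1/i` of the projective line
then gives an extra isometry (`L2(11)`), see `field_not_maximal`.
-/

set_option autoImplicit false

namespace Cfsg.Agent.PrimeDim.SU5Two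

open Matrix

variable {F : Type*} [Field F] [Fintype F]

local notation "hq" => Cfsg.hermForm 5 F 2
local notation "Γ" => Cfsg.GU 5 F 2 ⊓ Geo.specialLinear (Fin 5) F
local notation "M5" => Matrix (Fin 5) (Fin 5) F

/-- The coordinates of the Gram values in the basis `1, η`. -/
def gcoef (d : ZMod 11) : ZMod 2 × ZMod 2 :=
  if d = 0 then (1, 0) else if d = 1 ∨ d = 3 ∨ d = 4 ∨ d = 5 ∨ d = 9 then (0, 1) else (1, 1)

/-- `i ↦ -1/i`, with `0 ↦ 0`. -/
def negInv (i : ZMod 11) : ZMod 11 := -i ^ 9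

/-- The permutation of the projective line over `ZMod 11`, `none` being the point at infinity. -/
def flip : Option (ZMod 11) → Option (ZMod 11)
  | none => some 0
  | some i => if i = 0 then none else some (negInv i)

/-- Abstract data: vectors `u`, a scalar `η`, and the Gram matrix. -/
structure Model (u : ZMod 11 → (Fin 5 → F)) (η : F) : Prop where
  gram : ∀ i j, hq (u i) (u j) = (((gcoef (i - j)).1.val : ℕ) : F) + (((gcoef (i - j)).2.val : ℕ) : F) * η
  indep : LinearIndependent F fun k : Fin 5 => u ((k : ℕ) : ZMod 11)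

/-- The extra isometry. -/
theorem exists_flip (hF : Fintype.card F = 2 ^ 2) (h2 : (2 : F) = 0) {u : ZMod 11 → (Fin 5 → F)} {η : F}
    (hm : Model u η) :
    ∃ s : GL (Fin 5) F, s ∈ Γ ∧ ∀ i, (s : M5) *ᵥ u i = if i = 0 then u 0 else u (negInv i) + u 0 := by
  classical
  have H := Unitary.hermForm_isHerm hF 5
  let φ : ZMod 2 × ZMod 2 → F := fun p => ((p.1.val : ℕ) : F) + ((p.2.val : ℕ) : F) * η
  have hval : ∀ a b : ZMod 2, (((a + b).val : ℕ) : F) = (a.val : F) + (b.val : F) := by
    intro a b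
    have hab : (a + b).val = (a.val + b.val) % 2 := ZMod.val_add a b
    have h3 : ((a.val + b.val : ℕ) : F) = ((2 * ((a.val + b.val) / 2) + (a.val + b.val) % 2 : ℕ) : F) := by
      rw [Nat.div_add_mod]
    push_cast at h3
    rw [h2, zero_mul, zero_add] at h3
    rw [hab, h3]
  have hφadd : ∀ a b, φ (a + b) = φ a + φ b := fun a b => by
    simp only [φ, Prod.fst_add, Prod.snd_add, hval]; ring
  have hgram : ∀ i j, hq (u i) (u j) = φ (gcoef (i - j)) := hm.gram
  let w : ZMod 11 → (Fin 5 → F) := fun i => if i = 0 then u 0 else u (negInv i) + u 0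
  have hwgram : ∀ i j, hq (w i) (w j) = hq (u i) (u j) := by
    have key : ∀ i j : ZMod 11, i ≠ 0 → j ≠ 0 →
        gcoef (negInv i - negInv j) + gcoef (negInv i - 0) + (gcoef (0 - negInv j) + gcoef (0 - 0))
          = gcoef (i - j) := by decide
    have key1 : ∀ i : ZMod 11, i ≠ 0 → gcoef (negInv i - 0) + gcoef (0 - 0) = gcoef (i - 0) ∧
        gcoef (0 - negInv i) + gcoef (0 - 0) = gcoef (0 - i) := by decide
    intro i j
    simp only [w]
    split_ifs with hi hj hj
    · rw [hi, hj]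
    · rw [H.add_right hF, hgram, hgram, hgram, ← hφadd, hi, (key1 j hj).2]
    · rw [H.add_left, hgram, hgram, hgram, ← hφadd, hj, (key1 i hi).1]
    · rw [H.add_left, H.add_right hF, H.add_right hF, hgram, hgram, hgram, hgram, hgram, ← hφadd, ← hφadd,
        ← hφadd, key i j hi hj]
  let u5 : Fin 5 → (Fin 5 → F) := fun k => u ((k : ℕ) : ZMod 11)
  let w5 : Fin 5 → (Fin 5 → F) := fun k => w ((k : ℕ) : ZMod 11)
  have hu5 : LinearIndependent F u5 := hm.indep
  have hsp : ∀ x, x ∈ Submodule.span F (Set.range u5) := fun x => by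
    rw [hu5.span_eq_top_of_card_eq_finrank' (by simp)]; trivial
  have hw5 : LinearIndependent F w5 := by
    rw [Fintype.linearIndependent_iff]
    intro g hg
    have h1 : ∀ x, hq (∑ k, g k • u5 k) x = 0 := by
      intro x
      induction hsp x using Submodule.span_induction with
      | mem y hy =>
        obtain ⟨j, rfl⟩ := hy
        have h2 : hq (∑ k, g k • w5 k) (w5 j) = 0 := by rw [hg, H.zero_left]
        rw [H.sum_left] at h2 ⊢
        refine Eq.trans (Finset.sum_congr rfl fun k _ => ?_) h2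
        rw [H.smul_left, H.smul_left]
        exact congrArg _ (hwgram _ _).symm
      | zero => exact H.zero_right hF _
      | add a b _ _ ha hb => rw [H.add_right hF, ha, hb, add_zero]
      | smul c a _ ha => rw [H.smul_right, ha, mul_zero]
    exact Fintype.linearIndependent_iff.mp hu5 g (Unitary.hermForm_nondeg hF 5 _ h1)
  obtain ⟨s₀, hs₀⟩ := Unitary.exists_gu_witt hF hu5 hw5 (fun i j => hwgram _ _)
  set s : GL (Fin 5) F := (s₀ : GL (Fin 5) F) with hs
  have hsU : s ∈ Cfsg.GU 5 F 2 := s₀.2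
  have hspw : ∀ x, x ∈ Submodule.span F (Set.range w5) := fun x => by
    rw [hw5.span_eq_top_of_card_eq_finrank' (by simp)]; trivial
  have hsu : ∀ i, (s : M5) *ᵥ u i = w i := by
    intro i
    refine sub_eq_zero.mp (Unitary.hermForm_nondeg hF 5 _ fun x => ?_)
    induction hspw x using Submodule.span_induction with
    | mem y hy =>
      obtain ⟨j, rfl⟩ := hy
      rw [H.sub_left]
      have h1 : hq ((s : M5) *ᵥ u i) ((s : M5) *ᵥ u5 j) = hq (u i) (u5 j) := hsU _ _
      rw [hs, hs₀ j, ← hs] at h1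
      rw [h1, show w5 j = w ((j : ℕ) : ZMod 11) from rfl, hwgram, sub_self]
    | zero => exact H.zero_right hF _
    | add a b _ _ ha hb => rw [H.add_right hF, ha, hb, add_zero]
    | smul c a _ ha => rw [H.smul_right, ha, mul_zero]
  have hss : s * s = 1 := by
    refine Units.ext ?_
    refine Matrix.toLin'.injective (LinearMap.ext fun x => ?_)
    simp only [Units.val_mul, Units.val_one, Matrix.toLin'_apply, Matrix.one_mulVec]
    induction hsp x using Submodule.span_induction with
    | mem y hy =>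
      obtain ⟨j, rfl⟩ := hy
      have hinvol : ∀ i : ZMod 11, i ≠ 0 → negInv i ≠ 0 ∧ negInv (negInv i) = i := by decide
      rw [← Matrix.mulVec_mulVec]
      show (s : M5) *ᵥ ((s : M5) *ᵥ u _) = u _
      rw [hsu]
      simp only [w]
      split_ifs with h
      · rw [hsu, show w 0 = u 0 from if_pos rfl, h]
      · obtain ⟨h0, h1⟩ := hinvol _ h
        rw [Matrix.mulVec_add, hsu, hsu, show w 0 = u 0 from if_pos rfl,
          show w (negInv _) = _ from if_neg h0, h1, add_assoc]
        funext k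
        simp only [Pi.add_apply]
        linear_combination u 0 k * h2
    | zero => simp
    | add a b _ _ ha hb => rw [Matrix.mulVec_add, ha, hb]
    | smul c a _ ha => rw [Matrix.mulVec_smul, ha]
  refine ⟨s, ⟨hsU, ?_⟩, hsu⟩
  show Matrix.GeneralLinearGroup.det s = 1
  have h1 := congrArg (fun g : GL (Fin 5) F => ((Matrix.GeneralLinearGroup.det g : Fˣ) : F)) hss
  simp only [map_mul, map_one, Units.val_mul, Units.val_one] at h1
  refine Units.ext ?_
  rcases mul_self_eq_one_iff.mp h1 with h | h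
  · exact h
  · rw [h, Units.val_one]; linear_combination -h2

/-- The configuration preserved by `L2(11)`. -/
def config (u : ZMod 11 → (Fin 5 → F)) : Set (Fin 5 → F) :=
  Set.range fun p : Option (ZMod 11) × Option (ZMod 11) => p.1.elim 0 u + p.2.elim 0 u

theorem image_config (hF : Fintype.card F = 2 ^ 2) {u : ZMod 11 → (Fin 5 → F)} {g : GL (Fin 5) F}
    (hg : ∀ x ∈ config u, (g : M5) *ᵥ x ∈ config u) :
    ((g : M5) *ᵥ ·) '' config u = config u := by
  refine Set.eq_of_subset_of_ncard_le (by rintro _ ⟨x, hx, rfl⟩; exact hg x hx) ?_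
  have hinj : Function.Injective ((g : M5) *ᵥ ·) := fun a b h => by
    have := congrArg (((g⁻¹ : GL (Fin 5) F) : M5) *ᵥ ·) h
    simpa [Matrix.mulVec_mulVec] using this
  rw [Set.ncard_image_of_injective _ hinj]

/-- The stabiliser of a configuration is a proper subgroup. -/
theorem exists_not_preserving (hF : Fintype.card F = 2 ^ 2) {u : ZMod 11 → (Fin 5 → F)}
    (hu : hq (u 0) (u 0) = 1) : ∃ g ∈ Γ, ((g : M5) *ᵥ ·) '' config u ≠ config u := by
  classical
  obtain ⟨x, hx1, hx⟩ : ∃ x, hq x x = 1 ∧ x ∉ config u := by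
    by_contra hcon
    simp only [not_exists, not_and, not_not] at hcon
    have h1 : Unitary.normCount 5 2 (1 : F) ≤ Nat.card (Option (ZMod 11) × Option (ZMod 11)) := by
      refine le_trans ?_ (Nat.card_le_card_of_surjective
        (fun p : Option (ZMod 11) × Option (ZMod 11) => (⟨_, ⟨p, rfl⟩⟩ : config u)) ?_)
      · exact Nat.card_le_card_of_injective (fun v => (⟨v.1, hcon v.1 v.2⟩ : config u))
          (fun a b h => Subtype.ext (congrArg Subtype.val h :))
      · rintro ⟨_, p, rfl⟩; exact ⟨p, rfl⟩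
    rw [Unitary.normOne_count hF] at h1
    rw [if_neg (by decide : ¬ Even 5), Nat.card_eq_fintype_card, Fintype.card_prod, Fintype.card_option,
      ZMod.card] at h1
    norm_num at h1
  have hb : Unitary.Orthonormal hq (fun _ : Fin 1 => x) :=
    ⟨fun _ => hx1, fun i j hij => absurd (Subsingleton.elim i j) hij⟩
  obtain ⟨e, he1, he⟩ : ∃ e, hq e e = 1 ∧ ∀ i : Fin 1, hq e x = 0 := by
    by_contra hcon
    simp only [not_exists, not_and] at hcon
    have : IsEmpty {v : Fin 5 → F // hq v v = 1 ∧ ∀ i : Fin 1, hq v x = 0} :=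
      ⟨fun v => hcon v.1 v.2.1 v.2.2⟩
    have h1 := Unitary.orthonormal_next hF (k := 1) (by norm_num) hb (1 : F)
    rw [Nat.card_of_isEmpty, Unitary.normOne_count hF] at h1
    simp [(by decide : Even 4)] at h1
  have H := Unitary.hermForm_isHerm hF 5
  have hne : ∀ z, hq z z = 1 → z ≠ 0 := fun z hz h => by rw [h, H.zero_left] at hz; exact zero_ne_one hz
  obtain ⟨g, hg⟩ := Unitary.exists_su_witt hF (k := 1) (u := fun _ => u 0) (w := fun _ => x)
    (linearIndependent_unique_iff.mpr (hne _ hu)) (linearIndependent_unique_iff.mpr (hne _ hx1))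
    (fun _ _ => by rw [hx1, hu]) he1 (fun i => (H.eq_zero_symm hF).mp (he i))
  refine ⟨Matrix.SpecialLinearGroup.toGL (g : Matrix.SpecialLinearGroup (Fin 5) F), ⟨g.2, ?_⟩, fun h => hx ?_⟩
  · show _ ∈ Geo.specialLinear (Fin 5) F
    exact Transvect.mem_sl_iff.mpr (g : Matrix.SpecialLinearGroup (Fin 5) F).2
  · rw [← h]
    exact ⟨u 0, ⟨(some 0, none), by simp⟩, hg 0⟩

theorem four_mul_facts : ((4 : ℕ) : ZMod 11) * (3 * 1) = 1 ∧ ((4 : ℕ) : ZMod 11) * (4 * 1) = 5 * 1 ∧
    ((4 : ℕ) : ZMod 11) * (5 * 1) = 9 * 1 ∧ ((4 : ℕ) : ZMod 11) * (9 * 1) = 3 * 1 := by decide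

theorem two_mul_facts : ((2 : ℕ) : ZMod 11) * (3 * 1) = 3 * 2 ∧ ((2 : ℕ) : ZMod 11) * (4 * 1) = 4 * 2 ∧
    ((2 : ℕ) : ZMod 11) * (5 * 1) = 5 * 2 ∧ ((2 : ℕ) : ZMod 11) * (9 * 1) = 9 * 2 := by decide

theorem three_mul_facts : (3 : ZMod 11) * 3 = 9 ∧ (4 : ZMod 11) * 3 = 1 ∧ (5 : ZMod 11) * 3 = 4 ∧
    (9 : ZMod 11) * 3 = 5 := by decide

theorem two_doubling : (3 : ZMod 11) * 2 = 6 ∧ (4 : ZMod 11) * 2 = 8 ∧ (5 : ZMod 11) * 2 = 10 ∧
    (9 : ZMod 11) * 2 = 7 := by decide

theorem univ_eleven : (Finset.univ : Finset (ZMod 11)) = {0, 1, 2, 3, 4, 5, 6, 7, 8, 9, 10} := by decide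

theorem four_pow_inj : ∀ a b : Fin 5, (4 : ZMod 11) ^ (a : ℕ) = (4 : ZMod 11) ^ (b : ℕ) → a = b := by decide

theorem sq_root : ∀ m : ℕ, m < 11 → ((m * m : ℕ) : ZMod 11) = 1 → m = 1 ∨ m = 10 := by decide

theorem classes : ∀ d : ZMod 11, d = 0 ∨ ∃ k : Fin 5, d = 3 ^ (k : ℕ) * 1 ∨ d = 3 ^ (k : ℕ) * 2 := by decide

theorem gcoef_class : ∀ k : Fin 5, gcoef (3 ^ (k : ℕ) * 1) = (0, 1) ∧ gcoef (3 ^ (k : ℕ) * 2) = (1, 1) := by decide

theorem gcoef_mul : ∀ m d : ZMod 11, gcoef m = (0, 1) → gcoef (m * d) = gcoef d ∧ m ^ 5 = 1 := by decide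

theorem gcoef_ne : ∀ m : ZMod 11, gcoef m = (1, 0) ∨ gcoef m = (0, 1) ∨ gcoef m = (1, 1) := by decide

theorem ne_facts : (3 : ZMod 11) ≠ 0 ∧ ((3 : ℕ) : ZMod 11) * 1 = 3 ∧ ((32 : ℕ) : ZMod 11) * 10 = 1 := by decide

theorem misc_facts : (∀ d : ZMod 11, ((32 : ℕ) : ZMod 11) * d = -d) ∧ (10 : ZMod 11) + 1 = 0 ∧
    ((11 : ℕ) : ZMod 11) = 0 ∧ ((2 : ℕ) : ZMod 11) * 1 = 2 ∧ ((4 : ℕ) : ZMod 11) * 1 = 4 * 1 := by decide

/-- From an adjoint-closed field of degree five: the model, and the action of its normaliser. -/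
theorem exists_model_of_field (hF : Fintype.card F = 2 ^ 2) (h2 : (2 : F) = 0) {K : Subalgebra F M5}
    (hK : Geo.IsFieldSubalgebra 5 K) (hadj : ∀ k ∈ K, adjU hF k ∈ K) :
    ∃ (u : ZMod 11 → (Fin 5 → F)) (η : F), Model u η ∧
      (∀ g ∈ Geo.subalgebraNormalizer K ⊓ Γ, ∃ m b : ZMod 11, ∀ i, (g : M5) *ᵥ u i = u (m * i + b)) ∧
      (∀ g : GL (Fin 5) F, g ∈ Geo.subalgebraNormalizer K → (g : M5) *ᵥ u 0 = u 0 →
        (g : M5) *ᵥ u 1 ≠ u 10 + u 0) := by
  classical
  have H := Unitary.hermForm_isHerm hF 5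
  have hF4 : ∀ a : F, a ^ 4 = a := fun a => by
    conv_rhs => rw [← FiniteField.pow_card a, hF]
    norm_num
  let : CommRing K :=
    { (inferInstance : Ring K) with mul_comm := fun a b => Subtype.ext (hK.comm _ a.2 _ b.2) }
  have hfield : IsField K := ⟨⟨0, 1, fun h => zero_ne_one (congrArg Subtype.val h)⟩, mul_comm, fun {a} ha => by
    obtain ⟨y, hy, h⟩ := hK.inv a.1 a.2 (fun h => ha (Subtype.ext h))
    exact ⟨⟨y, hy⟩, Subtype.ext h⟩⟩
  let := hfield.toField
  have : Fintype K := Fintype.ofFinite K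
  have hKc : Fintype.card K = 1024 := by
    rw [Module.card_eq_pow_finrank (K := F) (V := K), hK.finrank_eq, hF]; norm_num
  have h2K : (2 : K) = 0 := by rw [← map_ofNat (algebraMap F K), h2, map_zero]
  have : CharP K 2 := CharTwo.of_one_ne_zero_of_two_eq_zero one_ne_zero h2K
  have : ExpChar K 2 := ExpChar.prime Nat.prime_two
  set ι := algebraMap F K with hι
  -- the fixed points of `x ↦ x ^ 4`
  have hfix4 : ∀ k : K, k ^ 4 = k → ∃ a : F, ι a = k := by
    intro k hk
    let p : Polynomial K := Polynomial.X ^ 4 - Polynomial.X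
    have hp : p.natDegree = 4 := by
      simp only [p]; compute_degree!
    have hp0 : p ≠ 0 := fun h => by rw [h] at hp; simp at hp
    by_contra hcon
    simp only [not_exists] at hcon
    have hsub : insert k (Finset.univ.image ι) ⊆ p.roots.toFinset := by
      intro z hz
      rw [Multiset.mem_toFinset, Polynomial.mem_roots hp0, Polynomial.IsRoot]
      simp only [p, Polynomial.eval_sub, Polynomial.eval_pow, Polynomial.eval_X, sub_eq_zero]
      rcases Finset.mem_insert.mp hz with rfl | hz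
      · exact hk
      · obtain ⟨a, -, rfl⟩ := Finset.mem_image.mp hz
        rw [← map_pow, hF4]
    have h1 := (Finset.card_le_card hsub).trans ((Multiset.toFinset_card_le _).trans p.card_roots')
    rw [Finset.card_insert_of_notMem (by simp; exact hcon), Finset.card_image_of_injective _ ι.injective,
      Finset.card_univ, hF, hp] at h1
    omega
  -- an element of order 11
  have : Fact (Nat.Prime 11) := ⟨by norm_num⟩
  obtain ⟨y₀, hy₀⟩ := exists_prime_orderOf_dvd_card (G := Kˣ) 11 (by rw [Fintype.card_units, hKc]; norm_num)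
  set y : K := (y₀ : K) with hy
  have hprim : IsPrimitiveRoot y 11 := by
    rw [← hy₀, ← orderOf_units]; exact IsPrimitiveRoot.orderOf _
  have hy11 : y ^ 11 = 1 := hprim.pow_eq_one
  let P : ZMod 11 → K := fun d => y ^ d.val
  have hP : ∀ m : ℕ, y ^ m = P (m : ZMod 11) := fun m => by
    simp only [P, ZMod.val_natCast]
    conv_lhs => rw [← Nat.div_add_mod m 11, pow_add, pow_mul, hy11, one_pow, one_mul]
  have hPmul : ∀ a b, P a * P b = P (a + b) := fun a b => by
    show y ^ a.val * y ^ b.val = _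
    rw [← pow_add, hP, Nat.cast_add, ZMod.natCast_zmod_val, ZMod.natCast_zmod_val]
  have hPpow : ∀ a (m : ℕ), P a ^ m = P (m * a) := fun a m => by
    show (y ^ a.val) ^ m = _
    rw [← pow_mul, hP, Nat.cast_mul, ZMod.natCast_zmod_val, mul_comm]
  have hP0 : P 0 = 1 := by simp [P]
  have hP1 : P 1 = y := by simp [P, ZMod.val_one]
  have hPne : ∀ a, P a ≠ 0 := fun a => pow_ne_zero _ (hprim.ne_zero (by norm_num))
  have hPinj : Function.Injective P := fun a b h =>
    ZMod.val_injective 11 (hprim.pow_inj a.val_lt b.val_lt h)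
  -- periods
  let S : ZMod 11 → K := fun d => P d + P (3 * d) + P (4 * d) + P (5 * d) + P (9 * d)
  have hS4 : S 1 ^ 4 = S 1 := by
    have hfr : ∀ a b : K, (a + b) ^ 4 = a ^ 4 + b ^ 4 := fun a b => add_pow_expChar_pow a b 2 2
    simp only [S, hfr, hPpow]
    obtain ⟨f1, f2, f3, f4⟩ := four_mul_facts
    rw [show ((4 : ℕ) : ZMod 11) * 1 = 4 * 1 by rfl, f1, f2, f3, f4]
    ring
  obtain ⟨η, hη⟩ := hfix4 _ hS4
  have hsum0 : ∑ d : ZMod 11, P d = 0 := by
    have h1 : ∀ d, y * P d = P (1 + d) := fun d => by rw [← hP1, hPmul]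
    have h2' : y * ∑ d : ZMod 11, P d = ∑ d : ZMod 11, P d := by
      rw [Finset.mul_sum]; simp only [h1]
      exact Fintype.sum_equiv (Equiv.addLeft 1) _ _ (fun d => rfl)
    have h3 : (y - 1) * ∑ d : ZMod 11, P d = 0 := by rw [sub_mul, one_mul, h2', sub_self]
    exact (mul_eq_zero.mp h3).resolve_left (sub_ne_zero.mpr (hprim.ne_one (by norm_num)))
  have hSsum : 1 + S 1 + S 2 = 0 := by
    rw [← hsum0]
    rw [univ_eleven]
    simp (config := {decide := true}) [Finset.sum_insert]
    simp only [S, hP0]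
    obtain ⟨f1, f2, f3, f4⟩ := two_doubling
    rw [f1, f2, f3, f4]
    simp only [mul_one]
    ring
  have hS2 : S 2 = S 1 ^ 2 := by
    have hfr : ∀ a b : K, (a + b) ^ 2 = a ^ 2 + b ^ 2 := fun a b => add_pow_expChar a b 2
    simp only [S, hfr, hPpow]
    obtain ⟨f1, f2, f3, f4⟩ := two_mul_facts
    rw [show ((2 : ℕ) : ZMod 11) * 1 = 2 by rfl, f1, f2, f3, f4]
  have hη2 : η ^ 2 + η + 1 = 0 := by
    apply ι.injective
    rw [map_add, map_add, map_pow, map_one, map_zero, hη, ← hS2]
    linear_combination hSsum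
  have hηne : η ^ 2 ≠ η := fun h => one_ne_zero (α := F) (by linear_combination hη2 - h - η * h2)
  -- independence of five powers
  let z : Fin 5 → K := ![P 1, P 4, P 5, P 9, P 3]
  have hind : ∀ g : Fin 5 → F, (∑ k : Fin 5, ι (g k) * P ((k : ℕ) : ZMod 11)) = 0 → g = 0 := by
    intro g hg
    have hfix : ∀ (a : F) (j : ℕ), ι a ^ 4 ^ j = ι a := fun a j => by
      induction j with
      | zero => simp
      | succ j ih => rw [pow_succ, pow_mul, ih, ← map_pow, hF4]
    have hconj : ∀ j : Fin 5, ∑ k : Fin 5, ι (g k) * P ((4 : ZMod 11) ^ (j : ℕ) * ((k : ℕ) : ZMod 11)) = 0 := by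
      intro j
      have h1 := congrArg (iterateFrobenius K 2 (2 * (j : ℕ))) hg
      rw [map_sum, map_zero] at h1
      refine Eq.trans (Finset.sum_congr rfl fun k _ => ?_) h1
      rw [map_mul, iterateFrobenius_def, iterateFrobenius_def, pow_mul, show (2 : ℕ) ^ 2 = 4 by norm_num, hfix,
        hPpow]
      push_cast
      rfl
    let V : Matrix (Fin 5) (Fin 5) K := Matrix.vandermonde fun j => P ((4 : ZMod 11) ^ (j : ℕ))
    have hdet : V.det ≠ 0 := by
      rw [Matrix.det_vandermonde_ne_zero_iff]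
      intro a b hab
      exact four_pow_inj _ _ (hPinj hab)
    have hv := Matrix.eq_zero_of_mulVec_eq_zero hdet (v := fun k => ι (g k)) (funext fun j => by
      rw [Pi.zero_apply, ← hconj j]
      simp only [V, Matrix.mulVec, dotProduct, Matrix.vandermonde_apply, hPpow]
      exact Finset.sum_congr rfl fun k _ => by rw [mul_comm, mul_comm ((k : ℕ) : ZMod 11)])
    exact funext fun k => ι.injective (by rw [Pi.zero_apply, map_zero]; exact congrFun hv k)
  have hli : LinearIndependent F fun k : Fin 5 => P ((k : ℕ) : ZMod 11) := by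
    rw [Fintype.linearIndependent_iff]
    intro g hg k
    refine congrFun (hind g ?_) k
    rw [← hg]
    exact Finset.sum_congr rfl fun k _ => (Algebra.smul_def _ _).symm
  have hspanK : ∀ k : K, k ∈ Submodule.span F (Set.range fun k : Fin 5 => P ((k : ℕ) : ZMod 11)) := fun k => by
    rw [hli.span_eq_top_of_card_eq_finrank' (by simp [hK.finrank_eq])]; trivial
  -- the adjoint on K
  let σK : K →+* K :=
    { toFun := fun k => ⟨adjU hF (k : M5), hadj _ k.2⟩
      map_one' := Subtype.ext (adjU_one hF)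
      map_mul' := fun a b => by
        rw [mul_comm a b]
        exact Subtype.ext (adjU_mul hF _ _)
      map_zero' := Subtype.ext (by
        ext i j; simp only [ZeroMemClass.coe_zero, adjU, Matrix.transpose_apply, Matrix.map_apply,
          Matrix.zero_apply, map_zero])
      map_add' := fun a b => Subtype.ext (adjU_add hF _ _) }
  have hσι : ∀ a, σK (ι a) = ι (a ^ 2) := fun a => Subtype.ext (by
    show adjU hF ((algebraMap F K a : K) : M5) = ((algebraMap F K (a ^ 2) : K) : M5)
    rw [Subalgebra.coe_algebraMap, Subalgebra.coe_algebraMap, Algebra.algebraMap_eq_smul_one,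
      Algebra.algebraMap_eq_smul_one, adjU_smul, adjU_one])
  have hσy : σK y = P 10 := by
    obtain ⟨m, hm, hmy⟩ := hprim.eq_pow_of_pow_eq_one (ξ := σK y) (by rw [← map_pow, hy11, map_one])
    have h1 : σK (σK y) = y := Subtype.ext (adjU_adjU hF _)
    rw [← hmy, map_pow, ← hmy, ← pow_mul, hP, ← hP1] at h1
    have h3 : m = 1 ∨ m = 10 := by
      exact sq_root m hm (hPinj h1)
    rcases h3 with rfl | rfl
    · exfalso
      rw [pow_one] at hmy
      have hσP : ∀ d, σK (P d) = P d := fun d => by simp only [P, map_pow, ← hmy]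
      have : σK (S 1) = S 1 := by simp only [S, map_add, hσP]
      rw [← hη, hσι] at this
      exact hηne (ι.injective this)
    · rw [← hmy]; exact hP 10
  have hσ32 : ∀ k : K, σK k = k ^ 32 := by
    have hσP : ∀ d, σK (P d) = P d ^ 32 := fun d => by
      show σK (y ^ d.val) = (y ^ d.val) ^ 32
      have h32 : P 10 = y ^ 32 := by rw [hP]; rfl
      rw [map_pow, hσy, h32, ← pow_mul, ← pow_mul, mul_comm]
    intro k
    induction hspanK k using Submodule.span_induction with
    | mem x hx => obtain ⟨j, rfl⟩ := hx; exact hσP _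
    | zero => simp
    | add a b _ _ ha hb => rw [map_add, ha, hb]; exact (add_pow_expChar_pow a b 2 5).symm
    | smul c a _ ha =>
      rw [Algebra.smul_def, map_mul, ha, ← hι, hσι, mul_pow, ← map_pow]
      congr 2
      calc c ^ 2 = ((c ^ 4) ^ 4) ^ 2 := by rw [hF4, hF4]
        _ = c ^ 32 := by ring
  -- the trace
  let T : K → K := fun k => k + k ^ 4 + k ^ 16 + k ^ 64 + k ^ 256
  have hpow1024 : ∀ k : K, k ^ 1024 = k := fun k => by rw [← hKc]; exact FiniteField.pow_card k
  have hfr : ∀ (j : ℕ) (a b : K), (a + b) ^ 2 ^ j = a ^ 2 ^ j + b ^ 2 ^ j := fun j a b => add_pow_expChar_pow a b 2 j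
  have hT4 : ∀ k, T k ^ 4 = T k := fun k => by
    simp only [T, show (4 : ℕ) = 2 ^ 2 by norm_num, hfr 2]
    norm_num [← pow_mul, hpow1024]
    ring
  choose tr htr using fun k => hfix4 _ (hT4 k)
  let τ : K →ₗ[F] F :=
    { toFun := tr
      map_add' := fun a b => ι.injective (by
        rw [map_add, htr, htr, htr]
        simp only [T, show (4 : ℕ) = 2 ^ 2 by norm_num, show (16 : ℕ) = 2 ^ 4 by norm_num,
          show (64 : ℕ) = 2 ^ 6 by norm_num, show (256 : ℕ) = 2 ^ 8 by norm_num, hfr]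
        ring)
      map_smul' := fun c a => ι.injective (by
        rw [RingHom.id_apply, smul_eq_mul, map_mul, htr, htr, Algebra.smul_def, ← hι]
        simp only [T, mul_pow, ← map_pow]
        have e1 : c ^ 4 = c := hF4 c
        have e2 : c ^ 16 = c := by rw [show 16 = 4 * 4 by norm_num, pow_mul, e1, e1]
        have e3 : c ^ 64 = c := by rw [show 64 = 16 * 4 by norm_num, pow_mul, e2, e1]
        have e4 : c ^ 256 = c := by rw [show 256 = 64 * 4 by norm_num, pow_mul, e3, e1]
        rw [e1, e2, e3, e4]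
        ring) }
  have hτ : ∀ k, ι (τ k) = T k := htr
  have hTP : ∀ d, T (P d) = S d := fun d => by
    simp only [T, S, hPpow]
    rw [show ((4 : ℕ) : ZMod 11) = 4 by rfl, show ((16 : ℕ) : ZMod 11) = 5 by rfl,
      show ((64 : ℕ) : ZMod 11) = 9 by rfl, show ((256 : ℕ) : ZMod 11) = 3 by rfl]
    ring
  have hτP : ∀ d, τ (P d) = (((gcoef d).1.val : ℕ) : F) + (((gcoef d).2.val : ℕ) : F) * η := by
    intro d
    apply ι.injective
    rw [hτ, hTP, map_add, map_mul, map_natCast, map_natCast, hη]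
    have hS3 : ∀ d, S (3 * d) = S d := fun d => by
      obtain ⟨f1, f2, f3, f4⟩ := three_mul_facts
      simp only [S, ← mul_assoc, f1, f2, f3, f4, one_mul]
      ring
    have hS3k : ∀ (k : ℕ) d, S (3 ^ k * d) = S d := fun k => by
      induction k with
      | zero => intro d; rw [pow_zero, one_mul]
      | succ k ih => intro d; rw [pow_succ, mul_assoc, ih, hS3]
    rcases classes d with rfl | ⟨k, rfl | rfl⟩
    · simp [S, hP0, gcoef]
      linear_combination (2 : K) * h2K
    · rw [(gcoef_class k).1, hS3k]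
      simp [ZMod.val_one]
    · rw [(gcoef_class k).2, hS3k]
      simp [ZMod.val_one]
      linear_combination hSsum - (1 + S 1) * h2K
  have hη0 : η ≠ 0 := fun h => by simp [h] at hη2
  have hτ1 : τ (P 1) = η := by
    rw [hτP, show gcoef 1 = (0, 1) by rfl]; simp [ZMod.val_one]
  have hτnd : ∀ z : K, (∀ d, τ (z * P d) = 0) → z = 0 := by
    intro z hz
    by_contra hz0
    have hall : ∀ k, τ (z * k) = 0 := fun k => by
      induction hspanK k using Submodule.span_induction with
      | mem x hx => obtain ⟨j, rfl⟩ := hx; exact hz _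
      | zero => rw [mul_zero, map_zero]
      | add a b _ _ ha hb => rw [mul_add, map_add, ha, hb, add_zero]
      | smul c a _ ha => rw [mul_smul_comm, map_smul, ha, smul_zero]
    have := hall (z⁻¹ * P 1)
    rw [mul_inv_cancel_left₀ hz0, hτ1] at this
    exact hη0 this
  -- the base vector
  let v : Fin 5 → F := Pi.single 0 1
  have hv : v ≠ 0 := by simp [v]
  let E : K →ₗ[F] (Fin 5 → F) :=
    { toFun := fun k => (k : M5) *ᵥ v
      map_add' := fun a b => Matrix.add_mulVec _ _ _
      map_smul' := fun c a => Matrix.smul_mulVec _ _ _ }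
  have hEmul : ∀ a b : K, E (a * b) = (a : M5) *ᵥ E b := fun a b => by
    show ((a * b : K) : M5) *ᵥ v = (a : M5) *ᵥ ((b : M5) *ᵥ v)
    rw [Subalgebra.coe_mul, Matrix.mulVec_mulVec]
  have hEinj : Function.Injective E := LinearMap.ker_eq_bot.mp (LinearMap.ker_eq_bot'.mpr fun k hk => by
    by_contra hk0
    have h1 := hEmul k⁻¹ k
    rw [inv_mul_cancel₀ hk0, hk, Matrix.mulVec_zero] at h1
    exact hv (by simpa [E] using h1))
  have hfr5 : Module.finrank F K = Module.finrank F (Fin 5 → F) := by rw [hK.finrank_eq]; simp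
  have hEsurj : Function.Surjective E :=
    (LinearMap.injective_iff_surjective_of_finrank_eq_finrank hfr5).mp hEinj
  let lam : K →ₗ[F] F := Transvect.ufl (hermForm_unitary hF) v ∘ₗ E
  have hlam : ∀ a b : K, hq (E a) (E b) = lam (σK b * a) := fun a b => by
    show _ = hq (E (σK b * a)) v
    rw [hEmul]
    show _ = hq (adjU hF (b : M5) *ᵥ E a) v
    rw [herm_adjU hF, adjU_adjU]
    rfl
  let Φ : K →ₗ[F] Module.Dual F K := (LinearMap.mul F K).compr₂ τ
  have hΦ : ∀ a b, Φ a b = τ (a * b) := fun _ _ => rfl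
  have hΦinj : Function.Injective Φ := LinearMap.ker_eq_bot.mp (LinearMap.ker_eq_bot'.mpr fun a ha =>
    hτnd a fun d => by rw [← hΦ, ha]; rfl)
  obtain ⟨α, hα⟩ := (LinearMap.injective_iff_surjective_of_finrank_eq_finrank
    (Subspace.dual_finrank_eq (K := F) (V := K)).symm).mp hΦinj lam
  have hlamτ : ∀ k, lam k = τ (α * k) := fun k => by rw [← hα, hΦ]
  have hα0 : α ≠ 0 := by
    intro h
    obtain ⟨x, hx⟩ := ((hermForm_unitary hF).nondegenerate v hv).1
    obtain ⟨k, rfl⟩ := hEsurj x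
    apply hx
    show lam k = 0
    rw [hlamτ, h, zero_mul, map_zero]
  have hlamσ : ∀ k, lam (σK k) = lam k ^ 2 := by
    intro k
    show hq (adjU hF (k : M5) *ᵥ v) v = hq ((k : M5) *ᵥ v) v ^ 2
    rw [herm_adjU hF, adjU_adjU]
    exact (H.conj_symm _ _)
  have hτfr : ∀ w, τ (w ^ 32) = τ w ^ 2 := by
    intro w
    apply ι.injective
    rw [map_pow ι, hτ, hτ]
    have e32 : T (w ^ 32) = T w ^ 2 ^ 5 := by
      simp only [T, show (32 : ℕ) = 2 ^ 5 by norm_num, hfr]
      simp only [← pow_mul]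
      norm_num
    have e2 : T w ^ 16 = T w := by rw [show 16 = 4 * 4 by norm_num, pow_mul, hT4, hT4]
    rw [e32, show 2 ^ 5 = 16 * 2 by norm_num, pow_mul, e2]
  have hαfix : α ^ 32 = α := by
    have hfrob : ∀ w : K, ∃ k, k ^ 32 = w := fun w => ⟨w ^ 32, by rw [← pow_mul]; exact hpow1024 w⟩
    refine sub_eq_zero.mp (hτnd _ fun d => ?_)
    obtain ⟨k, hk⟩ := hfrob (P d)
    rw [sub_mul, map_sub, ← hk, ← mul_pow, hτfr, ← hlamτ, ← hlamσ, hσ32, hlamτ, sub_self]
  obtain ⟨g₀, hg₀⟩ := IsCyclic.exists_generator (α := Kˣ)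
  have hord : orderOf g₀ = 1023 := by
    rw [orderOf_eq_card_of_forall_mem_zpowers hg₀, Nat.card_eq_fintype_card, Fintype.card_units, hKc]
  obtain ⟨z, hz0, hz⟩ : ∃ z : K, z ≠ 0 ∧ α * z ^ 33 = 1 := by
    obtain ⟨t, ht⟩ := (mem_powers_iff_mem_zpowers.mpr (hg₀ (Units.mk0 α hα0)) : _ ∈ Submonoid.powers g₀)
    have h31 : (Units.mk0 α hα0) ^ 31 = 1 := by
      refine Units.ext ?_
      have h1 : α ^ 31 * α = α := by rw [← pow_succ]; exact hαfix
      exact mul_right_cancel₀ hα0 (by simpa using h1)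
    have ht' : g₀ ^ t = Units.mk0 α hα0 := ht
    rw [← ht', ← pow_mul] at h31
    obtain ⟨c, hc⟩ : 33 ∣ t := by
      have h1 := orderOf_dvd_of_pow_eq_one h31
      rw [hord] at h1
      exact Nat.dvd_of_mul_dvd_mul_right (show 0 < 31 by norm_num) h1
    refine ⟨((g₀ ^ c)⁻¹ : Kˣ), Units.ne_zero _, ?_⟩
    have h1 := congrArg Units.val ht'
    rw [hc, mul_comm, pow_mul, Units.val_pow_eq_pow_val, Units.val_mk0] at h1
    rw [← h1, ← mul_pow, Units.mul_inv, one_pow]
  let u : ZMod 11 → (Fin 5 → F) := fun d => E (P d * z)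
  have hσP : ∀ d, σK (P d) = P (-d) := fun d => by rw [hσ32, hPpow, misc_facts.1]
  have hgram : ∀ (k k' : K) (i j : ZMod 11), hq (E (P i * (k * z))) (E (P j * (k' * z)))
      = τ (σK k' * k * P (i - j)) := by
    intro k k' i j
    rw [hlam, hlamτ, map_mul σK, map_mul σK, hσP, hσ32 z, sub_eq_add_neg, ← hPmul]
    congr 1
    linear_combination (σK k' * k * (P i * P (-j))) * hz
  have hgram0 : ∀ i j, hq (u i) (u j) = τ (P (i - j)) := fun i j => by
    have := hgram 1 1 i j
    simpa [u] using this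
  have hu0 : ∀ d, u d = (P d : M5) *ᵥ u 0 := fun d => by
    simp only [u, hP0, one_mul]; exact hEmul _ _
  refine ⟨u, η, ⟨fun i j => by rw [hgram0, hτP], ?_⟩, ?_, ?_⟩
  · have := hli.map' (E ∘ₗ LinearMap.mulRight F z) (LinearMap.ker_eq_bot.mpr
      (hEinj.comp (mul_left_injective₀ hz0)))
    exact this
  · rintro g ⟨hg, hgU, hgd⟩
    let cg : K →+* K :=
      { toFun := fun k => ⟨cj g (k : M5), (hg _).mp k.2⟩
        map_one' := Subtype.ext (map_one (cj g))
        map_mul' := fun a b => Subtype.ext (map_mul (cj g) _ _)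
        map_zero' := Subtype.ext (map_zero (cj g))
        map_add' := fun a b => Subtype.ext (map_add (cj g) _ _) }
    have hcι : ∀ a, cg (ι a) = ι a := fun a => Subtype.ext ((cj g).commutes a)
    obtain ⟨m', -, hm'⟩ := hprim.eq_pow_of_pow_eq_one (ξ := cg y) (by rw [← map_pow, hy11, map_one])
    set m : ZMod 11 := (m' : ZMod 11) with hm
    have hcP : ∀ d, cg (P d) = P (m * d) := fun d => by
      show cg (y ^ d.val) = _
      rw [map_pow, ← hm', hP, ← hm, hPpow, ZMod.natCast_zmod_val, mul_comm]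
    have hmq : gcoef m = (0, 1) := by
      have h1 : cg (S 1) = S m := by
        simp only [S, map_add, hcP, mul_comm m, one_mul, mul_one]
      rw [← hη, hcι, hη, ← hTP, ← hTP, ← hτ, ← hτ] at h1
      have h3 := ι.injective h1
      rw [hτ1, hτP] at h3
      rcases gcoef_ne m with h | h | h
      · rw [h] at h3
        simp [ZMod.val_one] at h3
        exact absurd (by rw [h3]; norm_num) hηne
      · exact h
      · rw [h] at h3
        simp [ZMod.val_one] at h3
    obtain ⟨k', hk'⟩ := hEsurj ((g : M5) *ᵥ E z)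
    set k := k' * z⁻¹ with hk
    have hgu : ∀ d, (g : M5) *ᵥ u d = E (P (m * d) * (k * z)) := fun d => by
      rw [hk, inv_mul_cancel_right₀ hz0]
      simp only [u]
      rw [hEmul, ← mulVec_cj, ← hk', ← hcP, hEmul]
      rfl
    have hk33 : k ^ 33 = 1 := by
      refine sub_eq_zero.mp (hτnd _ fun e => ?_)
      have hm5 := (gcoef_mul m e hmq).2
      have h1 : hq ((g : M5) *ᵥ u (m ^ 4 * e)) ((g : M5) *ᵥ u 0) = hq (u (m ^ 4 * e)) (u 0) := hgU _ _
      rw [hgu, hgu, hgram, hgram0, sub_zero, mul_zero, sub_zero, ← mul_assoc m (m ^ 4) e, ← pow_succ' m, hm5, one_mul, hσ32,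
        ← pow_succ, hτP (m ^ 4 * e), ← (gcoef_mul m (m ^ 4 * e) hmq).1, ← mul_assoc m (m ^ 4) e, ← pow_succ' m, hm5,
        one_mul, ← hτP] at h1
      rw [sub_mul, one_mul, map_sub, h1, sub_self]
    obtain ⟨a, ha⟩ := hfix4 (k ^ 11) (by rw [← pow_mul]; linear_combination k ^ 11 * hk33)
    have ha3 : a ^ 3 = 1 := ι.injective (by rw [map_pow, ha, ← pow_mul, map_one]; exact hk33)
    obtain ⟨b', -, hb'⟩ := hprim.eq_pow_of_pow_eq_one (ξ := k * ι a) (by
      rw [mul_pow, ← ha, ← pow_succ', ← map_pow, show (11 + 1 : ℕ) = 3 * 4 by norm_num, pow_mul, ha3, one_pow,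
        map_one])
    set b : ZMod 11 := (b' : ZMod 11) with hb
    have hkb : k * ι a = P b := by rw [← hb', hP]
    let G0 : M5 := a • (g : M5)
    have hG0 : ∀ d, G0 *ᵥ u d = u (m * d + b) := fun d => by
      rw [Matrix.smul_mulVec, hgu, ← map_smul, Algebra.smul_def, ← hι]
      simp only [u, ← hPmul, ← hkb]
      congr 1
      ring
    have hit : ∀ j : ℕ, ∃ c : ZMod 11, ∀ d, (G0 ^ j) *ᵥ u d = u (m ^ j * d + c) := by
      intro j
      induction j with
      | zero => exact ⟨0, fun d => by simp⟩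
      | succ j ih =>
        obtain ⟨c, hc⟩ := ih
        refine ⟨m * c + b, fun d => ?_⟩
        rw [pow_succ', ← Matrix.mulVec_mulVec, hc, hG0]
        congr 1
        ring
    obtain ⟨c, hc⟩ := hit 5
    have hG55 : G0 ^ 55 = 1 := by
      have hm5 := (gcoef_mul m 0 hmq).2
      have h11 : ∀ (t : ℕ) d, ((G0 ^ 5) ^ t) *ᵥ u d = u (d + t * c) := by
        intro t
        induction t with
        | zero => intro d; simp
        | succ t ih =>
          intro d
          rw [pow_succ', ← Matrix.mulVec_mulVec, ih, hc, hm5, one_mul]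
          congr 1
          push_cast
          ring
      refine Matrix.toLin'.injective (LinearMap.ext fun x => ?_)
      simp only [Matrix.toLin'_apply, Matrix.one_mulVec]
      obtain ⟨k, rfl⟩ := hEsurj x
      obtain ⟨k, rfl⟩ : ∃ k', k' * z = k := ⟨k * z⁻¹, inv_mul_cancel_right₀ hz0 k⟩
      induction hspanK k using Submodule.span_induction with
      | mem w hw =>
        obtain ⟨j, rfl⟩ := hw
        show G0 ^ 55 *ᵥ u _ = u _
        rw [show 55 = 5 * 11 by norm_num, pow_mul, h11, misc_facts.2.2.1, zero_mul, add_zero]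
      | zero => simp
      | add a b _ _ ha hb => rw [add_mul, map_add, Matrix.mulVec_add, ha, hb]
      | smul c a _ ha => rw [smul_mul_assoc, map_smul, Matrix.mulVec_smul, ha]
    have ha1 : a = 1 := by
      have h1 := congrArg Matrix.det hG55
      have h3 : (g : M5).det = 1 := Transvect.mem_sl_iff.mp hgd
      rw [Matrix.det_pow, Matrix.det_one, Matrix.det_smul, h3, mul_one, Fintype.card_fin, ← pow_mul] at h1
      have h4 : a ^ (5 * 55) = a ^ 2 := by
        rw [show 5 * 55 = 3 * 91 + 2 by norm_num, pow_add, pow_mul, ha3, one_pow, one_mul]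
      rw [h4] at h1
      calc a = a * a ^ 2 := by rw [h1, mul_one]
        _ = 1 := by rw [← pow_succ', ha3]
    refine ⟨m, b, fun i => ?_⟩
    have := hG0 i
    simpa [G0, ha1] using this
  · intro g hg hgu hgu1
    let cg : K →+* K :=
      { toFun := fun k => ⟨cj g (k : M5), (hg _).mp k.2⟩
        map_one' := Subtype.ext (map_one (cj g))
        map_mul' := fun a b => Subtype.ext (map_mul (cj g) _ _)
        map_zero' := Subtype.ext (map_zero (cj g))
        map_add' := fun a b => Subtype.ext (map_add (cj g) _ _) }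
    have h11 : cg y ^ 11 = 1 := by rw [← map_pow, hy11, map_one]
    have h1 : E (cg y * z) = E ((P 10 + 1) * z) := by
      rw [add_mul, map_add, one_mul]
      calc E (cg y * z) = cj g (y : M5) *ᵥ ((g : M5) *ᵥ u 0) := by
            rw [hgu, hEmul]; simp only [u, hP0, one_mul]; rfl
        _ = (g : M5) *ᵥ u 1 := by rw [mulVec_cj, hu0 1, hP1]
        _ = _ := by rw [hgu1]; simp only [u, hP0, one_mul]
    have h2' : cg y = P 10 + 1 := mul_right_cancel₀ hz0 (hEinj h1)
    rw [h2'] at h11
    have h33 : (P 10 + 1) ^ 32 * (P 10 + 1) = 1 := by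
      rw [← pow_succ, show 32 + 1 = 11 * 3 by norm_num, pow_mul, h11, one_pow]
    rw [show (32 : ℕ) = 2 ^ 5 by norm_num, hfr, one_pow, show (2 : ℕ) ^ 5 = 32 by norm_num, hPpow,
      ne_facts.2.2] at h33
    have h4 : P 10 * P 1 = 1 := by rw [hPmul, misc_facts.2.1, hP0]
    have h5 : P 1 ^ 2 + P 1 + 1 = 0 := by
      linear_combination P 1 * h33 - (P 1 + 1) * h4 + (P 1) * 0 * h2K
    have h6 : P 1 ^ 3 = 1 := by linear_combination (P 1 - 1) * h5
    rw [hPpow, ← hP0, ne_facts.2.1] at h6
    exact ne_facts.1 (hPinj h6)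

/-- The field normaliser is not maximal in `SU_5(2)`. -/
theorem field_not_maximal (hF : Fintype.card F = 2 ^ 2) {H : Subgroup (GL (Fin 5) F)}
    (hH : Geo.IsMaximalIn Γ H) {K : Subalgebra F M5} (hK : Geo.IsFieldSubalgebra 5 K)
    (hadj : ∀ k ∈ K, adjU hF k ∈ K) : H ≠ Geo.subalgebraNormalizer K ⊓ Γ := by
  intro heq
  have h2 : (2 : F) = 0 := by
    obtain ⟨p, m, hp, hchar, h2m, hm⟩ := Unitary.exists_prime_pow hF
    have h : p = 2 := ((Nat.prime_dvd_prime_iff_eq hp Nat.prime_two).mp (h2m ▸ dvd_pow_self p (by omega)))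
    subst h
    exact CharP.cast_eq_zero F 2
  obtain ⟨u, η, hm, hN, hno⟩ := exists_model_of_field hF h2 hK hadj
  obtain ⟨s, hs, hsu⟩ := exists_flip hF h2 hm
  have hu : hq (u 0) (u 0) = 1 := by
    rw [hm.gram, sub_self, show gcoef 0 = (1, 0) from rfl]; simp [ZMod.val_one]
  let Pres : Subgroup (GL (Fin 5) F) :=
    { carrier := {g | ((g : M5) *ᵥ ·) '' config u = config u}
      one_mem' := by simp
      mul_mem' := fun {a b} ha hb => by
        show _ = _
        have : (((a * b : GL (Fin 5) F) : M5) *ᵥ ·) = ((a : M5) *ᵥ ·) ∘ ((b : M5) *ᵥ ·) := by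
          funext x; simp [Matrix.mulVec_mulVec]
        rw [this, Set.image_comp, show _ '' config u = config u from hb]
        exact ha
      inv_mem' := fun {a} ha => by
        show _ = _
        conv_lhs => rw [← show _ '' config u = config u from ha]
        rw [← Set.image_comp]
        have : (((a⁻¹ : GL (Fin 5) F) : M5) *ᵥ ·) ∘ ((a : M5) *ᵥ ·) = id := by
          funext x; simp [Matrix.mulVec_mulVec]
        rw [this, Set.image_id] }
  have hlin : ∀ (g : GL (Fin 5) F) (π : Option (ZMod 11) → Option (ZMod 11)) (t : Fin 5 → F),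
      (∀ p, (g : M5) *ᵥ p.elim 0 u = (π p).elim 0 u + t) → t + t = 0 → g ∈ Pres := by
    intro g π t h ht
    refine image_config hF ?_
    rintro _ ⟨⟨p, p'⟩, rfl⟩
    refine ⟨(π p, π p'), ?_⟩
    simp only [Matrix.mulVec_add, h]
    rw [add_add_add_comm, ht, add_zero]
  have hHP : H ≤ Pres ⊓ Γ := by
    intro g hg
    rw [heq] at hg
    refine ⟨?_, hg.2⟩
    obtain ⟨m, b, hmb⟩ := hN g hg
    refine hlin g (fun p => p.map fun i => m * i + b) 0 ?_ (add_zero _)
    rintro (_ | i)
    · simp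
    · simp [hmb]
  have hsP : s ∈ Pres ⊓ Γ := by
    refine ⟨hlin s flip (u 0) ?_ ?_, hs⟩
    · rintro (_ | i)
      · simp only [flip, Option.elim, Matrix.mulVec_zero]
        funext k; simp only [Pi.zero_apply, Pi.add_apply]; linear_combination -(u 0 k) * h2
      · simp only [Option.elim, hsu, flip]
        split_ifs with h
        · simp
        · rfl
    · funext k; simp only [Pi.zero_apply, Pi.add_apply]; linear_combination u 0 k * h2
  rcases hH.2 (Pres ⊓ Γ) hHP inf_le_right with h | h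
  · rw [h, heq] at hsP
    refine hno s hsP.1 ?_ ?_
    · rw [hsu, if_pos rfl]
    · rw [hsu, if_neg (by decide)]; rfl
  · obtain ⟨g, hg, hne⟩ := exists_not_preserving hF hu
    rw [← h] at hg
    exact hne hg.1

end Cfsg.Agent.PrimeDim.SU5Two
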